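import Cfsg.Agent.Lib.Spor.JFourType.Penta.Orbits
import Cfsg.Agent.Lib.Spor.JFourType.Mathieu.Split

/-!
A two-subgroup of order 1024 meeting the elementary abelian group trivially, and a complement in the normaliser
isomorphic to the special linear group.
-/

set_option autoImplicit false
set_option maxRecDepth 100000
set_option linter.style.haveILetI false

open Cfsg
open Cfsg.Agent.Spor.Cos.J4Sub (app mm app_mm app_xor app_zero)

namespace Cfsg.Agent.Spor.JFour

namespace Penta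

/-- A singular complement to the singular space. -/
def wD : List ℕ := [64, 128, 256, 512, 1040, 2080]

/-- The matrix of the outer element before adjusting. -/
def mF0 : List ℕ := mm (mm (evM (asg mS mW mQ) [7]) mO) (evM (asg mS mW mQ) [6, 4, 4])

/-- The exact action of the first inner involution. -/
def a16 : List ℕ := [1, 10, 20, 8, 16, 32, 64, 256, 128, 512]

/-- The exact action of the outer element. -/
def aF : List ℕ := [1, 20, 10, 16, 8, 64, 32, 128, 256, 512]

/-- A linear map carrying the transvection to the transposition. -/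
def cF : List ℕ := [4, 8, 3, 1, 16]

/-- The inverse of its action. -/
def cFi : List ℕ := [512, 4, 6, 26, 18, 256, 128, 96, 64, 1]

/-- The index of a word in normal form. -/
def d16Idx (u : Bool × Bool × Bool × Bool) : ℕ :=
  bm (bm (bm (if u.1 then 224 else 0) (if u.2.1 then 91 else 0)) (if u.2.2.1 then bm (bm 16 91) 16 else 0))
    (if u.2.2.2 then 16 else 0)

/-- The exact action by columns. -/
def actCols (M : List ℕ) (p : ℕ → ℕ) : List ℕ :=
  [1] ++ (List.range 6).map (fun i => 2 * cw (app M (wc (2 ^ i)))) ++ [128 * p 1, 128 * p 2, 128 * p 4]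

theorem d_check : invI 16 = true ∧ invI 91 = true ∧ invI (bm (bm 16 91) 16) = true ∧
    invI (bm 91 (bm (bm 16 91) 16)) = true ∧ bm 91 (bm (bm 16 91) 16) = bm (bm (bm 16 91) 16) 91 ∧
    mm (tbEl 16) (tbEl 91) = mm (tbEl (bm (bm 16 91) 16)) (tbEl 16) ∧
    mm (tbEl 224) (tbEl 16) = mm (tbEl 16) (tbEl 224) ∧ mm (tbEl 224) (tbEl 91) = mm (tbEl 91) (tbEl 224) ∧
    mm mT mF0 = tbEl 224 ∧ mm (tbEl 224) (tbEl 224) = mI := by decide +kernel

theorem d16Idx_check : (∀ u, d16Idx u < 256) ∧ (∀ u, d16Idx u = 0 → u = (false, false, false, false)) ∧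
    (∀ u v, d16Idx u = d16Idx v → u = v) ∧ (∀ u, ∀ k < 8, d16Idx u = ux k → k = 0) := by decide +kernel

theorem keep_check : keepsW (tbEl 16) = true ∧ keepsW (tbEl 91) = true ∧ keepsW (tbEl 224) = true ∧
    mm (tbEl 16) (tbEl (ux 1)) = mm (tbEl (ux 2)) (tbEl 16) ∧
    mm (tbEl 16) (tbEl (ux 2)) = mm (tbEl (ux 1)) (tbEl 16) ∧
    mm (tbEl 16) (tbEl (ux 4)) = mm (tbEl (ux 4)) (tbEl 16) ∧
    mm (tbEl 224) (tbEl (ux 1)) = mm (tbEl (ux 1)) (tbEl 224) ∧
    mm (tbEl 224) (tbEl (ux 2)) = mm (tbEl (ux 2)) (tbEl 224) ∧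
    mm (tbEl 224) (tbEl (ux 4)) = mm (tbEl (ux 4)) (tbEl 224) ∧
    actCols (tbEl 16) (fun k => [0, 2, 1, 3, 4].getD k 0) = a16 ∧ actCols (tbEl 224) id = aF := by decide +kernel

theorem cF_check : ((List.range 32).all fun a => decide (app cF a < 32) && ((a == 0) || app cF a != 0)) = true ∧
    ((List.range 10).all fun t =>
      decide (app cFi (2 ^ t) < 1024) && (app (mm (gCols (app cF)) wInv) (app cFi (2 ^ t)) == 2 ^ t) &&
      (app (mm (gCols (app cF)) wInv) (app a16 (2 ^ t)) == app aF (app (mm (gCols (app cF)) wInv) (2 ^ t))) &&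
      decide (app a16 (2 ^ t) < 1024)) = true ∧
    ((List.range 1024).all fun u => u ^^^ app aF u != 1) = true := by decide +kernel

theorem wD_check : ((List.range 64).all fun n => decide (app wD n < 4096) &&
    ([mI, mT, mT2].all fun M => (List.range 64).any fun m => app M (app wD n) == app wD m) &&
    ([tbEl 16, tbEl 91, tbEl 224].all fun M => (List.range 64).any fun m => app M (app wD n) == app wD m) &&
    ((n == 0) || ((app wD n != 0) && !(inW (app wD n)))) &&
    (List.range 64).all fun m => !(bv (app wD n) (app wD m))) = true := by decide +kernel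

theorem wD_spec {n : ℕ} (hn : n < 64) : app wD n < 4096 ∧
    (∀ M ∈ [tbEl 16, tbEl 91, tbEl 224], ∃ m < 64, app M (app wD n) = app wD m) ∧
    (n ≠ 0 → app wD n ≠ 0 ∧ inW (app wD n) = false) ∧
    ∀ m < 64, Coord.Flat (app wD n) (app wD m) := by
  have h := fun {n} (hn : n < 64) => List.all_eq_true.1 wD_check n (List.mem_range.2 hn)
  simp only [Bool.and_eq_true, decide_eq_true_eq, List.all_eq_true, List.any_eq_true, List.mem_range, beq_iff_eq,
    Bool.or_eq_true, bne_iff_ne, Bool.not_eq_true'] at h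
  refine ⟨(h hn).1.1.1.1, (h hn).1.1.2, fun h0 => (h hn).1.2.resolve_left h0, fun m hm M hM N hN => ?_⟩
  obtain ⟨i, hi, ei⟩ := (h hn).1.1.1.2 M hM
  obtain ⟨j, hj, ej⟩ := (h hm).1.1.1.2 N hN
  rw [ei, ej]
  exact (h hi).2 j hj

theorem units_two : ∀ x : ZMod 2, x ≠ 0 → x = 1 := by decide +kernel

end Penta

/-- The two linear groups coincide. -/
theorem glToSL : Nonempty (GL (Fin 5) (ZMod 2) ≃* Matrix.SpecialLinearGroup (Fin 5) (ZMod 2)) := by
  refine ⟨(MulEquiv.ofBijective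
    (Matrix.SpecialLinearGroup.toGL (n := Fin 5) (R := ZMod 2)) ⟨fun a b e => ?_, fun g => ?_⟩).symm⟩
  · exact Subtype.ext (congrArg Units.val e)
  · have hd : (g : Matrix (Fin 5) (Fin 5) (ZMod 2)).det = 1 :=
      Penta.units_two _ ((Matrix.isUnit_iff_isUnit_det _).1 g.isUnit).ne_zero
    exact ⟨⟨_, hd⟩, Units.ext (Matrix.SpecialLinearGroup.coe_GL_coe_matrix _)⟩

namespace Pen

variable {G : Type*} [Group G] {z : G} {P : Subgroup G} {S : Setting z P} (B : Pen S) [Finite G]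
open Penta

/-- The exact action of an element normalising the three-group and permuting the eight matrices. -/
theorem conj_actCols {g : G} {M : List ℕ} (hg : S.NC g) (hM : B.F.toCoord.Rep g M) (hW : keepsW M = true)
    {p : ℕ → ℕ} (hp : ∀ k ∈ [1, 2, 4], p k < 8 ∧ p k ≠ 0 ∧ mm M (tbEl (ux k)) = mm (tbEl (ux (p k))) M) :
    ∀ v < 2 ^ 10, g * B.Pv v * g⁻¹ = B.Pv (app (actCols M p) v) ∧ app (actCols M p) v < 1024 := by
  refine xor_induction (p := fun v => g * B.Pv v * g⁻¹ = B.Pv (app (actCols M p) v) ∧ app (actCols M p) v < 1024)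
    ?_ 10 fun t ht m hm ih => ?_
  · rw [app_zero, B.Pv_zero]; exact ⟨by group, by norm_num⟩
  have hbase : g * B.Pv (2 ^ t) * g⁻¹ = B.Pv (app (actCols M p) (2 ^ t)) ∧ app (actCols M p) (2 ^ t) < 1024 := by
    have hlen : (actCols M p).length = 10 := by simp [actCols]
    rw [app_two_pow (by rw [hlen]; exact ht)]
    have hU : ∀ k ∈ [1, 2, 4], g * B.Pv (128 * k) * g⁻¹ = B.Pv (128 * p k) ∧ 128 * p k < 1024 := fun k hk => by
      obtain ⟨h1, h2, h3⟩ := hp k hk
      have hk8 : k < 8 ∧ k ≠ 0 := by fin_cases hk <;> decide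
      rw [B.Pv_high hk8.1, B.Pv_high h1, B.bU_ι hk8.1 hk8.2, B.bU_ι h1 h2,
        B.ι_conj hg hM ((ux_spec hk8.1).2.1 hk8.2) ((ux_spec h1).2.1 h2) h3]
      exact ⟨rfl, by omega⟩
    have hL : ∀ i < 6, g * B.Pv (2 * 2 ^ i) * g⁻¹ = B.Pv (2 * cw (app M (wc (2 ^ i)))) ∧
        2 * cw (app M (wc (2 ^ i))) < 1024 := fun i hi => by
      have hi' : 2 ^ i < 64 := Nat.pow_lt_pow_right (by norm_num) hi
      rw [B.Pv_low hi', B.Pv_low (cw_lt _)]
      exact ⟨B.conj_lW hg hM hW hi', by have := cw_lt (app M (wc (2 ^ i))); omega⟩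
    interval_cases t
    · simp only [actCols, List.cons_append, List.getD_cons_zero, pow_zero]
      exact ⟨by rw [B.Pv_one, hg.1, mul_inv_cancel_right], by norm_num⟩
    iterate 6 (simp only [actCols, List.range, List.range.loop, List.map_cons, List.map_nil, List.cons_append,
        List.nil_append, List.getD_cons_succ, List.getD_cons_zero]; first
      | exact hL 0 (by norm_num) | exact hL 1 (by norm_num) | exact hL 2 (by norm_num) | exact hL 3 (by norm_num)
      | exact hL 4 (by norm_num) | exact hL 5 (by norm_num))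
    all_goals
      simp only [actCols, List.range, List.range.loop, List.map_cons, List.map_nil, List.cons_append,
        List.nil_append, List.getD_cons_succ, List.getD_cons_zero]
      first | exact hU 1 (by simp) | exact hU 2 (by simp) | exact hU 4 (by simp)
  have h2 : (2 : ℕ) ^ t < 1024 := Nat.pow_lt_pow_right (by norm_num) (show t < 10 from ht)
  have hm' : m < 1024 := lt_trans hm h2
  rw [app_xor]
  refine ⟨?_, Nat.xor_lt_two_pow (n := 10) hbase.2 ih.2⟩
  rw [← B.Pv_mul h2 hm', ← B.Pv_mul hbase.2 ih.2, ← hbase.1, ← ih.1]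
  group

/-- The outer element. -/
noncomputable def outF : G := B.F.R.t * (B.F.lw [7] * B.F.o * B.F.lw [6, 4, 4])

theorem outF_spec : S.NC B.outF ∧ B.F.toCoord.Rep B.outF (tbEl 224) ∧ B.outF * B.outF ∈ ({1, z} : Set G) := by
  obtain ⟨a1, -, a3⟩ := B.F.lw_spec (w := [7]) (by simp)
  obtain ⟨b1, -, b3⟩ := B.F.lw_spec (w := [6, 4, 4]) (by simp)
  have hNC : S.NC B.outF :=
    S.nc_mul (S.nc_CP B.F.toCoord.t_mem) (S.nc_mul (S.nc_mul (S.nc_CP a1) B.F.nc_o) (S.nc_CP b1))
  have hrep : B.F.toCoord.Rep B.outF (tbEl 224) := by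
    have h : B.F.toCoord.Rep B.outF (mm mT mF0) :=
      B.F.toCoord.rep_mul B.F.toCoord.rep_t (B.F.toCoord.rep_mul (B.F.toCoord.rep_mul a3 B.F.ro) b3)
    rwa [d_check.2.2.2.2.2.2.2.2.1] at h
  refine ⟨hNC, hrep, ?_⟩
  have hE : B.outF * B.outF ∈ twoCoreOfCentralizer z := by
    have := B.F.toCoord.rep_mul hrep hrep
    rw [d_check.2.2.2.2.2.2.2.2.2] at this
    exact B.F.toCoord.rep_mI_iff.1 this
  have hCP : B.outF * B.outF ∈ CP z P := by
    obtain ⟨hz, hp⟩ := S.nc_mul hNC hNC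
    refine S.mem_iff.2 ⟨hz, ?_⟩
    rcases hNC.2 with e | e
    · rw [← mul_inv_eq_iff_eq_mul, show B.outF * B.outF * S.p * (B.outF * B.outF)⁻¹ =
        B.outF * (B.outF * S.p * B.outF⁻¹) * B.outF⁻¹ by group, e, e]
    · rw [← mul_inv_eq_iff_eq_mul, show B.outF * B.outF * S.p * (B.outF * B.outF)⁻¹ =
        B.outF * (B.outF * S.p * B.outF⁻¹) * B.outF⁻¹ by group, e,
        show B.outF * (S.p * S.p) * B.outF⁻¹ = (B.outF * S.p * B.outF⁻¹) * (B.outF * S.p * B.outF⁻¹) by group, e,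
        S.p_four]
  rcases S.CP_core hCP hE with e | e <;> simp [e]

theorem normalizer_of_rep {g : G} {M : List ℕ} (hM : B.F.toCoord.Rep g M) (hW : keepsW M = true) :
    g ∈ Subgroup.normalizer (B.A0 : Set G) :=
  B.mem_normalizer_of_keeps hM.hz fun i hi => ⟨_, List.all_eq_true.1 hW i (List.mem_range.2 hi),
    hM.eq _ (wc_spec (Nat.pow_lt_pow_right (by norm_num) hi : 2 ^ i < 64)).1⟩

theorem ι_rep {e : ℕ} (he : invI e = true) : B.ι e ∈ CP z P ∧ B.F.toCoord.Rep (B.ι e) (tbEl e) :=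
  ⟨(B.ι_spec e he).mem, (B.ι_spec e he).rep⟩

/-- The outer element is an involution. -/
theorem outF_sq : B.outF * B.outF = 1 := by
  obtain ⟨hNC, hrep, hsq⟩ := B.outF_spec
  obtain ⟨k16, -, kF, p1, p2, p4, q1, q2, q4, e16, eF⟩ := keep_check
  rcases hsq with h | h
  · exact h
  exfalso
  obtain ⟨h16, h16r⟩ := B.ι_rep d_check.1
  have hA := B.conj_actCols hNC hrep kF (p := id) (fun k hk => by
    fin_cases hk
    exacts [⟨by decide, by decide, q1⟩, ⟨by decide, by decide, q2⟩, ⟨by decide, by decide, q4⟩])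
  have hB := B.conj_actCols (S.nc_CP h16) h16r k16 (p := fun k => [0, 2, 1, 3, 4].getD k 0) (fun k hk => by
    fin_cases hk
    exacts [⟨by decide, by decide, p1⟩, ⟨by decide, by decide, p2⟩, ⟨by decide, by decide, p4⟩])
  rw [eF] at hA
  rw [e16] at hB
  obtain ⟨c1, c2, c3⟩ := cF_check
  simp only [List.all_eq_true, List.mem_range, Bool.and_eq_true, decide_eq_true_eq, Bool.or_eq_true, beq_iff_eq,
    bne_iff_ne] at c1 c2 c3
  obtain ⟨k, hk, hI⟩ := B.exists_of_list (M := cF) (fun a ha => (c1 a ha).1)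
    (fun a ha e => (c1 a ha).2.resolve_right fun hne => hne e)
  set K := mm (gCols (app cF)) wInv
  have hKi : ∀ v < 2 ^ 10, app cFi v < 1024 ∧ app K (app cFi v) = v := by
    refine xor_induction (p := fun v => app cFi v < 1024 ∧ app K (app cFi v) = v) ?_ 10 fun t ht m _ ih => ?_
    · exact ⟨by rw [app_zero]; norm_num, by rw [app_zero, app_zero]⟩
    · obtain ⟨⟨⟨h1, h2⟩, -⟩, -⟩ := c2 t ht
      rw [app_xor, app_xor, h2, ih.2]
      exact ⟨Nat.xor_lt_two_pow (n := 10) h1 ih.1, rfl⟩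
  have hcomm : ∀ v < 2 ^ 10, app K (app a16 v) = app aF (app K v) := by
    refine xor_induction (p := fun v => app K (app a16 v) = app aF (app K v)) ?_ 10 fun t ht m _ ih => ?_
    · simp only [app_zero]
    · simp only [app_xor, ih, (c2 t ht).1.2]
  have hself : Subgroup.centralizer (B.A0 : Set G) ≤ B.A0 := B.centralizer_A0.le
  have hF : ∀ x ∈ B.A0, B.outF * x * B.outF⁻¹ ∈ B.A0 := fun x hx =>
    (Subgroup.mem_normalizer_iff.1 (B.normalizer_of_rep hrep kF) x).1 hx
  obtain ⟨x, hx, ex⟩ := Mathieu.sq_of_invol hself (g := B.outF) (n := k * B.ι 16 * k⁻¹)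
    (by rw [show k * B.ι 16 * k⁻¹ * (k * B.ι 16 * k⁻¹) = k * (B.ι 16 * B.ι 16) * k⁻¹ by group,
      (B.ι_spec 16 d_check.1).sq]; group)
    (by rw [h]; exact B.z_mem_A0) B.A0_comm B.A0_sq hF (fun x hx => by
      obtain ⟨v, hv, rfl⟩ := hx
      obtain ⟨hv1, hv2⟩ := hKi v hv
      set u := app cFi v
      have e1 := (hI.conj_Pv B hv1).1
      rw [hv2] at e1
      rw [(hA v hv).1, show k * B.ι 16 * k⁻¹ * B.Pv v * (k * B.ι 16 * k⁻¹)⁻¹ =
          k * (B.ι 16 * (k⁻¹ * B.Pv v * k) * (B.ι 16)⁻¹) * k⁻¹ by group, ← e1,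
        show k⁻¹ * (k * B.Pv u * k⁻¹) * k = B.Pv u by group, (hB u hv1).1, (hI.conj_Pv B (hB u hv1).2).1,
        hcomm u hv1, hv2])
  obtain ⟨v, hv, rfl⟩ := hx
  rw [h, (hA v hv).1, B.Pv_mul hv (hA v hv).2] at ex
  exact c3 v hv (B.Pv_inj (by norm_num) (Nat.xor_lt_two_pow (n := 10) hv (hA v hv).2) (B.Pv_one.trans ex)).symm

/-- The two-group of sixteen. -/
noncomputable def D16 : Subgroup G := Subgroup.closure ({B.outF, B.ι 91, B.ι 16 * 1} : Set G)

theorem D16_forms {x : G} (hx : x ∈ B.D16) : ∃ u, B.F.toCoord.Rep x (tbEl (d16Idx u)) ∧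
    (u = (false, false, false, false) → x = 1) := by
  obtain ⟨hNC, hrep, -⟩ := B.outF_spec
  obtain ⟨i16, i91, ic, ibc, hbc, hconj, f16, f91, -, -⟩ := d_check
  obtain ⟨h16, r16⟩ := B.ι_rep i16
  obtain ⟨h91, r91⟩ := B.ι_rep i91
  have hab : B.outF * B.ι 91 = B.ι 91 * B.outF := mul_inv_eq_iff_eq_mul.1 (B.ι_conj hNC hrep i91 i91 f91)
  have hae : B.outF * B.ι 16 = B.ι 16 * B.outF := mul_inv_eq_iff_eq_mul.1 (B.ι_conj hNC hrep i16 i16 f16)
  have hc : B.ι 16 * 1 * B.ι 91 * (B.ι 16 * 1) = B.ι (bm (bm 16 91) 16) := by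
    have := B.ι_conj (S.nc_CP h16) r16 i91 ic hconj
    rwa [inv_eq_of_mul_eq_one_right (B.ι_spec 16 i16).sq, ← mul_one (B.ι 16)] at this
  have hbc' : B.ι 91 * (B.ι 16 * 1 * B.ι 91 * (B.ι 16 * 1)) = B.ι 16 * 1 * B.ι 91 * (B.ι 16 * 1) * B.ι 91 := by
    rw [hc]; exact B.ι_comm i91 ic hbc ibc
  obtain ⟨⟨i, j, k, l⟩, hu⟩ := Mathieu.closure_subset B.outF (B.ι 91) (B.ι 16) 1 B.outF_sq (B.ι_spec 91 i91).sq
    (B.ι_spec 16 i16).sq (one_mul 1) hab hae (by rw [mul_one, one_mul]) (by rw [mul_one, one_mul]) hbc' hx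
  refine ⟨(i, j, k, l), ?_, fun e => ?_⟩
  · rw [← hu]
    have r0 : B.F.toCoord.Rep 1 (tbEl 0) := by rw [tbEl_check.2]; exact B.F.toCoord.rep_one
    have p1 : B.F.toCoord.Rep (if i then B.outF else 1) (tbEl (if i then 224 else 0)) := by cases i <;> simp [r0, hrep]
    have p2 : B.F.toCoord.Rep (if j then B.ι 91 else 1) (tbEl (if j then 91 else 0)) := by cases j <;> simp [r0, r91]
    have p3 : B.F.toCoord.Rep (if k then B.ι 16 * 1 * B.ι 91 * (B.ι 16 * 1) else 1)
        (tbEl (if k then bm (bm 16 91) 16 else 0)) := by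
      cases k
      · simp [r0]
      · rw [if_pos rfl, if_pos rfl, hc]; exact (B.ι_rep ic).2
    have p4 : B.F.toCoord.Rep (if l then B.ι 16 * 1 else 1) (tbEl (if l then 16 else 0)) := by
      cases l <;> simp [r0, r16]
    have hlt : ∀ (b : Bool) (e : ℕ), e < 256 → (if b then e else 0) < 256 := fun b e he => by
      cases b <;> simp [he]
    have c256 : bm (bm 16 91) 16 < 256 := by decide +kernel
    have bm_lt : ∀ i j k : Bool, bm (bm (if i then 224 else 0) (if j then 91 else 0))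
        (if k then bm (bm 16 91) 16 else 0) < 256 ∧ bm (if i then 224 else 0) (if j then 91 else 0) < 256 := by
      decide +kernel
    have h := B.F.toCoord.rep_mul (B.F.toCoord.rep_mul (B.F.toCoord.rep_mul p1 p2) p3) p4
    rwa [tbEl_mul (hlt i 224 (by norm_num)) (hlt j 91 (by norm_num)),
      tbEl_mul (bm_lt i j k).2 (hlt k _ c256), tbEl_mul (bm_lt i j k).1 (hlt l 16 (by norm_num))] at h
  · simp only [Prod.mk.injEq] at e
    obtain ⟨rfl, rfl, rfl, rfl⟩ := e
    simpa using hu.symm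

theorem D16_le : B.D16 ≤ Subgroup.normalizer (B.A0 : Set G) := by
  obtain ⟨k16, k91, kF, -⟩ := keep_check
  rw [D16, Subgroup.closure_le]
  intro x hx
  simp only [Set.mem_insert_iff, Set.mem_singleton_iff] at hx
  rcases hx with rfl | rfl | rfl
  · exact B.normalizer_of_rep B.outF_spec.2.1 kF
  · exact B.normalizer_of_rep (B.ι_rep d_check.2.1).2 k91
  · rw [mul_one]; exact B.normalizer_of_rep (B.ι_rep d_check.1).2 k16

theorem card_D16 : Nat.card ↥B.D16 = 16 := by
  obtain ⟨i16, i91, ic, ibc, hbc, hconj, f16, f91, -, -⟩ := d_check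
  obtain ⟨hNC, hrep, -⟩ := B.outF_spec
  obtain ⟨h16, r16⟩ := B.ι_rep i16
  obtain ⟨h91, r91⟩ := B.ι_rep i91
  refine le_antisymm ?_ ?_
  · choose f hf hf1 using fun x : ↥B.D16 => B.D16_forms x.2
    have hinj : Function.Injective f := fun x y e => by
      have hd : (x : G)⁻¹ * y ∈ twoCoreOfCentralizer z := B.F.toCoord.eq_of_rep (hf x) (e ▸ hf y)
      obtain ⟨u, hu, hu1⟩ := B.D16_forms (x := (x : G)⁻¹ * y) (mul_mem (inv_mem x.2) y.2)
      have h0 : tbEl (d16Idx u) = tbEl 0 := by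
        rw [tbEl_check.2]
        exact B.F.toCoord.rep_unique hu (B.F.toCoord.rep_mI_iff.2 hd)
      have := hu1 (d16Idx_check.2.1 u (tbEl_inj (d16Idx_check.1 u) (by norm_num) h0))
      exact Subtype.ext (inv_mul_eq_one.1 this)
    refine le_trans (Nat.card_le_card_of_injective f hinj) ?_
    simp [Nat.card_eq_fintype_card]
  · have gF : B.outF ∈ B.D16 := Subgroup.subset_closure (Set.mem_insert _ _)
    have gb : B.ι 91 ∈ B.D16 := Subgroup.subset_closure (Set.mem_insert_of_mem _ (Set.mem_insert _ _))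
    have ga : B.ι 16 * 1 ∈ B.D16 :=
      Subgroup.subset_closure (Set.mem_insert_of_mem _ (Set.mem_insert_of_mem _ rfl))
    have hex : ∀ u, ∃ x : ↥B.D16, B.F.toCoord.Rep (x : G) (tbEl (d16Idx u)) := by
      rintro ⟨i, j, k, l⟩
      refine ⟨⟨(if i then B.outF else 1) * (if j then B.ι 91 else 1) *
        (if k then B.ι 16 * 1 * B.ι 91 * (B.ι 16 * 1) else 1) * (if l then B.ι 16 * 1 else 1), ?_⟩, ?_⟩
      · refine mul_mem (mul_mem (mul_mem ?_ ?_) ?_) ?_ <;> split_ifs <;>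
          first | exact one_mem _ | exact gF | exact gb | exact ga | exact mul_mem (mul_mem ga gb) ga
      have r0 : B.F.toCoord.Rep 1 (tbEl 0) := by rw [tbEl_check.2]; exact B.F.toCoord.rep_one
      have hc : B.F.toCoord.Rep (B.ι 16 * 1 * B.ι 91 * (B.ι 16 * 1)) (tbEl (bm (bm 16 91) 16)) := by
        rw [mul_one, ← tbEl_mul (by decide +kernel) (by norm_num), ← tbEl_mul (by norm_num) (by norm_num)]
        exact B.F.toCoord.rep_mul (B.F.toCoord.rep_mul r16 r91) r16
      have p1 : B.F.toCoord.Rep (if i then B.outF else 1) (tbEl (if i then 224 else 0)) := by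
        cases i <;> simp [r0, hrep]
      have p2 : B.F.toCoord.Rep (if j then B.ι 91 else 1) (tbEl (if j then 91 else 0)) := by cases j <;> simp [r0, r91]
      have p3 : B.F.toCoord.Rep (if k then B.ι 16 * 1 * B.ι 91 * (B.ι 16 * 1) else 1)
          (tbEl (if k then bm (bm 16 91) 16 else 0)) := by
        cases k
        · simp [r0]
        · exact hc
      have p4 : B.F.toCoord.Rep (if l then B.ι 16 * 1 else 1) (tbEl (if l then 16 else 0)) := by
        cases l <;> simp [r0, r16]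
      have hlt : ∀ (b : Bool) (e : ℕ), e < 256 → (if b then e else 0) < 256 := fun b e he => by
        cases b <;> simp [he]
      have c256 : bm (bm 16 91) 16 < 256 := by decide +kernel
      have bm_lt : ∀ i j k : Bool, bm (bm (if i then 224 else 0) (if j then 91 else 0))
          (if k then bm (bm 16 91) 16 else 0) < 256 ∧ bm (if i then 224 else 0) (if j then 91 else 0) < 256 := by
        decide +kernel
      have h := B.F.toCoord.rep_mul (B.F.toCoord.rep_mul (B.F.toCoord.rep_mul p1 p2) p3) p4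
      rwa [tbEl_mul (hlt i 224 (by norm_num)) (hlt j 91 (by norm_num)),
        tbEl_mul (bm_lt i j k).2 (hlt k _ c256), tbEl_mul (bm_lt i j k).1 (hlt l 16 (by norm_num))] at h
    choose f hf using hex
    have hinj : Function.Injective f := fun u v e => d16Idx_check.2.2.1 u v
      (tbEl_inj (d16Idx_check.1 u) (d16Idx_check.1 v) (B.F.toCoord.rep_unique (hf u) (e ▸ hf v)))
    refine le_trans ?_ (Nat.card_le_card_of_injective f hinj)
    simp [Nat.card_eq_fintype_card]

/-- Preimages of the complement of the singular space. -/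
def U64 : Subgroup G where
  carrier := {g | ∃ n < 64, B.F.toCoord.lh (app wD n) = g}
  one_mem' := ⟨0, by norm_num, by rw [app_zero]; exact B.F.toCoord.lh_zero⟩
  mul_mem' := by
    rintro _ _ ⟨m, hm, rfl⟩ ⟨n, hn, rfl⟩
    exact ⟨m ^^^ n, Nat.xor_lt_two_pow (n := 6) hm hn, by
      rw [B.F.toCoord.lh_mul_flat (wD_spec hm).1 (wD_spec hn).1 ((wD_spec hm).2.2.2 n hn), app_xor]⟩
  inv_mem' := by
    rintro _ ⟨n, hn, rfl⟩
    refine ⟨n, hn, eq_inv_of_mul_eq_one_left ?_⟩
    rw [B.F.toCoord.lh_mul_flat (wD_spec hn).1 (wD_spec hn).1 ((wD_spec hn).2.2.2 n hn), Nat.xor_self]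
    exact B.F.toCoord.lh_zero

theorem card_U64 : Nat.card ↥B.U64 = 64 := by
  rw [← Nat.card_fin 64]
  refine (Nat.card_eq_of_bijective (fun n : Fin 64 => (⟨B.F.toCoord.lh (app wD n), n, n.2, rfl⟩ : ↥B.U64)) ⟨?_, ?_⟩).symm
  · intro m n e
    have h := congrArg S.rep (congrArg Subtype.val e)
    rw [(B.F.toCoord.lh_spec _).2.1, (B.F.toCoord.lh_spec _).2.1] at h
    have h' := B.F.toCoord.inj _ (wD_spec m.2).1 _ (wD_spec n.2).1 h
    refine Fin.ext ?_
    by_contra hne
    have h0 : (m : ℕ) ^^^ n ≠ 0 := fun e => hne (by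
      have := congrArg (· ^^^ (n : ℕ)) e
      simpa [Nat.xor_assoc] using this)
    exact ((wD_spec (Nat.xor_lt_two_pow (n := 6) m.2 n.2)).2.2.1 h0).1 (by rw [app_xor, h', Nat.xor_self])
  · rintro ⟨_, n, hn, rfl⟩
    exact ⟨⟨n, hn⟩, rfl⟩

theorem D16_normalizes : B.D16 ≤ Subgroup.normalizer (B.U64 : Set G) := by
  rw [D16, Subgroup.closure_le]
  intro x hx
  obtain ⟨hNC, hrep, -⟩ := B.outF_spec
  obtain ⟨h16, r16⟩ := B.ι_rep d_check.1
  obtain ⟨h91, r91⟩ := B.ι_rep d_check.2.1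
  have key : ∀ {g : G} {M : List ℕ}, S.NC g → B.F.toCoord.Rep g M → M ∈ [tbEl 16, tbEl 91, tbEl 224] →
      g ∈ Subgroup.normalizer (B.U64 : Set G) := fun {g M} hg hM hmem => by
    refine mem_normalizer_of_map (Subgroup.eq_of_le_of_card_ge ?_ ?_)
    · rintro _ ⟨_, ⟨n, hn, rfl⟩, rfl⟩
      obtain ⟨m, hm, e⟩ := (wD_spec hn).2.1 M hmem
      exact ⟨m, hm, by
        rw [← e]; exact (B.F.toCoord.lh_conj_nc hg hM (wD_spec hn).1 ((wD_spec hn).2.2.2 n hn)).symm⟩
    · rw [Subgroup.card_map_of_injective (MulAut.conj g).injective]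
  simp only [Set.mem_insert_iff, Set.mem_singleton_iff] at hx
  rcases hx with rfl | rfl | rfl
  · exact key hNC hrep (by simp)
  · exact key (S.nc_CP h91) r91 (by simp)
  · rw [mul_one]; exact key (S.nc_CP h16) r16 (by simp)

/-- A subgroup of order 1024 meeting the group trivially. -/
theorem exists_two_complement :
    ∃ K0 : Subgroup G, K0 ≤ Subgroup.normalizer (B.A0 : Set G) ∧ K0 ⊓ B.A0 = ⊥ ∧ Nat.card ↥K0 = 1024 := by
  have hUE : ∀ u ∈ B.U64, u ∈ twoCoreOfCentralizer z := by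
    rintro _ ⟨n, hn, rfl⟩; exact (B.F.toCoord.lh_spec _).1
  have hinf : B.U64 ⊓ B.D16 = ⊥ := (Subgroup.eq_bot_iff_forall _).2 fun x hx => by
    obtain ⟨u, hu, hu1⟩ := B.D16_forms hx.2
    have h0 : tbEl (d16Idx u) = tbEl 0 := by
      rw [tbEl_check.2]
      exact B.F.toCoord.rep_unique hu (B.F.toCoord.rep_mI_iff.2 (hUE x hx.1))
    exact hu1 (d16Idx_check.2.1 u (tbEl_inj (d16Idx_check.1 u) (by norm_num) h0))
  refine ⟨B.U64 ⊔ B.D16, sup_le (fun u hu => B.core_conj_mem (hUE u hu)) B.D16_le, ?_, ?_⟩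
  · refine (Subgroup.eq_bot_iff_forall _).2 fun x hx => ?_
    obtain ⟨hxK, hxA⟩ := Subgroup.mem_inf.1 hx
    rw [← SetLike.mem_coe, Subgroup.coe_mul_of_right_le_normalizer_left _ _ B.D16_normalizes] at hxK
    obtain ⟨w, hw, d, hd, rfl⟩ := hxK
    obtain ⟨u, hu, hu1⟩ := B.D16_forms hd
    obtain ⟨v, hv, ev⟩ := hxA
    -- the matrix lies in the eight
    have hrx : B.F.toCoord.Rep (w * d) (mm mI (tbEl (d16Idx u))) :=
      B.F.toCoord.rep_mul (B.F.toCoord.rep_mI_iff.2 (hUE w hw)) hu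
    have hn : v / 2 % 64 < 64 := Nat.mod_lt _ (by norm_num)
    have hk : v / 128 < 8 := by omega
    have hzl : zp z (v.testBit 0) * B.lW (v / 2 % 64) ∈ twoCoreOfCentralizer z :=
      mul_mem (S.zp_mem_E _) (B.lW_spec hn).1
    have hrv : B.F.toCoord.Rep (B.Pv v) (mm mI (tbEl (ux (v / 128)))) :=
      B.F.toCoord.rep_mul (B.F.toCoord.rep_mI_iff.2 hzl) (B.bU_spec hk).2.1
    have e1 := B.F.toCoord.rep_unique hrx (ev ▸ hrv)
    have hI : ∀ e < 256, mm mI (tbEl e) = tbEl e := by decide +kernel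
    rw [hI _ (d16Idx_check.1 u), hI _ (ux_spec hk).1] at e1
    have ek := tbEl_inj (d16Idx_check.1 u) (ux_spec hk).1 e1
    have hk0 := d16Idx_check.2.2.2 u _ hk ek
    rw [hk0, ux_zero] at ek
    have hd1 := hu1 (d16Idx_check.2.1 u ek)
    subst hd1
    replace ev : B.Pv v = w := by simpa using ev
    show w * 1 = 1
    rw [mul_one]
    obtain ⟨n, hn', rfl⟩ := hw
    by_cases h0 : n = 0
    · rw [h0, app_zero]; exact B.F.toCoord.lh_zero
    exfalso
    have h1 := B.A0_core ⟨v, hv, ev⟩ (B.F.toCoord.lh_spec _).1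
    obtain ⟨e, m, hm, em⟩ := h1
    have := congrArg S.rep em
    rw [(B.F.toCoord.lh_spec _).2.1, S.rep_mul _ (S.zp_mem_E e) _ (B.lW_spec hm).1,
      (S.rep_zero _ (S.zp_mem_E e)).2 (by cases e <;> simp [zp]), zero_add, (B.lW_spec hm).2] at this
    have e2 := B.F.toCoord.inj _ (wD_spec hn').1 _ (wc_spec hm).1 this
    have := ((wD_spec hn').2.2.1 h0).2
    rw [e2] at this
    simp [inW, (wc_spec hm).2.1] at this
  · rw [Mathieu.card_sup_inf_bot _ _ B.D16_normalizes hinf, B.card_U64, B.card_D16]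

/-- A complement isomorphic to the special linear group. -/
theorem exists_complement :
    ∃ K : Subgroup G, K ≤ Subgroup.normalizer (B.A0 : Set G) ∧ K ⊓ B.A0 = ⊥ ∧
      K ⊔ B.A0 = Subgroup.normalizer (B.A0 : Set G) ∧
      Nonempty (↥K ≃* Matrix.SpecialLinearGroup (Fin 5) (ZMod 2)) := by
  obtain ⟨K0, hK0, hKV, hK0c⟩ := B.exists_two_complement
  set N := Subgroup.normalizer (B.A0 : Set G) with hN
  have hVN : B.A0 ≤ N := Subgroup.le_normalizer
  haveI : (B.A0.subgroupOf N).Normal := Subgroup.normal_in_normalizer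
  haveI : IsMulCommutative ↥(B.A0.subgroupOf N) :=
    ⟨⟨fun x y => Subtype.ext (Subtype.ext (B.A0_comm _ x.2 _ y.2))⟩⟩
  set V' := B.A0.subgroupOf N with hV'
  set U' := K0.subgroupOf N ⊔ V' with hU'
  have hVc' : Nat.card ↥V' = 2 ^ 10 := by
    rw [hV', Nat.card_congr (Subgroup.subgroupOfEquivOfLe hVN).toEquiv, B.card_A0]
  have hKc : Nat.card ↥(K0.subgroupOf N) = 1024 := by
    rw [Nat.card_congr (Subgroup.subgroupOfEquivOfLe hK0).toEquiv, hK0c]
  have hinf : K0.subgroupOf N ⊓ V' = ⊥ := by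
    rw [hV', Subgroup.subgroupOf, Subgroup.subgroupOf, ← Subgroup.comap_inf, hKV, MonoidHom.comap_bot,
      Subgroup.ker_subtype]
  have hUc : Nat.card ↥U' = Nat.card ↥(K0.subgroupOf N) * Nat.card ↥V' := by
    rw [hU', sup_comm, mul_comm]
    exact Mathieu.card_sup_inf_bot _ _ Subgroup.le_normalizer_of_normal (by rw [inf_comm]; exact hinf)
  have hidx : U'.index = 9765 := by
    have h1 := Subgroup.card_mul_index U'
    rw [hUc, hKc, hVc', B.card_normalizer_A0] at h1
    omega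
  obtain ⟨H, hH⟩ := Cfsg.Agent.S0051.result V' U' le_sup_right
    (by rw [hVc', hidx]; exact Nat.Coprime.pow_left _ (by norm_num))
    (K0.subgroupOf N) le_sup_left hinf (sup_comm _ _)
  have hHV : H ⊓ V' = ⊥ := by rw [inf_comm]; exact hH.disjoint.eq_bot
  refine ⟨H.map N.subtype, Subgroup.map_subtype_le H, ?_, ?_, ?_⟩
  · refine (Subgroup.eq_bot_iff_forall _).2 fun x hx => ?_
    obtain ⟨⟨h, hh, rfl⟩, hxV⟩ := Subgroup.mem_inf.1 hx
    have : h ∈ H ⊓ V' := ⟨hh, Subgroup.mem_subgroupOf.2 hxV⟩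
    rw [hHV, Subgroup.mem_bot] at this
    rw [this]; rfl
  · have h := congrArg (Subgroup.map N.subtype) (show H ⊔ V' = ⊤ by rw [sup_comm]; exact hH.sup_eq_top)
    rwa [Subgroup.map_sup, ← MonoidHom.range_eq_map, Subgroup.range_subtype, hV',
      Subgroup.map_subgroupOf_eq_of_le hVN] at h
  · let g : ↥H →* GL (Fin 5) (ZMod 2) := B.gl5.comp H.subtype
    have hinj : Function.Injective g := (injective_iff_map_eq_one g).2 fun x hx => by
      have : (x : ↥N) ∈ H ⊓ V' := ⟨x.2, Subgroup.mem_subgroupOf.2 (B.gl5_eq_one.1 hx)⟩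
      rw [hHV, Subgroup.mem_bot] at this
      exact Subtype.ext this
    have hbij : Function.Bijective g := hinj.bijective_of_nat_card_le (le_of_eq (by
      rw [card_gl5']
      have h1 := hH.card_mul
      rw [hVc', B.card_normalizer_A0] at h1
      omega))
    obtain ⟨e⟩ := glToSL
    exact ⟨((H.equivMapOfInjective N.subtype (Subgroup.subtype_injective N)).symm.trans
      (MulEquiv.ofBijective g hbij)).trans e⟩

end Pen

end Cfsg.Agent.Spor.JFour
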