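import Cfsg.Agent.Lib.Spor.JFourType.Penta.Conj
import Cfsg.Agent.Lib.Spor.JFourType.Penta.Data

/-!
Conjugation on the coordinates: elements normalising the three-group and stabilising the singular space, and the core.
-/

set_option autoImplicit false
set_option maxRecDepth 100000
set_option linter.style.haveILetI false

open Cfsg Cfsg.Agent.Spor.Golay
open Cfsg.Agent.Spor.Cos.J4Sub (app mm app_mm app_xor app_zero)

namespace Cfsg.Agent.Spor.JFour

namespace Penta

/-- Whether a matrix stabilises the singular space. -/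
def keepsW (M : List ℕ) : Bool := (List.range 6).all fun i => inW (app M (wc (2 ^ i)))

theorem keepsW_all {M : List ℕ} (h : keepsW M = true) : ∀ n < 64, inW (app M (wc n)) = true := by
  refine xor_induction (p := fun n => inW (app M (wc n)) = true) ?_ 6 fun i hi m _ ih => ?_
  · rw [show wc 0 = 0 from rfl, app_zero]; rfl
  · have hi' := List.all_eq_true.1 h i (List.mem_range.2 hi)
    rw [inW_iff] at ih hi' ⊢
    rw [wc_xor, app_xor]
    have hcw : ∀ a b, cw (a ^^^ b) = cw a ^^^ cw b := fun a b => by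
      have h4 := (split11 (a := a / 2) (b := b / 2)).1
      have h2 : (a ^^^ b) / 2 = a / 2 ^^^ b / 2 := by
        apply Nat.eq_of_testBit_eq
        intro j
        simp [Nat.testBit_div_two, Nat.testBit_xor]
      rw [cw, cw, cw, show ∀ x, x / 4 = x / 2 / 2 from fun x => by omega, h2, h4]
      simp [Nat.div_div_eq_div_mul]
    rw [hcw, wc_xor, hi', ih]

/-- The sign of a translation. -/
def trS (M : List ℕ) (v : ℕ) : Bool :=
  xor (xor (xor (bv (app M v) (app mT v)) (bv (app mT (app M v)) (app mT (app mT v))))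
    (bv (app M v) (app mT (app mT v)))) (qv v)

/-- The image of a point of the group under a translation by a vector. -/
def trImg (v w : ℕ) : ℕ :=
  let k := w / 128
  let M := tbEl (ux k)
  let n := w / 2 % 64
  128 * k + 2 * (n ^^^ cw (v ^^^ app M v)) + bn (xor (w.testBit 0) (xor (bv v (wc n)) (trS M v)))

/-- The conditions for the formula. -/
def trOK (v k : ℕ) : Bool :=
  let M := tbEl (ux k)
  decide (v < 4096) && inW (v ^^^ app M v) &&
    (trS M v == xor (xor (xor (bv (app M v) (app mT2 v)) (bv (app mT2 (app M v)) (app mT2 (app mT2 v))))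
      (bv (app M v) (app mT2 (app mT2 v)))) (qv v))

end Penta

namespace Pen

variable {G : Type*} [Group G] {z : G} {P : Subgroup G} {S : Setting z P} (B : Pen S) [Finite G]
open Penta

/-- Conjugation of the singular space. -/
theorem conj_lW {g : G} {M : List ℕ} (hg : S.NC g) (hM : B.F.toCoord.Rep g M) (hW : keepsW M = true) {n : ℕ}
    (hn : n < 64) : g * B.lW n * g⁻¹ = B.lW (cw (app M (wc n))) := by
  rw [lW, lW, inW_iff.1 (keepsW_all hW n hn)]
  exact B.F.toCoord.lh_conj_nc hg hM (wc_spec hn).1 (flat_wc hn hn)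

theorem Pv_split {w : ℕ} (hw : w < 1024) :
    B.Pv w = zp z (w.testBit 0) * B.lW (w / 2 % 64) * B.bU (w / 128) := rfl

theorem Pv_build {k n : ℕ} (hk : k < 8) (hn : n < 64) (e : Bool) :
    B.Pv (128 * k + 2 * n + bn e) = zp z e * B.lW n * B.bU k := by
  have hb : bn e < 2 := by unfold bn; split_ifs <;> norm_num
  rw [Pv, show (128 * k + 2 * n + bn e) / 128 = k by omega, show (128 * k + 2 * n + bn e) / 2 % 64 = n by omega]
  congr 3
  rw [Nat.testBit_zero, show (128 * k + 2 * n + bn e) % 2 = bn e by omega]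
  cases e <;> rfl

/-- Conjugation by a canonical preimage in the core. -/
theorem tr_conj {v w : ℕ} (hw : w < 1024) (h : trOK v (w / 128) = true) :
    B.F.toCoord.lh v * B.Pv w * (B.F.toCoord.lh v)⁻¹ = B.Pv (trImg v w) ∧ trImg v w < 1024 := by
  set k := w / 128 with hk'
  have hk : k < 8 := by omega
  set M := tbEl (ux k) with hM'
  simp only [trOK, Bool.and_eq_true, decide_eq_true_eq, beq_iff_eq, ← hM'] at h
  obtain ⟨⟨hv, hin⟩, hsgn⟩ := h
  set n := w / 2 % 64 with hn'
  have hn : n < 64 := Nat.mod_lt _ (by norm_num)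
  obtain ⟨hc, hcr, -⟩ := B.bU_spec hk
  obtain ⟨hmE, hmr, hmo⟩ := B.F.toCoord.lh_spec v
  set m := B.F.toCoord.lh v with hmdef
  have hMv : app M v < 4096 := app_lt_of_ok hcr.ok v
  set d := v ^^^ app M v with hd'
  have hd : d < 4096 := Nat.xor_lt_two_pow (n := 12) hv hMv
  -- the product with the image
  have hy : B.bU k * m * (B.bU k)⁻¹ = B.F.toCoord.lh (app M v) := B.F.toCoord.lh_conj hc hcr hv
  obtain ⟨hyE, hyr, hyo⟩ := B.F.toCoord.lh_spec (app M v)
  have hprod : m * B.F.toCoord.lh (app M v) = zp z (xor (trS M v) (qv v)) * B.lW (cw d) := by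
    obtain ⟨Mp, hMp, hE⟩ : ∃ Mp, B.F.toCoord.Rep S.p Mp ∧
        xor (xor (bv (app M v) (app Mp v)) (bv (app Mp (app M v)) (app Mp (app Mp v))))
          (bv (app M v) (app Mp (app Mp v))) = xor (trS M v) (qv v) := by
      rcases B.toFrame.p_rep_cases with hh | hh
      · refine ⟨mT, hh, ?_⟩
        rw [trS, Bool.xor_assoc _ (qv v), Bool.xor_self, Bool.xor_false]
      · refine ⟨mT2, hh, ?_⟩
        rw [hsgn, Bool.xor_assoc _ (qv v), Bool.xor_self, Bool.xor_false]
    have ho := B.F.toCoord.orb_mul_gen hmE hyE hv hMv hmr hyr hMp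
    rw [hmo, hyo, one_mul, one_mul, hE] at ho
    have hxE := mul_mem hmE hyE
    have hxr : S.rep (m * B.F.toCoord.lh (app M v)) = B.F.Φ d := by
      rw [S.rep_mul _ hmE _ hyE, hmr, hyr, hd', B.F.add]
    have hl : B.lW (cw d) = B.F.toCoord.lh d := by rw [lW, inW_iff.1 hin]
    rw [hl]
    rcases B.F.toCoord.lh_cases hxE hxr with ex | ex
    · rw [ex, (B.F.toCoord.lh_spec d).2.2] at ho
      rw [ex]
      cases hs : xor (trS M v) (qv v)
      · simp [zp]
      · rw [hs] at ho; exact absurd ho.symm S.ext.ne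
    · rw [ex, S.orb_mul_z (B.F.toCoord.lh_spec d).1, (B.F.toCoord.lh_spec d).2.2, one_mul] at ho
      rw [ex]
      cases hs : xor (trS M v) (qv v)
      · rw [hs] at ho; exact absurd ho S.ext.ne
      · show _ = z * _
        exact S.ext.central _ (B.F.toCoord.lh_spec d).1
  have hyinv : (B.F.toCoord.lh (app M v))⁻¹ = zp z (qv v) * B.F.toCoord.lh (app M v) := by
    refine inv_eq_of_mul_eq_one_right ?_
    rw [← mul_assoc, S.zp_comm (S.ext.central _ hyE), mul_assoc, S.q_sq _ hyE, hyr, B.F.form _ hMv,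
      B.F.toCoord.rep_qv hcr hv, Coord.pw_zb, S.zp_mul, Bool.xor_self]
    rfl
  have hcm : m * B.bU k * m⁻¹ = zp z (trS M v) * B.lW (cw d) * B.bU k := by
    calc m * B.bU k * m⁻¹ = m * (B.bU k * m⁻¹ * (B.bU k)⁻¹) * B.bU k := by group
      _ = m * (B.bU k * m * (B.bU k)⁻¹)⁻¹ * B.bU k := by rw [show B.bU k * m⁻¹ * (B.bU k)⁻¹ =
          (B.bU k * m * (B.bU k)⁻¹)⁻¹ by group]
      _ = m * (zp z (qv v) * B.F.toCoord.lh (app M v)) * B.bU k := by rw [hy, hyinv]
      _ = zp z (qv v) * (m * B.F.toCoord.lh (app M v)) * B.bU k := by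
          rw [← mul_assoc m, S.zp_comm (S.ext.central _ hmE)]
          simp only [mul_assoc]
      _ = _ := by
          rw [hprod, ← mul_assoc, S.zp_mul]
          congr 3
          cases qv v <;> cases trS M v <;> rfl
  obtain ⟨hlE, hlr⟩ := B.lW_spec hn
  have hcl : m * B.lW n * m⁻¹ = zp z (bv v (wc n)) * B.lW n := by
    rw [mul_inv_eq_iff_eq_mul, B.F.toCoord.core_comm hmE hlE hv (wc_spec hn).1 hmr hlr,
      S.zp_comm (((show Commute (B.lW n) z from S.ext.central _ hlE).mul_left (S.ext.central _ hmE)).eq), mul_assoc]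
  have hcd : cw d < 64 := cw_lt d
  have hx : n ^^^ cw d < 64 := Nat.xor_lt_two_pow (n := 6) hn hcd
  have himg : trImg v w = 128 * k + 2 * (n ^^^ cw d) + bn (xor (w.testBit 0) (xor (bv v (wc n)) (trS M v))) := rfl
  refine ⟨?_, by rw [himg]; unfold bn; split_ifs <;> omega⟩
  rw [himg, B.Pv_build hk hx, B.Pv_split hw, ← hk', ← hn']
  calc m * (zp z (w.testBit 0) * B.lW n * B.bU k) * m⁻¹
      = (m * zp z (w.testBit 0) * m⁻¹) * (m * B.lW n * m⁻¹) * (m * B.bU k * m⁻¹) := by group
    _ = zp z (w.testBit 0) * (zp z (bv v (wc n)) * B.lW n) * (zp z (trS M v) * B.lW (cw d) * B.bU k) := by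
        rw [S.zp_comm (S.ext.central _ hmE), mul_inv_cancel_right, hcl, hcm]
    _ = zp z (w.testBit 0) * zp z (bv v (wc n)) * (B.lW n * zp z (trS M v)) * B.lW (cw d) * B.bU k := by group
    _ = zp z (w.testBit 0) * zp z (bv v (wc n)) * zp z (trS M v) * (B.lW n * B.lW (cw d)) * B.bU k := by
        rw [S.zp_comm (S.ext.central _ hlE)]; group
    _ = _ := by rw [B.lW_mul hn hcd, S.zp_mul, S.zp_mul, Bool.xor_assoc]

/-- The core normalises the group. -/
theorem core_conj_mem {m : G} (hm : m ∈ twoCoreOfCentralizer z) : m ∈ Subgroup.normalizer (B.A0 : Set G) := by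
  suffices key : ∀ u ∈ twoCoreOfCentralizer z, ∀ a ∈ B.A0, u * a * u⁻¹ ∈ B.A0 by
    refine Subgroup.mem_normalizer_iff.2 fun x => ⟨key m hm x, fun h => ?_⟩
    have := key m⁻¹ (inv_mem hm) _ h
    rwa [show m⁻¹ * (m * x * m⁻¹) * m⁻¹⁻¹ = x by group] at this
  intro u hu a ha
  have hgz : u * a * u⁻¹ * z = z * (u * a * u⁻¹) :=
    (((show Commute u z from S.ext.central u hu).mul_left (B.A0_comm a ha z B.z_mem_A0)).mul_left
      (show Commute u z from S.ext.central u hu).inv_left).eq
  refine B.mem_A0_of_centralizing hgz fun n hn => ?_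
  have hc := B.A0_comm a ha _ (B.lW_mem hn)
  obtain ⟨hlE, hlr⟩ := B.lW_spec hn
  obtain ⟨v, hv, ev⟩ := B.F.surj (S.rep u)
  have hcu := B.F.toCoord.core_comm hu hlE hv (wc_spec hn).1 ev.symm hlr
  generalize bv v (wc n) = e at hcu
  have h2 : u⁻¹ * B.lW n * u = B.lW n * zp z e := by
    have : B.lW n * u = u * (B.lW n * zp z e) := by
      rw [← mul_assoc, hcu, mul_assoc, S.zp_mul, Bool.xor_self, show zp z false = 1 from rfl, mul_one]
    rw [mul_assoc, this, inv_mul_cancel_left]
  have h3 : a * (u⁻¹ * B.lW n * u) = u⁻¹ * B.lW n * u * a := by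
    rw [h2, ← mul_assoc, hc, mul_assoc, S.zp_comm (B.A0_comm a ha z B.z_mem_A0), mul_assoc]
  calc u * a * u⁻¹ * B.lW n = u * (a * (u⁻¹ * B.lW n * u)) * u⁻¹ := by group
    _ = _ := by rw [h3]; group

/-- An element of the centraliser stabilising the singular space normalises the group. -/
theorem mem_normalizer_of_keeps {g : G} (hgz : g * z = z * g)
    (h : ∀ i < 6, ∃ v, inW v = true ∧ S.act g (B.F.Φ (wc (2 ^ i))) = B.F.Φ v) :
    g ∈ Subgroup.normalizer (B.A0 : Set G) := by
  obtain ⟨M, hM⟩ := B.F.toCoord.exists_rep hgz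
  have hW : keepsW M = true := List.all_eq_true.2 fun i hi => by
    have hp : wc (2 ^ i) < 4096 := (wc_spec (Nat.pow_lt_pow_right (by norm_num) (List.mem_range.1 hi) :
      2 ^ i < 64)).1
    obtain ⟨v, hv, e⟩ := h i (List.mem_range.1 hi)
    have hv' : v < 4096 := by rw [← inW_iff.1 hv]; exact (wc_spec (cw_lt v)).1
    rw [hM.eq _ hp] at e
    rw [B.F.inj _ (app_lt_of_ok hM.ok _) _ hv' e]
    exact hv
  refine mem_normalizer_of_map (Subgroup.eq_of_le_of_card_ge ?_ ?_)
  · rintro _ ⟨a, ha, rfl⟩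
    show g * a * g⁻¹ ∈ B.A0
    have hgaz : g * a * g⁻¹ * z = z * (g * a * g⁻¹) :=
      (((show Commute g z from hgz).mul_left (B.A0_comm a ha z B.z_mem_A0)).mul_left
        (show Commute g z from hgz).inv_left).eq
    refine B.mem_A0_of_centralizing hgaz fun n hn => ?_
    -- the preimage of a vector of the space
    obtain ⟨j, hj, ej⟩ : ∃ j < 64, app M (wc j) = wc n := by
      have hinj : Function.Injective fun j : Fin 64 => (⟨cw (app M (wc j)), cw_lt _⟩ : Fin 64) := fun a b e => by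
        have e' : app M (wc a) = app M (wc b) := by
          rw [← inW_iff.1 (keepsW_all hW a a.2), ← inW_iff.1 (keepsW_all hW b b.2)]
          exact congrArg wc (congrArg Fin.val e)
        have e2 : S.act g (B.F.Φ (wc a)) = S.act g (B.F.Φ (wc b)) := by
          rw [hM.eq _ (wc_spec a.2).1, hM.eq _ (wc_spec b.2).1, e']
        have e3 := congrArg (S.act g⁻¹) e2
        rw [← Module.End.mul_apply, ← Module.End.mul_apply, S.act_inv_mul hgz, Module.End.one_apply,
          Module.End.one_apply] at e3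
        have e4 := congrArg cw (B.F.inj _ (wc_spec a.2).1 _ (wc_spec b.2).1 e3)
        rw [(wc_spec a.2).2.1, (wc_spec b.2).2.1] at e4
        exact Fin.ext e4
      obtain ⟨j, ej⟩ := (Finite.injective_iff_surjective.1 hinj) ⟨n, hn⟩
      refine ⟨j, j.2, ?_⟩
      rw [← inW_iff.1 (keepsW_all hW j j.2)]
      exact congrArg (fun u : Fin 64 => wc u) ej
    obtain ⟨hlE, hlr⟩ := B.lW_spec hn
    obtain ⟨hjE, hjr⟩ := B.lW_spec hj
    obtain ⟨b, eb⟩ : ∃ b, B.lW n = zp z b * (g * B.lW j * g⁻¹) := by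
      have hr : S.rep (g * B.lW j * g⁻¹) = B.F.Φ (wc n) := by
        rw [← S.act_rep g hgz _ hjE, hjr, hM.eq _ (wc_spec hj).1, ej]
      rcases B.F.toCoord.lh_cases (S.ext.norm g hgz _ hjE) hr with e | e
      · exact ⟨false, by rw [e, lW]; simp [zp]⟩
      · refine ⟨true, ?_⟩
        rw [e, lW, show zp z true = z from rfl, ← mul_assoc, ← S.ext.central _ (B.F.toCoord.lh_spec (wc n)).1,
          mul_assoc, S.zz, mul_one]
    have hc : Commute (g * a * g⁻¹) (g * B.lW j * g⁻¹) :=
      (show Commute a (B.lW j) from B.A0_comm a ha _ (B.lW_mem hj)).map (MulAut.conj g).toMonoidHom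
    rw [eb]
    exact ((show Commute (g * a * g⁻¹) (zp z b) from S.zp_comm hgaz b).mul_right hc).eq
  · rw [Subgroup.card_map_of_injective (MulAut.conj g).injective]

end Pen

end Cfsg.Agent.Spor.JFour
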