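import Cfsg.Agent.Lib.Spor.JFourType.Penta.Unique
import Cfsg.Agent.Lib.Spor.JFourType.Orbit

/-!
Self-centralising elementary abelian subgroups of order 2¹⁰ are conjugate; fusion of the central involution in one
of them happens in its normaliser; the centraliser of the singular space in the centraliser of the involution.
-/

set_option autoImplicit false
set_option maxRecDepth 100000
set_option linter.style.haveILetI false

open Cfsg Cfsg.Agent.Spor.Golay
open scoped Pointwise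
open Cfsg.Agent.Spor.Cos.J4Sub (app mm app_mm app_xor app_zero)

namespace Cfsg.Agent.Spor.JFour

/-- Self-centralising, elementary abelian, of order 2¹⁰. -/
structure SelfTen {G : Type*} [Group G] (A : Subgroup G) : Prop where
  comm : ∀ a ∈ A, ∀ b ∈ A, a * b = b * a
  sq : ∀ a ∈ A, a * a = 1
  card : Nat.card ↥A = 2 ^ 10
  self : Subgroup.centralizer (A : Set G) ≤ A

theorem SelfTen.map {G : Type*} [Group G] {A : Subgroup G} (h : SelfTen A) (g : G) :
    SelfTen (A.map (MulAut.conj g).toMonoidHom) where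
  comm := by
    rintro _ ⟨a, ha, rfl⟩ _ ⟨b, hb, rfl⟩
    rw [← map_mul, ← map_mul, h.comm a ha b hb]
  sq := by
    rintro _ ⟨a, ha, rfl⟩
    rw [← map_mul, h.sq a ha, map_one]
  card := by rw [Subgroup.card_map_of_injective (MulAut.conj _).injective, h.card]
  self := fun x hx => by
    refine ⟨g⁻¹ * x * g, h.self (Subgroup.mem_centralizer_iff.2 fun a ha => ?_), by simp [mul_assoc]⟩
    have e := Subgroup.mem_centralizer_iff.1 hx _ ⟨a, ha, rfl⟩
    have e' := congrArg (fun y => g⁻¹ * y * g) e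
    simpa [mul_assoc] using e'

theorem map_conj_conj {G : Type*} [Group G] (A : Subgroup G) (g h : G) :
    (A.map (MulAut.conj g).toMonoidHom).map (MulAut.conj h).toMonoidHom = A.map (MulAut.conj (h * g)).toMonoidHom := by
  rw [Subgroup.map_map]
  congr 1
  ext x
  simp [mul_assoc]

theorem mem_normalizer_of_map {G : Type*} [Group G] {A : Subgroup G} {g : G}
    (h : A.map (MulAut.conj g).toMonoidHom = A) : g ∈ Subgroup.normalizer (A : Set G) := by
  refine Subgroup.mem_normalizer_iff.2 fun x => ⟨fun hx => by rw [← h]; exact ⟨x, hx, rfl⟩, fun hx => ?_⟩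
  rw [← h] at hx
  obtain ⟨y, hy, e⟩ := hx
  rwa [show x = y from ((MulAut.conj g).injective e).symm]

namespace Pen

variable {G : Type*} [Group G] {z : G} {P : Subgroup G} {S : Setting z P} (B : Pen S) [Finite G]
open Penta

theorem self_A0 : SelfTen B.A0 := ⟨B.A0_comm, B.A0_sq, B.card_A0, B.centralizer_A0.le⟩

/-- In the centraliser of the involution. -/
theorem conj_to_A0 {A : Subgroup G} (hA : SelfTen A) (hH : A ≤ Subgroup.centralizer ({z} : Set G)) :
    ∃ h, h * z = z * h ∧ A.map (MulAut.conj h).toMonoidHom = B.A0 := by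
  obtain ⟨h, hh, hle⟩ := B.F.exists_conj_le_T hH hA.card
  have hm := hA.map h
  rcases B.classify ⟨hle, hm.comm, hm.sq, hm.card, hm.self⟩ with e | e
  · exact ⟨h, hh, e⟩
  · exact ⟨B.F.a 0 * h, ((show Commute (B.F.a 0) z from S.commz (B.F.a_mem 0 (by norm_num))).mul_left hh).eq,
      by rw [← map_conj_conj]; exact e⟩

/-- In the whole group. -/
theorem exists_conj_A0 {A : Subgroup G} (hA : SelfTen A) : ∃ g, A.map (MulAut.conj g).toMonoidHom = B.A0 := by
  haveI : Fact (Nat.Prime 2) := ⟨Nat.prime_two⟩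
  obtain ⟨Q, hQ⟩ := (IsPGroup.of_card (p := 2) (n := 10) (G := ↥A) hA.card).exists_le_sylow
  obtain ⟨g, hg⟩ := MulAction.exists_smul_eq G Q B.F.sylowT
  have hQg : (Q : Subgroup G).map (MulAut.conj g).toMonoidHom = B.F.T := by
    have h := congrArg (fun s : Sylow 2 G => (s : Subgroup G)) hg
    rw [Sylow.coe_subgroup_smul] at h
    exact h
  obtain ⟨h, -, hm⟩ := B.conj_to_A0 (hA.map g) (le_trans (hQg ▸ Subgroup.map_mono hQ) B.F.T_le)
  exact ⟨h * g, by rw [← map_conj_conj]; exact hm⟩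

/-- A conjugate of the involution in the group comes from its normaliser. -/
theorem conj_in_normalizer {g : G} (hg : g * z * g⁻¹ ∈ B.A0) :
    ∃ n ∈ Subgroup.normalizer (B.A0 : Set G), n * z * n⁻¹ = g * z * g⁻¹ := by
  obtain ⟨h, hh, hmap⟩ := B.conj_to_A0 (B.self_A0.map g⁻¹) (by
    rintro _ ⟨a, ha, rfl⟩
    rw [Subgroup.mem_centralizer_singleton_iff]
    show g⁻¹ * a * g⁻¹⁻¹ * z = z * (g⁻¹ * a * g⁻¹⁻¹)
    have := B.A0_comm a ha _ hg
    calc g⁻¹ * a * g⁻¹⁻¹ * z = g⁻¹ * (a * (g * z * g⁻¹)) * g := by group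
      _ = g⁻¹ * ((g * z * g⁻¹) * a) * g := by rw [this]
      _ = _ := by group)
  rw [map_conj_conj] at hmap
  refine ⟨g * h⁻¹, ?_, ?_⟩
  · have := inv_mem (mem_normalizer_of_map hmap)
    rwa [mul_inv_rev, inv_inv] at this
  · have e : h⁻¹ * z * h = z := by rw [mul_assoc, ← hh, inv_mul_cancel_left]
    rw [show g * h⁻¹ * z * (g * h⁻¹)⁻¹ = g * (h⁻¹ * z * h) * g⁻¹ by group, e]

/-- The elements in the core. -/
theorem A0_core {x : G} (hx : x ∈ B.A0) (hE : x ∈ twoCoreOfCentralizer z) :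
    ∃ e : Bool, ∃ n < 64, x = zp z e * B.lW n := by
  obtain ⟨v, hv, rfl⟩ := hx
  have hn : v / 2 % 64 < 64 := Nat.mod_lt _ (by norm_num)
  have hzl : zp z (v.testBit 0) * B.lW (v / 2 % 64) ∈ twoCoreOfCentralizer z :=
    mul_mem (S.zp_mem_E _) (B.lW_spec hn).1
  have hb : B.bU (v / 128) ∈ twoCoreOfCentralizer z := by
    have := mul_mem (inv_mem hzl) hE
    rwa [Pv, inv_mul_cancel_left] at this
  have h0 : v / 128 = 0 :=
    B.bU_inj (by omega) (by norm_num) (by rw [B.bU_zero, mul_one]; exact inv_mem hb)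
  exact ⟨_, _, hn, by rw [Pv, h0, B.bU_zero, mul_one]⟩

/-- An element fixing the singular space pointwise squares into the core. -/
theorem sq_mem_core {g : G} (hgz : g * z = z * g) (hg : ∀ n < 64, g * B.lW n = B.lW n * g) :
    g * g ∈ twoCoreOfCentralizer z := by
  obtain ⟨M, hM⟩ := B.F.toCoord.exists_rep hgz
  have hfix : ∀ n < 64, app M (wc n) = wc n := fun n hn => by
    refine B.F.inj _ (app_lt_of_ok hM.ok _) _ (wc_spec hn).1 ?_
    rw [← hM.eq _ (wc_spec hn).1]
    exact B.act_fix hgz hg hn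
  rw [← B.F.toCoord.rep_mI_iff]
  refine ⟨((show Commute g z from hgz).mul_left hgz).eq, okMat_mI, fun v hv => ?_⟩
  have hMv := app_lt_of_ok hM.ok v
  have hd : app M v ^^^ v < 4096 := Nat.xor_lt_two_pow (n := 12) hMv hv
  have hin : inW (app M v ^^^ v) = true := inW_of_perp hd fun i hi => by
    have hp : (2 : ℕ) ^ i < 64 := Nat.pow_lt_pow_right (by norm_num) hi
    rw [B.F.toCoord.bv_xor hMv hv (wc_spec hp).1]
    have := B.F.toCoord.bv_iso hM hv (wc_spec hp).1
    rw [hfix _ hp] at this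
    rw [this, Bool.xor_self]
  have hfd : app M (app M v ^^^ v) = app M v ^^^ v := by
    rw [← inW_iff.1 hin]; exact hfix _ (cw_lt _)
  rw [app_xor] at hfd
  have h2 : app M (app M v) = v := by
    have := congrArg (· ^^^ app M v) hfd
    simp only [Nat.xor_assoc, Nat.xor_self, Nat.xor_zero] at this
    rw [this, Nat.xor_comm v, ← Nat.xor_assoc, Nat.xor_self, Nat.zero_xor]
  rw [S.act_mul _ _ hgz hgz, Module.End.mul_apply, hM.eq v hv, hM.eq _ hMv, h2, app_mI hv]

/-- The elements of the centraliser of the involution commuting with the singular space. -/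
theorem mem_A0_of_centralizing {g : G} (hgz : g * z = z * g) (hg : ∀ n < 64, g * B.lW n = B.lW n * g) :
    g ∈ B.A0 := by
  haveI : Fact (Nat.Prime 2) := ⟨Nat.prime_two⟩
  set X := Subgroup.centralizer (insert z (Set.range fun n : Fin 64 => B.lW n) : Set G) with hX
  have hmem : ∀ {x : G}, x ∈ X ↔ x * z = z * x ∧ ∀ n < 64, x * B.lW n = B.lW n * x := by
    intro x
    rw [hX, Subgroup.mem_centralizer_iff]
    constructor
    · exact fun h => ⟨(h z (Set.mem_insert _ _)).symm, fun n hn =>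
        (h _ (Set.mem_insert_of_mem _ ⟨⟨n, hn⟩, rfl⟩)).symm⟩
    · rintro ⟨h1, h2⟩ y (rfl | ⟨n, rfl⟩)
      exacts [h1.symm, (h2 n n.2).symm]
  have hp : IsPGroup 2 ↥X := fun x => ⟨3, Subtype.ext (by
    obtain ⟨h1, h2⟩ := hmem.1 x.2
    have hE := B.sq_mem_core h1 h2
    have h4 := S.q_sq _ hE
    show (x : G) ^ (2 ^ 3) = 1
    rw [show (x : G) ^ (2 ^ 3) = (x : G) * x * ((x : G) * x) * ((x : G) * x * ((x : G) * x)) by
      simp [pow_succ, mul_assoc], h4]
    rcases ExtraOut.two_cases (S.q (S.rep ((x : G) * x))) with e | e <;> rw [e]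
    · rw [ExtraOut.pw_zero, one_mul]
    · rw [ExtraOut.pw_one, S.zz])⟩
  obtain ⟨n, hn⟩ := IsPGroup.iff_card.1 hp
  have hXH : X ≤ Subgroup.centralizer ({z} : Set G) := fun x hx =>
    Subgroup.mem_centralizer_singleton_iff.2 (hmem.1 hx).1
  obtain ⟨h, hh, hle⟩ := B.F.exists_conj_le_T hXH hn
  have hA0X : B.A0 ≤ X := fun a ha => hmem.2 ⟨B.A0_comm a ha z B.z_mem_A0, fun n hn => B.A0_comm a ha _ (B.lW_mem hn)⟩
  obtain ⟨k, hk, hkT, hkA⟩ : ∃ k, k * z = z * k ∧ X.map (MulAut.conj k).toMonoidHom ≤ B.F.T ∧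
      B.A0.map (MulAut.conj k).toMonoidHom = B.A0 := by
    have hm := B.self_A0.map h
    rcases B.classify ⟨le_trans (Subgroup.map_mono hA0X) hle, hm.comm, hm.sq, hm.card, hm.self⟩ with e | e
    · exact ⟨h, hh, hle, e⟩
    · refine ⟨B.F.a 0 * h, ((show Commute (B.F.a 0) z from S.commz (B.F.a_mem 0 (by norm_num))).mul_left hh).eq,
        ?_, by rw [← map_conj_conj]; exact e⟩
      rw [← map_conj_conj]
      rintro _ ⟨x, hx, rfl⟩
      exact mul_mem (mul_mem B.a0_T (hle hx)) (inv_mem B.a0_T)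
  have hkN := mem_normalizer_of_map hkA
  have hgX : g ∈ X := hmem.2 ⟨hgz, hg⟩
  have hconj : k * g * k⁻¹ ∈ B.A0 := by
    obtain ⟨e, he, hr⟩ := hkT ⟨g, hgX, rfl⟩
    change B.F.toCoord.Rep (k * g * k⁻¹) (tbEl e) at hr
    have hc : ∀ n < 64, k * g * k⁻¹ * B.lW n = B.lW n * (k * g * k⁻¹) := by
      intro n hn
      have hy : k⁻¹ * B.lW n * k ∈ B.A0 := (Subgroup.mem_normalizer_iff''.1 hkN _).1 (B.lW_mem hn)
      have hyE : k⁻¹ * B.lW n * k ∈ twoCoreOfCentralizer z := by
        have := S.ext.norm k⁻¹ (conj_inv_comm hk) _ (B.lW_spec hn).1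
        rwa [inv_inv] at this
      obtain ⟨b, m, hm, ey⟩ := B.A0_core hy hyE
      have hgy : g * (k⁻¹ * B.lW n * k) = k⁻¹ * B.lW n * k * g := by
        rw [ey]
        exact ((show Commute g (zp z b) from S.zp_comm hgz b).mul_right (hg m hm)).eq
      calc k * g * k⁻¹ * B.lW n = k * (g * (k⁻¹ * B.lW n * k)) * k⁻¹ := by group
        _ = _ := by rw [hgy]; group
    obtain ⟨j, hj, rfl⟩ := ux_of_fix he fun i hi => by
      have hp : (2 : ℕ) ^ i < 64 := Nat.pow_lt_pow_right (by norm_num) hi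
      refine B.F.inj _ (app_lt_of_ok hr.ok _) _ (wc_spec hp).1 ?_
      rw [← hr.eq _ (wc_spec hp).1]
      exact B.act_fix hr.hz hc hp
    exact B.mem_A0_of_rep hj hr fun i hi => hc _ (Nat.pow_lt_pow_right (by norm_num) hi)
  exact (Subgroup.mem_normalizer_iff.1 hkN g).2 hconj

end Pen

end Cfsg.Agent.Spor.JFour
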