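import Cfsg.Agent.Lib.Spor.JFourType.TwoGroup
import Cfsg.Agent.Lib.Spor.JFourType.Gens
import Cfsg.Agent.Lib.Spor.Golay.Chain

/-!
Data for the elementary abelian subgroup of order 2¹⁰: a singular subspace of dimension six and the eight matrices of
the Sylow subgroup fixing it pointwise.
-/

set_option autoImplicit false
set_option maxRecDepth 100000
set_option Elab.async false

namespace Cfsg.Agent.Spor.JFour.Penta

open Cfsg.Agent.Spor.Cos.J4Sub (app mm app_mm app_xor app_zero)

/-- A basis of the singular subspace. -/
def wB : List ℕ := [4, 8, 17, 34, 1088, 2176]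

/-- The vector with given coordinates. -/
def wc (n : ℕ) : ℕ := app wB n

/-- The coordinates of a vector. -/
def cw (v : ℕ) : ℕ := v / 4 % 64

/-- Membership in the singular subspace. -/
def inW (v : ℕ) : Bool := wc (cw v) == v

/-- The indices of the eight matrices, as products of the first, second and fourth. -/
def uIdx : List ℕ := [0, 128, 80, 160, 6, 134, 86, 166]

/-- The index of coordinates. -/
def ux (k : ℕ) : ℕ := uIdx.getD k 0

/-- Being the index of an inner involution. -/
def invI (e : ℕ) : Bool := decide (e < 256) && (bm e e == 0) && (e != 0) && (mm (tbEl e) mT == mm mT (tbEl e))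

/-- Words for the basis of the eight matrices. -/
def uWord : ℕ → List ℕ
  | 1 => [7, 4, 6, 4]
  | 2 => [4, 6, 4, 7]
  | 4 => [2, 1]
  | _ => []

/-- Points of a regular orbit of the eight permutations, with the two fixed points. -/
def regPts : List ℕ := [8, 13, 15, 16, 18, 19, 20, 21]

/-- The permutation of coordinates. -/
def uPerm (k : ℕ) : ℕ :=
  wordP ((if k.testBit 0 then uWord 1 else []) ++ (if k.testBit 1 then uWord 2 else []) ++
    (if k.testBit 2 then uWord 4 else []))

theorem wc_check : ((List.range 64).all fun n => decide (wc n < 4096) && (cw (wc n) == n) && !(qv (wc n)) &&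
    ([mI, mT, mT2].all fun M => inW (app M (wc n))) &&
    ((List.range 8).all fun k => app (tbEl (ux k)) (wc n) == wc n) &&
    (List.range 6).all fun i => !(bv (wc n) (wc (2 ^ i)))) = true ∧
    ((List.range 4096).all fun v => inW v || (List.range 6).any fun i => bv v (wc (2 ^ i))) = true := by
  decide +kernel

theorem ux_check : ((List.range 8).all fun k => decide (ux k < 256) && ((k == 0) || invI (ux k)) &&
    (List.range 8).all fun j => (bm (ux k) (ux j) == ux (k ^^^ j)) && ((j == k) || ux j != ux k)) = true ∧
    ((List.range 256).all fun e => !((List.range 6).all fun i => app (tbEl e) (wc (2 ^ i)) == wc (2 ^ i)) ||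
      (List.range 8).any fun k => ux k == e) = true := by decide +kernel

theorem perm_check : ([1, 2, 4].all fun k => ((uWord k).all fun i => decide (i < 9)) &&
      upto (evM (asg mS mW mQ) (uWord k)) (tbEl (ux k))) = true ∧
    ((List.range 8).all fun k => regPts.all fun p => (List.range 24).any fun q =>
      (Golay.get (uPerm k) p == q) && regPts.contains q) = true ∧
    ((List.range 24).all fun q => regPts.contains q ||
      (List.range 8).any fun k => k != 0 && Golay.get (uPerm k) q == q) = true ∧
    (regPts.all fun p => (List.range 8).all fun k => (k == 0) || Golay.get (uPerm k) p != p) = true ∧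
    (regPts.all fun p => (List.range 8).any fun k => Golay.get (uPerm k) 8 == p) = true ∧
    Golay.trivOk [] (0 :: 23 :: regPts) = true ∧
    ((List.range 8).all fun j => (List.range 8).all fun k =>
      wordP ((if (j ^^^ k).testBit 0 then uWord 1 else []) ++ (if (j ^^^ k).testBit 1 then uWord 2 else []) ++
        (if (j ^^^ k).testBit 2 then uWord 4 else [])) ==
      wordP (((if j.testBit 0 then uWord 1 else []) ++ (if j.testBit 1 then uWord 2 else []) ++
        (if j.testBit 2 then uWord 4 else [])) ++ ((if k.testBit 0 then uWord 1 else []) ++
        (if k.testBit 1 then uWord 2 else []) ++ (if k.testBit 2 then uWord 4 else [])))) = true := by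
  decide +kernel

end Cfsg.Agent.Spor.JFour.Penta
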