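import Cfsg.Agent.Lib.Spor.JFourType.TwoGroup
import Cfsg.Agent.Lib.Spor.JFourType.Penta.Defs
import Cfsg.Agent.Lib.Spor.JFourType.Penta.FixData

/-!
The vectors fixed by the elementary abelian subgroups of rank three and four, from the certificates.
-/

set_option autoImplicit false
set_option maxRecDepth 100000
set_option Elab.async false

namespace Cfsg.Agent.Spor.JFour.Penta

open Cfsg.Agent.Spor.Cos.J4Sub (app mm app_xor app_zero)

/-- The moved parts of a vector, side by side. -/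
def fkey : List ℕ → ℕ → ℕ
  | [], _ => 0
  | a :: g, v => (app (tbEl a) v ^^^ v) ^^^ (fkey g v <<< 12)

theorem fkey_xor : ∀ (g : List ℕ) (u v : ℕ), fkey g (u ^^^ v) = fkey g u ^^^ fkey g v
  | [], _, _ => by simp [fkey]
  | a :: g, u, v => by
    simp only [fkey, fkey_xor g u v, app_xor, Nat.shiftLeft_xor_distrib]
    ac_rfl

theorem fkey_zero : ∀ g : List ℕ, fkey g 0 = 0
  | [] => rfl
  | a :: g => by simp [fkey, fkey_zero g, app_zero]

theorem fixedBy_mem : ∀ {g : List ℕ} {v : ℕ}, v ∈ fixedBy g → v < 4096 ∧ fkey g v = 0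
  | [], v, h => ⟨List.mem_range.1 h, rfl⟩
  | a :: g, v, h => by
    obtain ⟨h1, h2⟩ := List.mem_filter.1 h
    obtain ⟨h3, h4⟩ := fixedBy_mem h1
    exact ⟨h3, by simp only [fkey, beq_iff_eq.1 h2, h4, Nat.xor_self, Nat.zero_shiftLeft]⟩

theorem fixedBy_nodup : ∀ g : List ℕ, (fixedBy g).Nodup
  | [] => List.nodup_range
  | a :: g => (fixedBy_nodup g).filter _

/-- A certificate is valid for some indices. -/
def fixOK (g : List ℕ) (c : List ℕ × List ℕ × List ℕ) : Bool :=
  (c.2.1.all fun k => decide (k < 2 ^ c.1.length)) &&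
    (List.range 12).all fun i => app c.1 (app c.2.1 (2 ^ i)) ^^^ app c.2.2 (fkey g (2 ^ i)) == 2 ^ i

theorem fixOK_sound {g : List ℕ} {c : List ℕ × List ℕ × List ℕ} (h : fixOK g c = true) :
    (∀ v ∈ fixedBy g, ∃ k < 2 ^ c.1.length, app c.1 k = v) ∧ (fixedBy g).length ≤ 2 ^ c.1.length := by
  simp only [fixOK, Bool.and_eq_true, List.all_eq_true, decide_eq_true_eq, List.mem_range, beq_iff_eq] at h
  obtain ⟨hK, hid⟩ := h
  have hall : ∀ v < 4096, app c.1 (app c.2.1 v) ^^^ app c.2.2 (fkey g v) = v := by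
    refine xor_induction (p := fun v => app c.1 (app c.2.1 v) ^^^ app c.2.2 (fkey g v) = v) ?_ 12 fun i hi m _ ih => ?_
    · rw [app_zero, app_zero, fkey_zero, app_zero]; rfl
    · rw [app_xor, app_xor, fkey_xor, app_xor]
      conv_rhs => rw [← hid i hi, ← ih]
      ac_rfl
  have hmem : ∀ v ∈ fixedBy g, ∃ k < 2 ^ c.1.length, app c.1 k = v := fun v hv => by
    obtain ⟨h1, h2⟩ := fixedBy_mem hv
    refine ⟨app c.2.1 v, Cos.J4Sub.app_lt hK v, ?_⟩
    have := hall v h1
    rwa [h2, app_zero, Nat.xor_zero] at this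
  refine ⟨hmem, ?_⟩
  rw [← List.toFinset_card_of_nodup (fixedBy_nodup g)]
  refine le_trans (Finset.card_le_card (t := (Finset.range (2 ^ c.1.length)).image (app c.1)) fun v hv => ?_)
    (le_trans Finset.card_image_le (le_of_eq (Finset.card_range _)))
  obtain ⟨k, hk, rfl⟩ := hmem v (List.mem_toFinset.1 hv)
  exact Finset.mem_image.2 ⟨k, Finset.mem_range.2 hk, rfl⟩

theorem zip_mem {α β : Type*} {l : List α} {m : List β} (h : l.length ≤ m.length) {a : α} (ha : a ∈ l) :
    ∃ b, (a, b) ∈ l.zip m := by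
  have : a ∈ (l.zip m).map Prod.fst := by rwa [List.map_fst_zip h]
  obtain ⟨⟨x, b⟩, hb, rfl⟩ := List.mem_map.1 this
  exact ⟨b, hb⟩

/-- The other set of eight indices. -/
def uIdx2 : List ℕ := [0, 143, 91, 162, 6, 137, 93, 164]

theorem fix3_check : lvl3.length = fixC3.length ∧ ((lvl3.zip fixC3).all fun p => fixOK p.1.1 p.2 &&
    ((decide (p.1.2 < 65536) && (((List.range 16).filter fun e => p.1.2.testBit e).length == 8) &&
        (List.range (2 ^ p.2.1.length)).all fun k => decide (app p.2.1 k < 64)) ||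
      (!(decide (p.1.2 < 65536)) && ((p.1.2 == maskOf uIdx) || (p.1.2 == maskOf uIdx2) ||
        decide (p.2.1.length ≤ 5))))) = true := by decide +kernel

theorem fix4_check : lvl4.length = fixC4.length ∧ ((lvl4.zip fixC4).all fun p => fixOK p.1.1 p.2 &&
    ((p.1.2 == 65535) || decide (p.2.1.length ≤ 4))) = true := by decide +kernel

/-- The subgroups of rank three. -/
theorem lvl3_cases {U : List ℕ × ℕ} (hU : U ∈ lvl3) :
    (U.2 < 65536 ∧ ((List.range 16).filter fun e => U.2.testBit e).length = 8 ∧ ∀ v ∈ fixedBy U.1, v < 64) ∨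
    (¬ U.2 < 65536 ∧ (U.2 = maskOf uIdx ∨ U.2 = maskOf uIdx2 ∨ (fixedBy U.1).length < 64)) := by
  obtain ⟨c, hc⟩ := zip_mem fix3_check.1.le hU
  have h := List.all_eq_true.1 fix3_check.2 _ hc
  simp only [Bool.and_eq_true, Bool.or_eq_true, decide_eq_true_eq, beq_iff_eq, List.all_eq_true, List.mem_range,
    Bool.not_eq_true', decide_eq_false_iff_not] at h
  obtain ⟨hok, h⟩ := h
  obtain ⟨hmem, hlen⟩ := fixOK_sound hok
  rcases h with ⟨⟨h1, h2⟩, h3⟩ | ⟨h1, (h2 | h2) | h2⟩
  · exact Or.inl ⟨h1, h2, fun v hv => by obtain ⟨k, hk, rfl⟩ := hmem v hv; exact h3 k hk⟩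
  · exact Or.inr ⟨h1, Or.inl h2⟩
  · exact Or.inr ⟨h1, Or.inr (Or.inl h2)⟩
  · exact Or.inr ⟨h1, Or.inr (Or.inr (lt_of_le_of_lt (le_trans hlen (Nat.pow_le_pow_right (by norm_num) h2))
      (by norm_num)))⟩

/-- The subgroups of rank four. -/
theorem lvl4_cases {U : List ℕ × ℕ} (hU : U ∈ lvl4) : U.2 = 65535 ∨ (fixedBy U.1).length < 32 := by
  obtain ⟨c, hc⟩ := zip_mem fix4_check.1.le hU
  have h := List.all_eq_true.1 fix4_check.2 _ hc
  simp only [Bool.and_eq_true, Bool.or_eq_true, decide_eq_true_eq, beq_iff_eq] at h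
  exact h.2.imp id fun h2 => lt_of_le_of_lt (le_trans (fixOK_sound h.1).2 (Nat.pow_le_pow_right (by norm_num) h2))
    (by norm_num)

theorem uFix : ∀ v ∈ fixedBy [128, 80, 6], inW v = true := by
  suffices h : ∃ c : List ℕ × List ℕ × List ℕ, fixOK [128, 80, 6] c = true ∧
      ((List.range (2 ^ c.1.length)).all fun k => inW (app c.1 k)) = true by
    obtain ⟨c, hok, hall⟩ := h
    intro v hv
    obtain ⟨k, hk, rfl⟩ := (fixOK_sound hok).1 v hv
    exact List.all_eq_true.1 hall k (List.mem_range.2 hk)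
  exact ⟨uCert, by decide +kernel, by decide +kernel⟩

end Cfsg.Agent.Spor.JFour.Penta
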