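import Cfsg.Agent.Lib.Spor.JFourType.Penta.Data

/-!
Data: the conjugates of the involution above the trivial index and the translates above the seven others.
-/

set_option autoImplicit false
set_option maxRecDepth 100000
set_option Elab.async false

namespace Cfsg.Agent.Spor.JFour.Penta

/-- The conjugates above the trivial index. -/
def wEl : List ℕ := [1, 8, 9, 12, 13, 14, 15, 16, 17, 18, 19, 22, 23, 24, 25, 26,
  27, 28, 29, 32, 33, 40, 41, 50, 51, 58, 59, 64, 65, 76, 77, 80,
  81, 92, 93, 96, 97, 110, 111, 118, 119, 120, 121]

/-- The translates of the lifts above the other indices. -/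
def trEl : List (List ℕ) := [[], [128, 142, 146, 156, 160, 175, 178, 189, 192, 207, 211, 220, 224, 238, 243, 253], [256, 268, 278, 282, 288, 301, 311, 314, 320, 332, 343, 347, 352, 365, 374, 379], [384, 392, 400, 408, 416, 424, 433, 441, 448, 457, 464, 473, 480, 489, 497, 504], [512, 515, 517, 519, 520, 523, 524, 526, 528, 530, 533, 534, 536, 538, 540, 543], [640, 654, 658, 668, 679, 680, 693, 698, 707, 716, 720, 735, 741, 747, 758, 760], [768, 780, 790, 794, 805, 808, 818, 831, 839, 843, 848, 860, 867, 878, 885, 888], [896, 904, 912, 920, 931, 939, 946, 954, 965, 972, 981, 988, 999, 1006, 1014, 1023]]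

end Cfsg.Agent.Spor.JFour.Penta
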