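import Cfsg.Agent.Lib.Spor.JFourType.Penta.Stab
import Cfsg.Agent.Lib.Spor.JFourType.Penta.FusData

/-!
Exactly 155 elements of the elementary abelian group of order 2¹⁰ are conjugate to the central involution, and the
lifts of the eight matrices are the conjugates.
-/

set_option autoImplicit false
set_option maxRecDepth 100000
set_option linter.style.haveILetI false

open Cfsg Cfsg.Agent.Spor.Golay
open Cfsg.Agent.Spor.Cos.J4Sub (app mm app_mm app_xor app_zero)

namespace Cfsg.Agent.Spor.JFour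

namespace Penta

/-- The matrices of four elements stabilising the singular space. -/
def stMat (i : ℕ) : List ℕ := if i < 3 then evM (asg mS mW mQ) (stWord i) else mT

/-- Their permutations. -/
def stP (i k : ℕ) : ℕ := (stPerm.getD i []).getD k 0

/-- The root of a point of the singular space. -/
def wRoot : ℕ → ℕ → ℕ
  | 0, n => n
  | f + 1, n => if wBy.getD n 4 == 4 then n else wRoot f (wPar.getD n 0)

/-- The sign attached to an index by a code. -/
def fF (F : ℕ) : ℕ → Bool
  | 3 => F.testBit 0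
  | 5 => F.testBit 1
  | 6 => F.testBit 2
  | 7 => F.testBit 3
  | _ => false

/-- The conjugates of the involution, for given signs. -/
def elO (F : ℕ) : List ℕ :=
  wEl ++ (List.range 7).flatMap fun j => (trEl.getD (j + 1) []).map (· ^^^ bn (fF F (j + 1)))

/-- A set as a number. -/
def elMask (L : List ℕ) : ℕ := L.foldr (fun w m => 2 ^ w ||| m) 0

/-- The number of translates in the set. -/
def cntE (F u : ℕ) : ℕ := ((elO F).filter fun w => (elMask (elO F)).testBit (w ^^^ u)).length

theorem st_check : ((List.range 4).all fun i => keepsW (stMat i) && ((stWord i).all fun l => decide (l < 9)) &&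
    (List.range 8).all fun k => decide (stP i k < 8) && ((k == 0) == (stP i k == 0)) &&
      (mm (stMat i) (tbEl (ux k)) == mm (tbEl (ux (stP i k))) (stMat i))) = true := by decide +kernel

theorem w_check : ((List.range 64).all fun n => (n == 0) || (((wRoot 8 n == 4) || (wRoot 8 n == 1)) &&
      ((wBy.getD n 4 == 4) || (decide (wBy.getD n 4 < 4) &&
        (cw (app (stMat (wBy.getD n 4)) (wc (wPar.getD n 0))) == n) && decide (wPar.getD n 0 < 64) &&
        (wPar.getD n 0 != 0))) &&
      (List.range 12).any fun i => trOK (2 ^ i) 0 && (trImg (2 ^ i) (2 * n) == 2 * n + 1))) = true ∧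
    ((List.range 128).all fun w => wEl.contains w == ((w == 1) || (decide (2 ≤ w) && (wRoot 8 (w / 2) == 4)))) = true ∧
    wc 4 = 17 ∧ wc 1 = 4 ∧ ((Finset.range 128).filter fun w => wEl.contains w = true).card = 43 := by decide +kernel

theorem cos_check : ((List.range 128).all fun x => [0, 1, 2, 4, 6].contains (cosCls.getD x 9) &&
      trOK (cosTr.getD x 0) 4 && (trImg (cosTr.getD x 0) (512 + cosRep.getD (cosCls.getD x 9) 0) == 512 + x)) = true ∧
    cosRep = [0, 1, 32, 33, 64, 65, 96, 97] ∧ cw (app mT (wc 16)) = 32 ∧ cw (app mT (wc 32)) = 48 ∧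
    ((Finset.range 128).filter fun x => cosCls.getD x 9 = 0).card = 16 ∧
    ((Finset.range 128).filter fun x => cosCls.getD x 9 ≠ 1).card = 112 := by decide +kernel

theorem walk_check : stWalk.foldl (fun k i => stP i k) 4 = 4 ∧ (stWalk.all fun i => decide (i < 4)) = true ∧
    ((List.range 8).all fun k => (k == 0) ||
      (List.range 13).any fun j => (stWalk.take j).foldl (fun k i => stP i k) 4 == k) = true := by decide +kernel

theorem tr_check' : ((List.range 8).all fun k => (k == 0) || (((trW.getD k []).all fun v => trOK v k) &&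
      ((trW.getD k []).map (fun v => trImg v (128 * k)) == trEl.getD k []) &&
      ((trW.getD k []).map (fun v => trImg v (128 * k + 1)) == (trEl.getD k []).map (· ^^^ 1)) &&
      decide ((trEl.getD k []).Nodup) && ((trEl.getD k []).length == 16) &&
      (trEl.getD k []).all fun w => w / 128 == k)) = true ∧ (wEl.all fun w => decide (w < 128)) = true := by
  decide +kernel

theorem f_check : ((List.range 16).all fun F => (F == 0) || (cntE F 128 != cntE F 1) || (cntE F 256 != cntE F 1)) = true ∧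
    elMask (elO 0) = oMask := by decide +kernel

theorem testBit_elMask : ∀ (L : List ℕ) (w : ℕ), (elMask L).testBit w = true ↔ w ∈ L
  | [], w => by simp [elMask]
  | a :: L, w => by
    rw [show elMask (a :: L) = 2 ^ a ||| elMask L from rfl, Nat.testBit_or, Bool.or_eq_true, testBit_elMask L w,
      Nat.testBit_two_pow, decide_eq_true_eq, List.mem_cons, eq_comm]

end Penta

namespace Pen

variable {G : Type*} [Group G] {z : G} {P : Subgroup G} {S : Setting z P} (B : Pen S) [Finite G]
open Penta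

/-- The coordinate gives a conjugate of the involution. -/
def InO (v : ℕ) : Prop := ∃ k : G, k * z * k⁻¹ = B.Pv v

omit [Finite G] in
theorem inO_conj {g : G} {u v : ℕ} (e : g * B.Pv u * g⁻¹ = B.Pv v) : B.InO u ↔ B.InO v := by
  constructor
  · rintro ⟨k, hk⟩
    exact ⟨g * k, by rw [← e, ← hk]; group⟩
  · rintro ⟨k, hk⟩
    refine ⟨g⁻¹ * k, ?_⟩
    rw [show g⁻¹ * k * z * (g⁻¹ * k)⁻¹ = g⁻¹ * (k * z * k⁻¹) * g by group, hk, ← e]
    group

theorem inO_tr {v w : ℕ} (hw : w < 1024) (h : trOK v (w / 128) = true) : B.InO w ↔ B.InO (trImg v w) :=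
  B.inO_conj (B.tr_conj hw h).1

/-- The sign of a lift. -/
noncomputable def fb (k : ℕ) : Bool := by
  classical exact decide (B.bU k ≠ B.ι (ux k))

theorem fb_spec {k : ℕ} (hk : k < 8) (h0 : k ≠ 0) : B.bU k = B.ι (ux k) * zp z (B.fb k) := by
  classical
  obtain ⟨hm, hr, -⟩ := B.ι_spec _ ((ux_spec hk).2.1 h0)
  obtain ⟨hb, hbr, -⟩ := B.bU_spec hk
  unfold fb
  by_cases he : B.bU k = B.ι (ux k)
  · simp [he, zp]
  · rw [decide_eq_true he]
    exact (B.F.toCoord.CP_rep_eq hm hb hr hbr).resolve_left he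

theorem fb_pow {i : ℕ} (hi : i < 3) : B.fb (2 ^ i) = false := by
  classical
  unfold fb
  simp [B.bU_pow hi]

theorem ι_eq {k : ℕ} (hk : k < 8) (h0 : k ≠ 0) : B.ι (ux k) = B.Pv (128 * k + bn (B.fb k)) := by
  have h := B.Pv_build (n := 0) hk (by norm_num) (B.fb k)
  rw [show 128 * k + 2 * 0 + bn (B.fb k) = 128 * k + bn (B.fb k) by omega, B.lW_zero, mul_one, B.fb_spec hk h0] at h
  rw [h, ← mul_assoc, ← S.zp_comm (S.commz (B.ι_spec _ ((ux_spec hk).2.1 h0)).mem), mul_assoc, S.zp_mul,
    Bool.xor_self, show zp z false = 1 from rfl, mul_one]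

theorem inO_ι {k : ℕ} (hk : k < 8) (h0 : k ≠ 0) :
    B.InO (128 * k + bn (B.fb k)) ∧ ¬ B.InO (128 * k + bn (!B.fb k)) := by
  obtain ⟨hm, -, -, ⟨c, hc⟩, hno⟩ := B.ι_spec _ ((ux_spec hk).2.1 h0)
  refine ⟨⟨c, hc.trans (B.ι_eq hk h0)⟩, fun ⟨g, hg⟩ => hno g ?_⟩
  have h := B.Pv_build (n := 0) hk (by norm_num) (!B.fb k)
  rw [show 128 * k + 2 * 0 + bn (!B.fb k) = 128 * k + bn (!B.fb k) by omega, B.lW_zero, mul_one, B.fb_spec hk h0] at h
  rw [hg, h, ← mul_assoc, ← S.zp_comm (S.commz hm), mul_assoc, S.zp_mul]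
  cases B.fb k <;> rfl

/-- The four elements stabilising the singular space. -/
noncomputable def stG (i : ℕ) : G := if i < 3 then B.F.lw (stWord i) else B.F.R.t

theorem stG_spec {i : ℕ} (hi : i < 4) : B.stG i ∈ CP z P ∧ B.F.toCoord.Rep (B.stG i) (stMat i) ∧
    keepsW (stMat i) = true ∧ ∀ k < 8, stP i k < 8 ∧ (k = 0 ↔ stP i k = 0) ∧
      mm (stMat i) (tbEl (ux k)) = mm (tbEl (ux (stP i k))) (stMat i) := by
  have h := List.all_eq_true.1 st_check i (List.mem_range.2 hi)
  simp only [Bool.and_eq_true, List.all_eq_true, decide_eq_true_eq, List.mem_range, beq_iff_eq] at h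
  obtain ⟨⟨h1, h2⟩, h3⟩ := h
  refine ⟨?_, ?_, h1, fun k hk => ⟨(h3 k hk).1.1, ?_, (h3 k hk).2⟩⟩
  · unfold stG; split_ifs
    · exact (B.F.lw_spec h2).1
    · exact B.F.toCoord.t_mem
  · unfold stG stMat; split_ifs
    · exact (B.F.lw_spec h2).2.2
    · exact B.F.toCoord.rep_t
  · have := (h3 k hk).1.2
    rw [Bool.eq_iff_iff, beq_iff_eq, beq_iff_eq] at this
    exact this

theorem st_conj {i k x : ℕ} (hi : i < 4) (hk : k < 8) (hx : x < 128) :
    ∃ y < 128, B.stG i * B.Pv (128 * k + x) * (B.stG i)⁻¹ = B.Pv (128 * stP i k + y) := by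
  obtain ⟨hg, hM, hW, hp⟩ := B.stG_spec hi
  obtain ⟨hk', h00, hmm⟩ := hp k hk
  have hn : x / 2 < 64 := by omega
  obtain ⟨ε, hε⟩ : ∃ ε, B.stG i * B.bU k * (B.stG i)⁻¹ = zp z ε * B.bU (stP i k) := by
    by_cases h0 : k = 0
    · exact ⟨false, by rw [h00.1 h0, h0, B.bU_zero, mul_one, mul_inv_cancel]; simp [zp]⟩
    · have h0' : stP i k ≠ 0 := fun e => h0 (h00.2 e)
      refine ⟨xor (B.fb k) (B.fb (stP i k)), ?_⟩
      rw [B.fb_spec hk h0, B.fb_spec hk' h0',
        show B.stG i * (B.ι (ux k) * zp z (B.fb k)) * (B.stG i)⁻¹ =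
          (B.stG i * B.ι (ux k) * (B.stG i)⁻¹) * (B.stG i * zp z (B.fb k) * (B.stG i)⁻¹) by group,
        B.ι_conj (S.nc_CP hg) hM ((ux_spec hk).2.1 h0) ((ux_spec hk').2.1 h0') hmm,
        S.zp_comm (S.commz hg), mul_inv_cancel_right, ← mul_assoc,
        ← S.zp_comm (S.commz (B.ι_spec _ ((ux_spec hk').2.1 h0')).mem), mul_assoc, S.zp_mul]
      cases B.fb k <;> cases B.fb (stP i k) <;> rfl
  refine ⟨2 * cw (app (stMat i) (wc (x / 2))) + bn (xor (decide (x % 2 = 1)) ε), ?_, ?_⟩
  · have := cw_lt (app (stMat i) (wc (x / 2)))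
    unfold bn; split_ifs <;> omega
  have hb : ∀ b, bn b < 2 := fun b => by unfold bn; split_ifs <;> norm_num
  rw [← Nat.add_assoc, B.Pv_build hk' (cw_lt _), show 128 * k + x = 128 * k + 2 * (x / 2) + bn (decide (x % 2 = 1)) by
    unfold bn; by_cases h : x % 2 = 1 <;> simp [h] <;> omega, B.Pv_build hk hn]
  set e := decide (x % 2 = 1)
  have hl := B.conj_lW (S.nc_CP hg) hM hW hn
  calc B.stG i * (zp z e * B.lW (x / 2) * B.bU k) * (B.stG i)⁻¹
      = (B.stG i * zp z e * (B.stG i)⁻¹) * (B.stG i * B.lW (x / 2) * (B.stG i)⁻¹) *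
          (B.stG i * B.bU k * (B.stG i)⁻¹) := by group
    _ = zp z e * (B.lW (cw (app (stMat i) (wc (x / 2)))) * zp z ε) * B.bU (stP i k) := by
        rw [S.zp_comm (S.commz hg), mul_inv_cancel_right, hl, hε]; simp only [mul_assoc]
    _ = _ := by rw [S.zp_comm (S.ext.central _ (B.lW_spec (cw_lt _)).1), ← mul_assoc, S.zp_mul]

theorem inO_root : ∀ (f : ℕ) {n : ℕ}, n < 64 → n ≠ 0 → (B.InO (2 * n) ↔ B.InO (2 * wRoot f n))
  | 0, n, _, _ => Iff.rfl
  | f + 1, n, hn, h0 => by
    by_cases h4 : wBy.getD n 4 = 4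
    · rw [wRoot, if_pos (by simpa using h4)]
    have hc := List.all_eq_true.1 w_check.1 n (List.mem_range.2 hn)
    simp only [Bool.or_eq_true, beq_iff_eq, h0, h4, false_or, Bool.and_eq_true, decide_eq_true_eq, bne_iff_ne] at hc
    obtain ⟨⟨-, ⟨⟨hi, himg⟩, hp⟩, hp0⟩, -⟩ := hc
    have he : wRoot (f + 1) n = wRoot f (wPar.getD n 0) := by rw [wRoot, if_neg (by simpa using h4)]
    rw [he, ← inO_root f hp hp0]
    obtain ⟨hg, hM, hW, -⟩ := B.stG_spec hi
    refine (B.inO_conj (g := B.stG (wBy.getD n 4)) ?_).symm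
    rw [B.Pv_low hp, B.Pv_low hn, B.conj_lW (S.nc_CP hg) hM hW hp, himg]

/-- Above the trivial index. -/
theorem inO_zero_coset {x : ℕ} (hx : x < 128) : B.InO x ↔ wEl.contains x = true := by
  obtain ⟨hc, hel, w4', w1', -⟩ := w_check
  rw [beq_iff_eq.1 (List.all_eq_true.1 hel x (List.mem_range.2 hx))]
  simp only [Bool.or_eq_true, Bool.and_eq_true, beq_iff_eq, decide_eq_true_eq]
  rcases Nat.lt_or_ge x 2 with h2 | h2
  · interval_cases x
    · refine iff_of_false (fun ⟨k, hk⟩ => S.ext.ne ?_) (by simp)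
      rw [B.Pv_zero, mul_inv_eq_iff_eq_mul, one_mul, mul_eq_left] at hk
      exact hk
    · exact iff_of_true ⟨1, by rw [B.Pv_one]; group⟩ (Or.inl rfl)
  have hn : x / 2 < 64 := by omega
  have h0 : x / 2 ≠ 0 := by omega
  have hh := List.all_eq_true.1 hc _ (List.mem_range.2 hn)
  simp only [Bool.or_eq_true, beq_iff_eq, h0, false_or, Bool.and_eq_true, List.any_eq_true, List.mem_range] at hh
  obtain ⟨⟨hroot, -⟩, i, -, hok, himg⟩ := hh
  have hev : B.InO x ↔ B.InO (2 * (x / 2)) := by
    by_cases he : x % 2 = 0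
    · rw [show 2 * (x / 2) = x by omega]
    · have := B.inO_tr (v := 2 ^ i) (w := 2 * (x / 2)) (by omega)
        (by rwa [show 2 * (x / 2) / 128 = 0 by omega])
      rw [himg, show 2 * (x / 2) + 1 = x by omega] at this
      exact this.symm
  rw [hev, B.inO_root 8 hn h0]
  have hpos : B.InO (2 * 4) := by
    obtain ⟨k, hk⟩ := B.w17
    exact ⟨k, by rw [B.Pv_low (by norm_num), lW, w4']; exact hk⟩
  have hneg : ¬ B.InO (2 * 1) := fun ⟨k, hk⟩ => by
    rw [B.Pv_low (by norm_num), lW, w1'] at hk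
    exact (B.w4 k).1 hk
  rcases hroot with h | h <;> rw [h]
  · exact iff_of_true hpos (Or.inr ⟨h2, rfl⟩)
  · exact iff_of_false hneg (by rintro (h' | ⟨-, h'⟩) <;> omega)

/-- Above the fourth index. -/
theorem inO_four {x : ℕ} (hx : x < 128) :
    B.InO (512 + x) ↔ cosCls.getD x 9 = 0 ∨ (cosCls.getD x 9 ≠ 1 ∧ B.InO (512 + 32)) := by
  obtain ⟨hc, hrep, ht1, ht2, -⟩ := cos_check
  have hh := List.all_eq_true.1 hc x (List.mem_range.2 hx)
  simp only [Bool.and_eq_true, List.contains_iff_mem, beq_iff_eq, List.mem_cons, List.not_mem_nil, or_false] at hh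
  obtain ⟨⟨hcls, hok⟩, himg⟩ := hh
  have hr : cosRep.getD (cosCls.getD x 9) 0 < 128 := by
    rcases hcls with h | h | h | h | h <;> rw [h, hrep] <;> decide
  have h1 := B.inO_tr (v := cosTr.getD x 0) (w := 512 + cosRep.getD (cosCls.getD x 9) 0) (by omega)
    (by rwa [show (512 + cosRep.getD (cosCls.getD x 9) 0) / 128 = 4 by omega])
  rw [himg] at h1
  rw [← h1]
  have hf : B.fb 4 = false := B.fb_pow (i := 2) (by norm_num)
  obtain ⟨h4, h5⟩ := B.inO_ι (k := 4) (by norm_num) (by norm_num)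
  rw [hf] at h4 h5
  have hp : ∀ n < 64, B.Pv (512 + 2 * n) = B.lW n * B.bU 4 := fun n hn => by
    have h := B.Pv_build (k := 4) (n := n) (by norm_num) hn false
    simpa [bn, zp] using h
  have ht : ∀ {n m}, n < 64 → cw (app mT (wc n)) = m → (B.InO (512 + 2 * n) ↔ B.InO (512 + 2 * m)) := by
    intro n m hn hm
    obtain ⟨hg, hM, hW, hp4⟩ := B.stG_spec (i := 3) (by norm_num)
    obtain ⟨-, -, hmm⟩ := hp4 4 (by norm_num)
    have hu : invI (ux 4) = true := (ux_spec (by norm_num)).2.1 (by norm_num)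
    have e3 : stMat 3 = mT := rfl
    refine B.inO_conj (g := B.stG 3) ?_
    have hb4 : B.bU 4 = B.ι (ux 4) := B.bU_pow (i := 2) (by norm_num)
    rw [hp n hn, hp m (hm ▸ cw_lt _), hb4,
      show B.stG 3 * (B.lW n * B.ι (ux 4)) * (B.stG 3)⁻¹ =
        (B.stG 3 * B.lW n * (B.stG 3)⁻¹) * (B.stG 3 * B.ι (ux 4) * (B.stG 3)⁻¹) by group,
      B.conj_lW (S.nc_CP hg) hM hW hn, e3, hm, B.ι_conj (S.nc_CP hg) hM hu hu (by rwa [show stP 3 4 = 4 from rfl] at hmm)]
  have a1 : B.InO (512 + 32) ↔ B.InO (512 + 64) := ht (n := 16) (by norm_num) ht1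
  have a2 : B.InO (512 + 64) ↔ B.InO (512 + 96) := ht (n := 32) (by norm_num) ht2
  rcases hcls with h | h | h | h | h <;> rw [h, hrep]
  · exact iff_of_true h4 (Or.inl rfl)
  · exact iff_of_false h5 (by simp)
  · show B.InO (512 + 32) ↔ _
    simp
  · show B.InO (512 + 64) ↔ _
    rw [← a1]; simp
  · show B.InO (512 + 96) ↔ _
    rw [← a2, ← a1]; simp

/-- The conjugates above an index. -/
noncomputable def cosO (k : ℕ) : Finset ℕ := by
  classical exact (Finset.range 128).filter fun x => B.InO (128 * k + x)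

theorem cosO_step {i k : ℕ} (hi : i < 4) (hk : k < 8) : (B.cosO k).card ≤ (B.cosO (stP i k)).card := by
  classical
  have hk' := ((B.stG_spec hi).2.2.2 k hk).1
  choose π hπ hπe using fun x : Fin 128 => B.st_conj hi hk x.2
  refine Finset.card_le_card_of_injOn (fun x => π ⟨x % 128, Nat.mod_lt _ (by norm_num)⟩) (fun x hx => ?_)
    (fun a ha b hb e => ?_)
  · obtain ⟨hx', hO⟩ := Finset.mem_filter.1 hx
    refine Finset.mem_filter.2 ⟨Finset.mem_range.2 (hπ _), (B.inO_conj (g := B.stG i) ?_).1 hO⟩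
    have h := hπe ⟨x % 128, Nat.mod_lt _ (by norm_num)⟩
    simpa [Nat.mod_eq_of_lt (Finset.mem_range.1 hx')] using h
  · have ha' := Finset.mem_range.1 (Finset.mem_filter.1 ha).1
    have hb' := Finset.mem_range.1 (Finset.mem_filter.1 hb).1
    have h1 := hπe ⟨a % 128, Nat.mod_lt _ (by norm_num)⟩
    have h2 := hπe ⟨b % 128, Nat.mod_lt _ (by norm_num)⟩
    simp only at e
    rw [e, ← h2] at h1
    have := B.Pv_inj (u := 128 * k + a % 128) (v := 128 * k + b % 128) (by omega) (by omega)
      (mul_left_cancel (mul_right_cancel h1))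
    omega

theorem cosO_card_eq {k : ℕ} (hk : k < 8) (h0 : k ≠ 0) : (B.cosO k).card = (B.cosO 4).card := by
  have mono : ∀ (L : List ℕ), (∀ i ∈ L, i < 4) → ∀ k < 8, L.foldl (fun k i => stP i k) k < 8 ∧
      (B.cosO k).card ≤ (B.cosO (L.foldl (fun k i => stP i k) k)).card := by
    intro L
    induction L with
    | nil => exact fun _ k hk => ⟨hk, le_rfl⟩
    | cons a L ih =>
      intro hL k hk
      have ha : a < 4 := hL a List.mem_cons_self
      obtain ⟨h1, h2⟩ := ih (fun i hi => hL i (List.mem_cons_of_mem _ hi)) _ ((B.stG_spec ha).2.2.2 k hk).1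
      exact ⟨h1, le_trans (B.cosO_step ha hk) h2⟩
  obtain ⟨hend, hlt, hall⟩ := walk_check
  have hk' := List.all_eq_true.1 hall k (List.mem_range.2 hk)
  simp only [Bool.or_eq_true, beq_iff_eq, h0, false_or, List.any_eq_true] at hk'
  obtain ⟨j, -, hj⟩ := hk'
  have hlt' : ∀ i ∈ stWalk, i < 4 := fun i hi => of_decide_eq_true (List.all_eq_true.1 hlt i hi)
  have h1 := (mono (stWalk.take j) (fun i hi => hlt' i (List.mem_of_mem_take hi)) 4 (by norm_num)).2
  have h2 := (mono (stWalk.drop j) (fun i hi => hlt' i (List.mem_of_mem_drop hi)) k hk).2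
  rw [hj] at h1
  have e : (stWalk.drop j).foldl (fun k i => stP i k) k = 4 := by
    rw [← hj, ← List.foldl_append, List.take_append_drop, hend]
  rw [e] at h2
  exact le_antisymm h2 h1

/-- The conjugates in the group. -/
noncomputable def allO : Finset ℕ := by
  classical exact (Finset.range 1024).filter B.InO

theorem mem_allO {v : ℕ} : v ∈ B.allO ↔ v < 1024 ∧ B.InO v := by
  classical
  simp [allO]

theorem card_allO : B.allO.card = 43 + 7 * (B.cosO 4).card := by
  classical
  have hsum := Finset.card_eq_sum_card_fiberwise (f := fun v => v / 128) (s := B.allO) (t := Finset.range 8)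
    fun v hv => Finset.mem_range.2 (show v / 128 < 8 by have := (B.mem_allO.1 hv).1; omega)
  have hfib : ∀ k ∈ Finset.range 8, (B.allO.filter fun v => v / 128 = k).card = (B.cosO k).card := fun k hk => by
    have hk' := Finset.mem_range.1 hk
    refine Finset.card_bij' (fun v _ => v % 128) (fun x _ => 128 * k + x) ?_ ?_ ?_ ?_
    · intro v hv
      obtain ⟨hv, hv2⟩ := Finset.mem_filter.1 hv
      exact Finset.mem_filter.2 ⟨Finset.mem_range.2 (Nat.mod_lt _ (by norm_num)),
        by rw [← hv2, Nat.div_add_mod]; exact (B.mem_allO.1 hv).2⟩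
    · intro x hx
      obtain ⟨hx, hx2⟩ := Finset.mem_filter.1 hx
      have := Finset.mem_range.1 hx
      exact Finset.mem_filter.2 ⟨B.mem_allO.2 ⟨by omega, hx2⟩, by omega⟩
    · intro v hv
      have := (Finset.mem_filter.1 hv).2
      omega
    · intro x hx
      have := Finset.mem_range.1 (Finset.mem_filter.1 hx).1
      omega
  rw [hsum, Finset.sum_congr rfl hfib]
  have h0 : (B.cosO 0).card = 43 := by
    rw [← w_check.2.2.2.2]
    refine congrArg Finset.card (Finset.filter_congr fun x hx => ?_)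
    rw [show 128 * 0 + x = x by omega, B.inO_zero_coset (Finset.mem_range.1 hx)]
  simp only [Finset.sum_range_succ, Finset.sum_range_zero, h0, B.cosO_card_eq (k := 1) (by norm_num) (by norm_num),
    B.cosO_card_eq (k := 2) (by norm_num) (by norm_num), B.cosO_card_eq (k := 3) (by norm_num) (by norm_num),
    B.cosO_card_eq (k := 5) (by norm_num) (by norm_num), B.cosO_card_eq (k := 6) (by norm_num) (by norm_num),
    B.cosO_card_eq (k := 7) (by norm_num) (by norm_num)]
  omega

/-- The order of the normaliser by the number of conjugates. -/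
theorem card_normalizer_allO :
    Nat.card ↥(Subgroup.normalizer (B.A0 : Set G)) = B.allO.card * (2 ^ 20 * 63) := by
  classical
  rw [← card_conj_orbit (Subgroup.normalizer (B.A0 : Set G)) z, B.card_normalizer_H]
  congr 1
  rw [← Nat.card_eq_finsetCard]
  refine (Nat.card_eq_of_bijective (fun v : {v // v ∈ B.allO} =>
    (⟨B.Pv v.1, ?_⟩ : {x : G // ∃ n ∈ Subgroup.normalizer (B.A0 : Set G), n * z * n⁻¹ = x})) ⟨?_, ?_⟩).symm
  · obtain ⟨hv, g, hg⟩ := B.mem_allO.1 v.2
    obtain ⟨n, hn, e⟩ := B.conj_in_normalizer (g := g) (hg ▸ B.Pv_mem hv)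
    exact ⟨n, hn, e.trans hg⟩
  · intro u v e
    exact Subtype.ext (B.Pv_inj (B.mem_allO.1 u.2).1 (B.mem_allO.1 v.2).1 (congrArg Subtype.val e))
  · rintro ⟨x, n, hn, rfl⟩
    obtain ⟨v, hv, e⟩ := (Subgroup.mem_normalizer_iff.1 hn z).1 B.z_mem_A0
    exact ⟨⟨v, B.mem_allO.2 ⟨hv, n, e.symm⟩⟩, Subtype.ext e⟩

theorem prime_827 : Nat.Prime 827 := by norm_num

/-- An element of order 827 would centralise the group. -/
theorem no_827 {g : G} (hg : g ∈ Subgroup.normalizer (B.A0 : Set G)) (ho : orderOf g = 827) : False := by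
  haveI : Fact (Nat.Prime 827) := ⟨prime_827⟩
  set Q := Subgroup.zpowers g
  have hQN : Q ≤ Subgroup.normalizer (B.A0 : Set G) := Subgroup.zpowers_le.2 hg
  letI : MulAction ↥Q ↥B.A0 :=
    { smul := fun q a => ⟨(q : G) * a * (q : G)⁻¹, (Subgroup.mem_normalizer_iff.1 (hQN q.2) _).1 a.2⟩
      one_smul := fun a => Subtype.ext (by show (1 : G) * a * (1 : G)⁻¹ = a; group)
      mul_smul := fun q r a => Subtype.ext (by
        show ((q * r : ↥Q) : G) * a * ((q * r : ↥Q) : G)⁻¹ = (q : G) * ((r : G) * a * (r : G)⁻¹) * (q : G)⁻¹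
        rw [Subgroup.coe_mul]; group) }
  have hQ : IsPGroup 827 ↥Q := IsPGroup.of_card (n := 1) (by rw [Nat.card_zpowers, ho, pow_one])
  have hmod := hQ.card_modEq_card_fixedPoints ↥B.A0
  set C := B.A0 ⊓ Subgroup.centralizer ({g} : Set G)
  have hcard : Nat.card (MulAction.fixedPoints ↥Q ↥B.A0) = Nat.card ↥C := by
    refine Nat.card_congr ⟨fun a => ⟨a.1.1, a.1.2, ?_⟩, fun c => ⟨⟨c.1, c.2.1⟩, ?_⟩, fun a => rfl, fun c => rfl⟩
    · have h := congrArg Subtype.val (a.2 ⟨g, Subgroup.mem_zpowers g⟩)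
      change g * a.1.1 * g⁻¹ = a.1.1 at h
      rw [mul_inv_eq_iff_eq_mul] at h
      exact Subgroup.mem_centralizer_singleton_iff.2 h.symm
    · rintro ⟨q, hq⟩
      refine Subtype.ext ?_
      show q * c.1 * q⁻¹ = c.1
      have hc : Commute (c : G) g := Subgroup.mem_centralizer_singleton_iff.1 c.2.2
      obtain ⟨k, rfl⟩ := Subgroup.mem_zpowers_iff.1 hq
      rw [← (hc.zpow_right k).eq, mul_inv_cancel_right]
  rw [hcard, B.card_A0, Nat.ModEq] at hmod
  have hdvd : Nat.card ↥C ∣ 2 ^ 10 := by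
    rw [← B.card_A0]; exact Subgroup.card_dvd_of_le inf_le_left
  obtain ⟨j, hj, hC⟩ := (Nat.dvd_prime_pow Nat.prime_two).1 hdvd
  rw [hC] at hmod
  have hj10 : j = 10 := by interval_cases j <;> simp_all
  rw [hj10] at hC
  have hCA : C = B.A0 := Subgroup.eq_of_le_of_card_ge inf_le_left (by rw [hC, B.card_A0])
  have hgA : g ∈ B.A0 := B.centralizer_A0.le (Subgroup.mem_centralizer_iff.2 fun a ha => by
    have : a ∈ C := hCA ▸ ha
    exact Subgroup.mem_centralizer_singleton_iff.1 this.2)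
  have h2 : orderOf g ∣ 2 := orderOf_dvd_of_pow_eq_one (by rw [pow_two]; exact B.A0_sq g hgA)
  rw [ho] at h2
  exact absurd (Nat.le_of_dvd (by norm_num) h2) (by norm_num)

theorem card_cos_four : (B.cosO 4).card = 16 ∧ ¬ B.InO (512 + 32) := by
  classical
  by_cases hβ : B.InO (512 + 32)
  · exfalso
    have h4 : (B.cosO 4).card = 112 := by
      rw [← cos_check.2.2.2.2.2]
      refine congrArg Finset.card (Finset.filter_congr fun x hx => ?_)
      rw [show 128 * 4 + x = 512 + x by omega, B.inO_four (Finset.mem_range.1 hx)]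
      exact ⟨fun h => h.elim (fun h => by omega) And.left, fun h => Or.inr ⟨h, hβ⟩⟩
    have hN := B.card_normalizer_allO
    rw [B.card_allO, h4] at hN
    haveI : Fact (Nat.Prime 827) := ⟨prime_827⟩
    obtain ⟨g, hg⟩ := exists_prime_orderOf_dvd_card' (G := ↥(Subgroup.normalizer (B.A0 : Set G))) 827
      (by rw [hN]; exact dvd_mul_right _ _)
    exact B.no_827 g.2 (by rw [← hg, Subgroup.orderOf_coe])
  · refine ⟨?_, hβ⟩
    rw [← cos_check.2.2.2.2.1]
    refine congrArg Finset.card (Finset.filter_congr fun x hx => ?_)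
    rw [show 128 * 4 + x = 512 + x by omega, B.inO_four (Finset.mem_range.1 hx)]
    exact ⟨fun h => h.elim id fun h => absurd h.2 hβ, Or.inl⟩

theorem card_allO_eq : B.allO.card = 155 := by rw [B.card_allO, B.card_cos_four.1]

/-- The order of the normaliser. -/
theorem card_normalizer_A0 : Nat.card ↥(Subgroup.normalizer (B.A0 : Set G)) = 155 * (2 ^ 20 * 63) := by
  rw [B.card_normalizer_allO, B.card_allO_eq]

/-- The code of the signs. -/
noncomputable def fCode : ℕ := bn (B.fb 3) + 2 * bn (B.fb 5) + 4 * bn (B.fb 6) + 8 * bn (B.fb 7)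

theorem fF_code {k : ℕ} (hk : k < 8) (h0 : k ≠ 0) : fF B.fCode k = B.fb k := by
  have h1 : B.fb 1 = false := B.fb_pow (i := 0) (by norm_num)
  have h2 : B.fb 2 = false := B.fb_pow (i := 1) (by norm_num)
  have h4 : B.fb 4 = false := B.fb_pow (i := 2) (by norm_num)
  unfold fCode
  interval_cases k
  · exact absurd rfl h0
  all_goals
    simp only [fF, h1, h2, h4]
    try (cases B.fb 3 <;> cases B.fb 5 <;> cases B.fb 6 <;> cases B.fb 7 <;> rfl)

theorem fCode_lt : B.fCode < 16 := by unfold fCode bn; split_ifs <;> norm_num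

theorem inO_elO {v : ℕ} (hv : v < 1024) : B.InO v ↔ v ∈ elO B.fCode := by
  classical
  obtain ⟨htr, hwlt⟩ := tr_check'
  have hmem : v ∈ elO B.fCode ↔
      (v / 128 = 0 ∧ v ∈ wEl) ∨ (v / 128 ≠ 0 ∧ v ∈ (trEl.getD (v / 128) []).map (· ^^^ bn (B.fb (v / 128)))) := by
    simp only [elO, List.mem_append, List.mem_flatMap, List.mem_range]
    constructor
    · rintro (h | ⟨j, hj, h⟩)
      · have := of_decide_eq_true (List.all_eq_true.1 hwlt v h)
        exact Or.inl ⟨by omega, h⟩
      · obtain ⟨w, hw, e⟩ := List.mem_map.1 h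
        have hk := List.all_eq_true.1 htr (j + 1) (List.mem_range.2 (by omega))
        simp only [Bool.or_eq_true, beq_iff_eq, Nat.succ_ne_zero, false_or, Bool.and_eq_true,
          List.all_eq_true] at hk
        have hw' := hk.2 w hw
        have hd : v / 128 = j + 1 := by
          rw [← e, show (128 : ℕ) = 2 ^ 7 from rfl, ← Nat.shiftRight_eq_div_pow, Nat.shiftRight_xor_distrib,
            Nat.shiftRight_eq_div_pow, Nat.shiftRight_eq_div_pow, Nat.div_eq_of_lt (show bn _ < 2 ^ 7 by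
              unfold bn; split_ifs <;> norm_num), Nat.xor_zero]
          exact hw'
        refine Or.inr ⟨by omega, ?_⟩
        rw [hd]
        rw [B.fF_code (by omega) (Nat.succ_ne_zero j)] at h
        exact h
    · rintro (⟨-, h⟩ | ⟨h0, h⟩)
      · exact Or.inl h
      · refine Or.inr ⟨v / 128 - 1, by omega, ?_⟩
        rw [show v / 128 - 1 + 1 = v / 128 by omega, B.fF_code (by omega) h0]
        exact h
  rw [hmem]
  by_cases h0 : v / 128 = 0
  · rw [B.inO_zero_coset (by omega), List.contains_iff_mem]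
    simp [h0]
  simp only [h0, false_and, false_or, ne_eq, not_false_iff, true_and]
  set k := v / 128 with hk'
  have hk : k < 8 := by omega
  have hc := List.all_eq_true.1 htr k (List.mem_range.2 hk)
  simp only [Bool.or_eq_true, beq_iff_eq, h0, false_or, Bool.and_eq_true, List.all_eq_true, decide_eq_true_eq] at hc
  obtain ⟨⟨⟨⟨⟨hok, h1⟩, h2⟩, hnd⟩, hlen⟩, hdiv⟩ := hc
  set L := (trEl.getD k []).map (· ^^^ bn (B.fb k)) with hL
  have himg : (trW.getD k []).map (fun t => trImg t (128 * k + bn (B.fb k))) = L := by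
    rw [hL]
    cases B.fb k
    · simp only [bn, Bool.false_eq_true, if_false, Nat.add_zero, Nat.xor_zero, List.map_id']
      exact h1
    · exact h2
  have hsub : L.toFinset ⊆ B.allO.filter fun w => w / 128 = k := by
    intro w hw
    rw [List.mem_toFinset, ← himg, List.mem_map] at hw
    obtain ⟨t, ht, rfl⟩ := hw
    have hb : bn (B.fb k) < 2 := by unfold bn; split_ifs <;> norm_num
    have hlt : 128 * k + bn (B.fb k) < 1024 := by omega
    have hd : (128 * k + bn (B.fb k)) / 128 = k := by omega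
    have hbn : ∀ b, bn b < 2 := fun b => by unfold bn; split_ifs <;> norm_num
    refine Finset.mem_filter.2 ⟨B.mem_allO.2 ⟨(B.tr_conj hlt (by rw [hd]; exact hok t ht)).2,
      (B.inO_tr hlt (by rw [hd]; exact hok t ht)).1 (B.inO_ι hk h0).1⟩, ?_⟩
    show (128 * ((128 * k + bn (B.fb k)) / 128) + 2 * _ + bn _) / 128 = k
    rw [hd]
    have hx : ∀ a b, a < 64 → b < 64 → a ^^^ b < 64 := fun a b ha hb => Nat.xor_lt_two_pow (n := 6) ha hb
    have := hx _ _ (Nat.mod_lt ((128 * k + bn (B.fb k)) / 2) (show 0 < 64 by norm_num))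
      (cw_lt (t ^^^ app (tbEl (ux k)) t))
    have := hbn ((128 * k + bn (B.fb k)).testBit 0 ^^ ((bv t (wc ((128 * k + bn (B.fb k)) / 2 % 64))) ^^
      trS (tbEl (ux k)) t))
    omega
  have hndL : L.Nodup := hnd.map fun a b e => by
    have := congrArg (· ^^^ bn (B.fb k)) e
    simpa [Nat.xor_assoc] using this
  have hcard : (B.allO.filter fun w => w / 128 = k).card = 16 := by
    rw [← B.card_cos_four.1, ← B.cosO_card_eq hk h0]
    refine Finset.card_bij' (fun w _ => w % 128) (fun x _ => 128 * k + x) ?_ ?_ ?_ ?_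
    · intro w hw
      obtain ⟨hw, hw2⟩ := Finset.mem_filter.1 hw
      exact Finset.mem_filter.2 ⟨Finset.mem_range.2 (Nat.mod_lt _ (by norm_num)),
        by rw [← hw2, Nat.div_add_mod]; exact (B.mem_allO.1 hw).2⟩
    · intro x hx
      obtain ⟨hx, hx2⟩ := Finset.mem_filter.1 hx
      have := Finset.mem_range.1 hx
      exact Finset.mem_filter.2 ⟨B.mem_allO.2 ⟨by omega, hx2⟩, by omega⟩
    · intro w hw
      have := (Finset.mem_filter.1 hw).2
      omega
    · intro x hx
      have := Finset.mem_range.1 (Finset.mem_filter.1 hx).1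
      omega
  have heq := Finset.eq_of_subset_of_card_le hsub (by
    rw [hcard, List.toFinset_card_of_nodup hndL, hL, List.length_map, hlen])
  rw [← List.mem_toFinset, heq, Finset.mem_filter, B.mem_allO]
  exact ⟨fun h => ⟨⟨hv, h⟩, hk'.symm⟩, fun h => h.1.2⟩

theorem elO_lt {v : ℕ} (h : v ∈ elO B.fCode) : v < 1024 := by
  obtain ⟨htr, hwlt⟩ := tr_check'
  simp only [elO, List.mem_append, List.mem_flatMap, List.mem_range] at h
  rcases h with h | ⟨j, hj, h⟩
  · have := of_decide_eq_true (List.all_eq_true.1 hwlt v h)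
    omega
  · obtain ⟨w, hw, rfl⟩ := List.mem_map.1 h
    have hk := List.all_eq_true.1 htr (j + 1) (List.mem_range.2 (by omega))
    simp only [Bool.or_eq_true, beq_iff_eq, Nat.succ_ne_zero, false_or, Bool.and_eq_true, List.all_eq_true] at hk
    have := hk.2 w hw
    exact Nat.xor_lt_two_pow (n := 10) (by omega) (by unfold bn; split_ifs <;> norm_num)

/-- All the signs vanish. -/
theorem fCode_zero : B.fCode = 0 := by
  classical
  set L := elO B.fCode with hL
  have hmem : B.allO = L.toFinset := by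
    ext v
    rw [B.mem_allO, List.mem_toFinset]
    exact ⟨fun h => (B.inO_elO h.1).1 h.2, fun h => ⟨B.elO_lt h, (B.inO_elO (B.elO_lt h)).2 h⟩⟩
  have hlenL : L.length = 155 := by
    have : ∀ F < 16, (elO F).length = 155 := by decide +kernel
    exact this _ B.fCode_lt
  have hnd : L.Nodup := by
    rw [← Multiset.coe_nodup, ← Multiset.toFinset_card_eq_card_iff_nodup]
    show L.toFinset.card = L.length
    rw [← hmem, B.card_allO_eq, hlenL]
  have hT : ∀ u < 1024, (B.allO.filter fun w => B.InO (w ^^^ u)).card = cntE B.fCode u := fun u hu => by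
    rw [cntE, ← List.toFinset_card_of_nodup (hnd.filter _), List.toFinset_filter, hmem]
    refine congrArg Finset.card (Finset.filter_congr fun w hw => ?_)
    have hw' := B.elO_lt (List.mem_toFinset.1 hw)
    rw [testBit_elMask, ← B.inO_elO (Nat.xor_lt_two_pow (n := 10) hw' hu)]
  have key : ∀ u < 1024, B.InO u → cntE B.fCode u = cntE B.fCode 1 := by
    intro u hu ⟨g, hg⟩
    obtain ⟨n, hn, en⟩ := B.conj_in_normalizer (g := g) (hg ▸ B.Pv_mem hu)
    have en' : n * B.Pv 1 * n⁻¹ = B.Pv u := by rw [B.Pv_one, en, hg]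
    have le : ∀ {m : G} {a b : ℕ}, m ∈ Subgroup.normalizer (B.A0 : Set G) → a < 1024 → b < 1024 →
        m * B.Pv a * m⁻¹ = B.Pv b →
        (B.allO.filter fun w => B.InO (w ^^^ a)).card ≤ (B.allO.filter fun w => B.InO (w ^^^ b)).card := by
      intro m a b hm ha hb e
      have hπ : ∀ w, ∃ v, w < 1024 → v < 1024 ∧ B.Pv v = m * B.Pv w * m⁻¹ := fun w => by
        by_cases hw : w < 1024
        · obtain ⟨v, hv, ev⟩ := (Subgroup.mem_normalizer_iff.1 hm _).1 (B.Pv_mem hw)
          exact ⟨v, fun _ => ⟨hv, ev⟩⟩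
        · exact ⟨0, fun h => absurd h hw⟩
      choose π hπ using hπ
      refine Finset.card_le_card_of_injOn π (fun w hw => ?_) (fun v hv w hw evw => ?_)
      · obtain ⟨hw, h2⟩ := Finset.mem_filter.1 hw
        obtain ⟨hw, h1⟩ := B.mem_allO.1 hw
        have hwa : w ^^^ a < 1024 := Nat.xor_lt_two_pow (n := 10) hw ha
        have e2 : π (w ^^^ a) = π w ^^^ b :=
          B.Pv_inj (hπ _ hwa).1 (Nat.xor_lt_two_pow (n := 10) (hπ w hw).1 hb) (by
            rw [(hπ _ hwa).2, ← B.Pv_mul (hπ w hw).1 hb, (hπ w hw).2, ← e, ← B.Pv_mul hw ha]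
            group)
        refine Finset.mem_filter.2 ⟨B.mem_allO.2 ⟨(hπ w hw).1, (B.inO_conj (hπ w hw).2.symm).1 h1⟩, ?_⟩
        rw [← e2]
        exact (B.inO_conj (hπ _ hwa).2.symm).1 h2
      · have hv' := (B.mem_allO.1 (Finset.mem_filter.1 hv).1).1
        have hw' := (B.mem_allO.1 (Finset.mem_filter.1 hw).1).1
        refine B.Pv_inj hv' hw' ?_
        have h := congrArg B.Pv evw
        rw [(hπ v hv').2, (hπ w hw').2] at h
        exact mul_left_cancel (mul_right_cancel h)
    rw [← hT u hu, ← hT 1 (by norm_num)]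
    refine le_antisymm (le (inv_mem hn) hu (by norm_num) ?_) (le hn (by norm_num) hu en')
    rw [← en']
    group
  have h1 : B.InO 128 := by
    have := (B.inO_ι (k := 1) (by norm_num) (by norm_num)).1
    rwa [show B.fb 1 = false from B.fb_pow (i := 0) (by norm_num)] at this
  have h2 : B.InO 256 := by
    have := (B.inO_ι (k := 2) (by norm_num) (by norm_num)).1
    rwa [show B.fb 2 = false from B.fb_pow (i := 1) (by norm_num)] at this
  have hc := List.all_eq_true.1 f_check.1 _ (List.mem_range.2 B.fCode_lt)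
  simp only [Bool.or_eq_true, beq_iff_eq, bne_iff_ne] at hc
  rcases hc with (h | h) | h
  exacts [h, absurd (key 128 (by norm_num) h1) h, absurd (key 256 (by norm_num) h2) h]

/-- The lifts with given coordinates are the conjugates of the involution. -/
theorem bU_ι {k : ℕ} (hk : k < 8) (h0 : k ≠ 0) : B.bU k = B.ι (ux k) := by
  have h := B.fF_code hk h0
  rw [B.fCode_zero] at h
  have hf : B.fb k = false := by rw [← h]; unfold fF; split <;> simp
  rw [B.fb_spec hk h0, hf, show zp z false = 1 from rfl, mul_one]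

/-- The conjugates of the involution in coordinates. -/
theorem inO_iff {v : ℕ} (hv : v < 1024) : B.InO v ↔ oMask.testBit v = true := by
  rw [← f_check.2, testBit_elMask, B.inO_elO hv, B.fCode_zero]

end Pen

end Cfsg.Agent.Spor.JFour
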