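import Cfsg.Agent.Lib.Spor.JFourType.Penta.Lifts

/-!
The elementary abelian group of order 2¹⁰ in coordinates; it is its own centraliser.
-/

set_option autoImplicit false
set_option maxRecDepth 100000
set_option linter.style.haveILetI false

open Cfsg Cfsg.Agent.Spor.Golay
open Cfsg.Agent.Spor.Cos.J4Sub (app mm app_mm app_xor app_zero)

namespace Cfsg.Agent.Spor.JFour

namespace Penta

theorem wc_spec {n : ℕ} (hn : n < 64) : wc n < 4096 ∧ cw (wc n) = n ∧ qv (wc n) = false ∧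
    (∀ M ∈ [mI, mT, mT2], inW (app M (wc n)) = true) ∧ (∀ k < 8, app (tbEl (ux k)) (wc n) = wc n) ∧
    ∀ i < 6, bv (wc n) (wc (2 ^ i)) = false := by
  have h := List.all_eq_true.1 wc_check.1 n (List.mem_range.2 hn)
  simp only [Bool.and_eq_true, decide_eq_true_eq, beq_iff_eq, Bool.not_eq_true', List.all_eq_true,
    List.mem_range] at h
  exact ⟨h.1.1.1.1.1, h.1.1.1.1.2, h.1.1.1.2, h.1.1.2, h.1.2, h.2⟩

theorem wc_xor (a b : ℕ) : wc (a ^^^ b) = wc a ^^^ wc b := app_xor _ a b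

theorem bv_wc {a b : ℕ} (ha : a < 64) (hb : b < 64) : bv (wc a) (wc b) = false := by
  rw [bv, ← wc_xor, (wc_spec (Nat.xor_lt_two_pow (n := 6) ha hb)).2.2.1, (wc_spec ha).2.2.1, (wc_spec hb).2.2.1]
  rfl

theorem cw_lt (v : ℕ) : cw v < 64 := Nat.mod_lt _ (by norm_num)

theorem inW_iff {v : ℕ} : inW v = true ↔ wc (cw v) = v := beq_iff_eq

theorem inW_of_perp {v : ℕ} (hv : v < 4096) (h : ∀ i < 6, bv v (wc (2 ^ i)) = false) : inW v = true := by
  have e := List.all_eq_true.1 wc_check.2 v (List.mem_range.2 hv)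
  simp only [Bool.or_eq_true, List.any_eq_true, List.mem_range] at e
  exact e.resolve_right fun ⟨i, hi, hb⟩ => by rw [h i hi] at hb; exact Bool.noConfusion hb

theorem flat_wc {a b : ℕ} (ha : a < 64) (hb : b < 64) : Coord.Flat (wc a) (wc b) := fun M hM N hN => by
  rw [← inW_iff.1 ((wc_spec ha).2.2.2.1 M hM), ← inW_iff.1 ((wc_spec hb).2.2.2.1 N hN)]
  exact bv_wc (cw_lt _) (cw_lt _)

theorem ux_spec {k : ℕ} (hk : k < 8) : ux k < 256 ∧ (k ≠ 0 → invI (ux k) = true) ∧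
    ∀ j < 8, bm (ux k) (ux j) = ux (k ^^^ j) ∧ (ux j = ux k → j = k) := by
  have h := List.all_eq_true.1 ux_check.1 k (List.mem_range.2 hk)
  simp only [Bool.and_eq_true, decide_eq_true_eq, Bool.or_eq_true, beq_iff_eq, bne_iff_ne, List.all_eq_true,
    List.mem_range] at h
  exact ⟨h.1.1, fun h0 => h.1.2.resolve_left h0, fun j hj => ⟨(h.2 j hj).1, fun e => (h.2 j hj).2.resolve_right
    fun hne => hne e⟩⟩

theorem ux_of_fix {e : ℕ} (he : e < 256) (h : ∀ i < 6, app (tbEl e) (wc (2 ^ i)) = wc (2 ^ i)) :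
    ∃ k < 8, ux k = e := by
  have h' := List.all_eq_true.1 ux_check.2 e (List.mem_range.2 he)
  simp only [Bool.or_eq_true, Bool.not_eq_true', List.any_eq_true, List.mem_range, beq_iff_eq] at h'
  refine h'.resolve_left fun hf => ?_
  rw [← Bool.not_eq_true, List.all_eq_true] at hf
  exact hf fun i hi => beq_iff_eq.2 (h i (List.mem_range.1 hi))

theorem ux_zero : ux 0 = 0 := rfl

theorem invI_pow {i : ℕ} (hi : i < 3) : invI (ux (2 ^ i)) = true :=
  (ux_spec (Nat.pow_lt_pow_right (by norm_num) hi : 2 ^ i < 8)).2.1 (Nat.two_pow_pos i).ne'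

/-- The word of coordinates. -/
def uw (k : ℕ) : List ℕ :=
  (if k.testBit 0 then uWord 1 else []) ++ (if k.testBit 1 then uWord 2 else []) ++
    (if k.testBit 2 then uWord 4 else [])

theorem wordπ_uw {j k : ℕ} (hj : j < 8) (hk : k < 8) : wordπ (uw j) * wordπ (uw k) = wordπ (uw (j ^^^ k)) := by
  rw [← wordπ_append]
  exact (wordπ_congr (beq_iff_eq.1 (List.all_eq_true.1 (List.all_eq_true.1 perm_check.2.2.2.2.2.2 j
    (List.mem_range.2 hj)) k (List.mem_range.2 hk)))).symm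

/-- The eight permutations are their own centraliser in the group on 22 points. -/
theorem uw_centralizer {d : Equiv.Perm GolayPt} (hd : d ∈ Cfsg.Spor.M22)
    (hc : ∀ k < 8, d * wordπ (uw k) = wordπ (uw k) * d) : ∃ k < 8, d = wordπ (uw k) := by
  obtain ⟨-, -, h3, h4, h5, h6, -⟩ := perm_check
  have p0 : pt 0 = (some 0 : GolayPt) := rfl
  have p23 : pt 23 = (none : GolayPt) := rfl
  have hwm : ∀ k, wordπ (uw k) ∈ Cfsg.Spor.M22 := fun k => by
    refine list_prod_mem fun a ha => ?_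
    obtain ⟨j, hj, rfl⟩ := List.mem_map.1 ha
    refine pk_mem ?_
    simp only [uw, List.mem_append] at hj
    rcases hj with (hj | hj) | hj <;> split_ifs at hj <;> simp [uWord] at hj <;> omega
  have hu : ∀ k i, i < 24 → wordπ (uw k) (pt i) = pt (Golay.get (uPerm k) i) := fun k i hi => by
    rw [wordπ_eq, permOf_apply (wordP_valid _), Golay.app, idx_pt hi]; rfl
  have hidx : ∀ k i, i < 24 → Golay.get (uPerm k) i < 24 := fun k i hi =>
    (valid_iff.1 (wordP_valid _)).2 i hi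
  have hreg : ∀ p ∈ regPts, p < 24 := by decide
  have h8 : (8 : ℕ) ∈ regPts := by decide
  set q := idx (d (pt 8)) with hq
  have hq24 : q < 24 := idx_lt _
  have hqr : q ∈ regPts := by
    have h := List.all_eq_true.1 h3 q (List.mem_range.2 hq24)
    simp only [Bool.or_eq_true, List.contains_iff_mem, List.any_eq_true, List.mem_range, Bool.and_eq_true,
      bne_iff_ne, beq_iff_eq] at h
    refine h.resolve_right fun ⟨k, hk, hk0, hfix⟩ => ?_
    have e : d (wordπ (uw k) (pt 8)) = d (pt 8) := by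
      rw [← Equiv.Perm.mul_apply, hc k hk, Equiv.Perm.mul_apply, ← pt_idx (d (pt 8)), ← hq, hu k q hq24, hfix]
    have e' := congrArg idx (d.injective e)
    rw [hu k 8 (by norm_num), idx_pt (hidx k 8 (by norm_num)), idx_pt (by norm_num)] at e'
    have := List.all_eq_true.1 (List.all_eq_true.1 h4 8 h8) k (List.mem_range.2 hk)
    simp [hk0, e'] at this
  have h5' : ∀ p ∈ regPts, ∃ k < 8, Golay.get (uPerm k) 8 = p := fun p hp => by
    simpa using List.all_eq_true.1 h5 p hp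
  obtain ⟨k, hk, hkq⟩ := h5' q hqr
  have e8 : d (pt 8) = wordπ (uw k) (pt 8) := by
    rw [hu k 8 (by norm_num), hkq, hq, pt_idx]
  refine ⟨k, hk, ?_⟩
  have he : (wordπ (uw k))⁻¹ * d ∈ Golay.Fix [] (0 :: 23 :: regPts) := by
    refine mem_Fix.2 ⟨mul_mem (inv_mem (hwm k).1.1) hd.1.1, by simp, fun b hb => ?_⟩
    rw [Equiv.Perm.mul_apply, Equiv.Perm.inv_eq_iff_eq]
    simp only [List.mem_cons] at hb
    have hfix0 : ∀ g ∈ Cfsg.Spor.M22, g (pt 0) = pt 0 ∧ g (pt 23) = pt 23 := fun g hg => by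
      rw [p0, p23]; exact ⟨hg.2, hg.1.2⟩
    rcases hb with rfl | rfl | hb
    · rw [(hfix0 _ hd).1, (hfix0 _ (hwm k)).1]
    · rw [(hfix0 _ hd).2, (hfix0 _ (hwm k)).2]
    · obtain ⟨j, hj, rfl⟩ := h5' b hb
      rw [← hu j 8 (by norm_num), ← Equiv.Perm.mul_apply, hc j hj, Equiv.Perm.mul_apply, e8,
        ← Equiv.Perm.mul_apply, wordπ_uw hj hk, Nat.xor_comm, ← wordπ_uw hk hj, Equiv.Perm.mul_apply]
  rw [Fix_eq_bot h6, Subgroup.mem_bot] at he
  exact (inv_mul_eq_one.1 he).symm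

end Penta

namespace Pen

variable {G : Type*} [Group G] {z : G} {P : Subgroup G} {S : Setting z P} (B : Pen S)

/-- The lifts of a basis. -/
def ub (i : ℕ) : G := if i < 3 then B.ι (Penta.ux (2 ^ i)) else 1

/-- The lift with given coordinates. -/
def bU (k : ℕ) : G := bp B.ub k

/-- The preimage with given coordinates. -/
noncomputable def lW (n : ℕ) : G := B.F.toCoord.lh (Penta.wc n)

/-- The element with given coordinates. -/
noncomputable def Pv (v : ℕ) : G := zp z (v.testBit 0) * B.lW (v / 2 % 64) * B.bU (v / 128)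

variable [Finite G]
open Penta

theorem ι_comm {e f : ℕ} (he : invI e = true) (hf : invI f = true) (h : bm e f = bm f e)
    (hef : invI (bm e f) = true) : B.ι e * B.ι f = B.ι f * B.ι e := by
  have e256 : ∀ {e}, invI e = true → e < 256 := fun h => by
    simp only [invI, Bool.and_eq_true, decide_eq_true_eq] at h; exact h.1.1.1
  obtain ⟨hm, hr, hs, -, -⟩ := B.ι_spec e he
  obtain ⟨hm', hr', hs', -, -⟩ := B.ι_spec f hf
  obtain ⟨hm2, hr2, hs2, -, -⟩ := B.ι_spec _ hef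
  have hp := B.F.toCoord.rep_mul hr hr'
  rw [tbEl_mul (e256 he) (e256 hf)] at hp
  have h2 : B.ι e * B.ι f * (B.ι e * B.ι f) = 1 := by
    rcases B.F.toCoord.CP_rep_eq hm2 (mul_mem hm hm') hr2 hp with x | x <;> rw [x]
    · exact hs2
    · rw [show B.ι (bm e f) * z * (B.ι (bm e f) * z) = B.ι (bm e f) * (z * B.ι (bm e f)) * z by group,
        ← S.commz hm2, show B.ι (bm e f) * (B.ι (bm e f) * z) * z = B.ι (bm e f) * B.ι (bm e f) * (z * z) by group,
        hs2, S.zz, one_mul]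
  calc B.ι e * B.ι f = (B.ι e * B.ι f)⁻¹ := eq_inv_of_mul_eq_one_left h2
    _ = (B.ι f)⁻¹ * (B.ι e)⁻¹ := mul_inv_rev _ _
    _ = _ := by rw [inv_eq_of_mul_eq_one_right hs, inv_eq_of_mul_eq_one_right hs']

theorem ub_sq : ∀ i < 4, B.ub i * B.ub i = 1 := fun i _ => by
  unfold ub; split_ifs with h
  · exact (B.ι_spec _ (invI_pow h)).sq
  · exact one_mul 1

theorem ub_comm : ∀ i < 4, ∀ j < 4, B.ub i * B.ub j = B.ub j * B.ub i := fun i _ j _ => by
  unfold ub; split_ifs with h h'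
  · by_cases hij : i = j
    · rw [hij]
    have hi8 : (2 : ℕ) ^ i < 8 := Nat.pow_lt_pow_right (by norm_num) h
    have hj8 : (2 : ℕ) ^ j < 8 := Nat.pow_lt_pow_right (by norm_num) h'
    refine B.ι_comm (invI_pow h) (invI_pow h') ?_ ?_
    · rw [((ux_spec hi8).2.2 _ hj8).1, ((ux_spec hj8).2.2 _ hi8).1, Nat.xor_comm]
    · rw [((ux_spec hi8).2.2 _ hj8).1]
      refine (ux_spec (Nat.xor_lt_two_pow (n := 3) hi8 hj8)).2.1 ?_
      interval_cases i <;> interval_cases j <;> simp_all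
  all_goals simp

theorem bU_mul (j k : ℕ) : B.bU j * B.bU k = B.bU (j ^^^ k) := bp_mul B.ub_sq B.ub_comm j k

theorem bU_zero : B.bU 0 = 1 := by simp [bU, bp]

theorem bU_pow {i : ℕ} (hi : i < 3) : B.bU (2 ^ i) = B.ι (ux (2 ^ i)) := by
  interval_cases i <;> simp [bU, bp, ub, Nat.testBit]

theorem bU_spec : ∀ {k : ℕ}, k < 8 → B.bU k ∈ CP z P ∧ B.F.toCoord.Rep (B.bU k) (tbEl (ux k)) ∧
    S.ψ (B.bU k) = wordπ (uw k) := by
  suffices h : ∀ k < 2 ^ 3, k < 8 → B.bU k ∈ CP z P ∧ B.F.toCoord.Rep (B.bU k) (tbEl (ux k)) ∧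
      S.ψ (B.bU k) = wordπ (uw k) from fun {k} hk => h k hk hk
  refine xor_induction (p := fun k => k < 8 → B.bU k ∈ CP z P ∧ B.F.toCoord.Rep (B.bU k) (tbEl (ux k)) ∧
    S.ψ (B.bU k) = wordπ (uw k)) ?_ 3 fun i hi m hm ih _ => ?_
  · intro _
    rw [B.bU_zero, ux_zero, tbEl_check.2]
    exact ⟨one_mem _, B.F.toCoord.rep_one, by rw [S.ψ_one, show uw 0 = [] from rfl, wordπ_nil]⟩
  have hp : (2 : ℕ) ^ i < 8 := Nat.pow_lt_pow_right (by norm_num) hi
  have hm' : m < 8 := hm.trans hp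
  obtain ⟨m1, m2, m3⟩ := ih hm'
  obtain ⟨hiota, hr, -, -, -⟩ := B.ι_spec _ (invI_pow hi)
  have hψ : S.ψ (B.ι (ux (2 ^ i))) = wordπ (uw (2 ^ i)) := by
    have hw := List.all_eq_true.1 perm_check.1 (2 ^ i) (by interval_cases i <;> simp)
    simp only [Bool.and_eq_true, List.all_eq_true, decide_eq_true_eq] at hw
    obtain ⟨l1, l2, l3⟩ := B.F.lw_spec hw.1
    obtain ⟨g', g1, g2, g3⟩ := B.F.toCoord.adjust_mem l1 l3 (tbEl_ok (ux_spec hp).1) hw.2
    have e : uw (2 ^ i) = uWord (2 ^ i) := by interval_cases i <;> rfl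
    rw [e, ← l2, ← g2]
    refine S.ψ_eq_of_act hiota g1 (LinearMap.ext fun v => ?_)
    obtain ⟨n, hn, rfl⟩ := B.F.surj v
    rw [hr.eq n hn, g3.eq n hn]
  rw [← B.bU_mul, B.bU_pow hi]
  refine ⟨mul_mem hiota m1, ?_, ?_⟩
  · rw [← ((ux_spec hp).2.2 m hm').1, ← tbEl_mul (ux_spec hp).1 (ux_spec hm').1]
    exact B.F.toCoord.rep_mul hr m2
  · rw [S.ψ_mul _ hiota _ m1, hψ, m3, wordπ_uw hp hm']

theorem bU_inj {j k : ℕ} (hj : j < 8) (hk : k < 8) (h : (B.bU j)⁻¹ * B.bU k ∈ twoCoreOfCentralizer z) : j = k :=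
  ((ux_spec hk).2.2 j hj).2 (B.F.img_eq_of_mem (ux_spec hj).1 (ux_spec hk).1 (B.bU_spec hj).2.1 (B.bU_spec hk).2.1 h)

theorem lW_spec {n : ℕ} (_hn : n < 64) : B.lW n ∈ twoCoreOfCentralizer z ∧ S.rep (B.lW n) = B.F.Φ (wc n) :=
  ⟨(B.F.toCoord.lh_spec _).1, (B.F.toCoord.lh_spec _).2.1⟩

theorem lW_mul {m n : ℕ} (hm : m < 64) (hn : n < 64) : B.lW m * B.lW n = B.lW (m ^^^ n) := by
  rw [lW, lW, lW, wc_xor]
  exact B.F.toCoord.lh_mul_flat (wc_spec hm).1 (wc_spec hn).1 (flat_wc hm hn)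

theorem lW_zero : B.lW 0 = 1 := B.F.toCoord.lh_zero

theorem bU_lW {k n : ℕ} (hk : k < 8) (hn : n < 64) : B.bU k * B.lW n = B.lW n * B.bU k := by
  have h := B.F.toCoord.lh_conj (B.bU_spec hk).1 (B.bU_spec hk).2.1 (wc_spec hn).1
  rwa [(wc_spec hn).2.2.2.2.1 k hk, mul_inv_eq_iff_eq_mul] at h

theorem Pv_mul {u v : ℕ} (hu : u < 1024) (hv : v < 1024) : B.Pv u * B.Pv v = B.Pv (u ^^^ v) := by
  have hl : ∀ x, x / 2 % 64 < 64 := fun x => Nat.mod_lt _ (by norm_num)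
  rw [Pv, Pv, Pv, split11.1, split11.2, ← B.lW_mul (hl u) (hl v), ← B.bU_mul, Nat.testBit_xor, ← S.zp_mul]
  generalize zp z (u.testBit 0) = a, hu' : u / 2 % 64 = i, hv' : v / 2 % 64 = j
  have hb := (B.bU_spec (k := u / 128) (by omega)).1
  have hj : j < 64 := hv' ▸ hl v
  have hlz : B.lW i * zp z (v.testBit 0) = zp z (v.testBit 0) * B.lW i :=
    S.zp_comm (S.ext.central _ (B.lW_spec (hu' ▸ hl u)).1) _
  calc a * B.lW i * B.bU (u / 128) * (zp z (v.testBit 0) * B.lW j * B.bU (v / 128))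
      = a * B.lW i * (B.bU (u / 128) * zp z (v.testBit 0)) * B.lW j * B.bU (v / 128) := by group
    _ = a * (B.lW i * zp z (v.testBit 0)) * (B.bU (u / 128) * B.lW j) * B.bU (v / 128) := by
        rw [S.zp_comm (S.commz hb)]; group
    _ = _ := by rw [hlz, B.bU_lW (show u / 128 < 8 by omega) hj]; group

theorem Pv_zero : B.Pv 0 = 1 := by simp [Pv, zp, B.lW_zero, B.bU_zero]

theorem Pv_low {n : ℕ} (hn : n < 64) : B.Pv (2 * n) = B.lW n := by
  rw [Pv, show 2 * n / 128 = 0 by omega, show 2 * n / 2 % 64 = n by omega, B.bU_zero]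
  simp [zp, Nat.testBit_zero]

theorem Pv_high {k : ℕ} (hk : k < 8) : B.Pv (128 * k) = B.bU k := by
  rw [Pv, show 128 * k / 128 = k by omega, show 128 * k / 2 % 64 = 0 by omega, B.lW_zero]
  simp [zp, Nat.testBit_zero, show 128 * k % 2 = 0 by omega]

theorem Pv_bn (e : Bool) : B.Pv (bn e) = zp z e := by
  cases e <;> simp [Pv, bn, zp, B.lW_zero, B.bU_zero]

theorem Pv_one : B.Pv 1 = z := B.Pv_bn true

theorem Pv_inj {u v : ℕ} (hu : u < 1024) (hv : v < 1024) (h : B.Pv u = B.Pv v) : u = v := by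
  suffices h0 : ∀ w < 1024, B.Pv w = 1 → w = 0 by
    have e := h0 _ (Nat.xor_lt_two_pow (n := 10) hu hv) (by
      rw [← B.Pv_mul hu hv, h, B.Pv_mul hv hv, Nat.xor_self, B.Pv_zero])
    have e' := congrArg (u ^^^ ·) e
    simpa [← Nat.xor_assoc] using e'.symm
  intro w hw e
  have hk : w / 128 < 8 := by omega
  have hn : w / 2 % 64 < 64 := Nat.mod_lt _ (by norm_num)
  obtain ⟨hlE, hlr⟩ := B.lW_spec hn
  have hzl : zp z (w.testBit 0) * B.lW (w / 2 % 64) ∈ twoCoreOfCentralizer z := mul_mem (S.zp_mem_E _) hlE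
  rw [Pv] at e
  have hbE : B.bU (w / 128) ∈ twoCoreOfCentralizer z := by
    rw [eq_inv_of_mul_eq_one_right e]; exact inv_mem hzl
  have hk0 : w / 128 = 0 := B.bU_inj hk (by norm_num) (by rw [B.bU_zero, mul_one]; exact inv_mem hbE)
  rw [hk0, B.bU_zero, mul_one] at e
  have hrep := S.rep_mul _ (S.zp_mem_E (w.testBit 0)) _ hlE
  rw [e, S.rep_one, (S.rep_zero _ (S.zp_mem_E _)).2 (by cases w.testBit 0 <;> simp [zp]), zero_add, hlr,
    ← B.F.toCoord.zero'] at hrep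
  have h1 := B.F.toCoord.inj 0 (by norm_num) _ (wc_spec hn).1 hrep
  have hn0 : w / 2 % 64 = 0 := by
    rw [← (wc_spec hn).2.1, ← h1]; rfl
  rw [hn0, B.lW_zero, mul_one] at e
  have h0 : w.testBit 0 = false := by
    cases hb : w.testBit 0
    · rfl
    · rw [hb] at e; exact absurd e S.ext.ne
  simp only [Nat.testBit_zero, decide_eq_false_iff_not] at h0
  omega

/-- The elementary abelian group of order 2¹⁰. -/
def A0 : Subgroup G where
  carrier := {g | ∃ v < 1024, B.Pv v = g}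
  one_mem' := ⟨0, by norm_num, B.Pv_zero⟩
  mul_mem' := by
    rintro _ _ ⟨u, hu, rfl⟩ ⟨v, hv, rfl⟩
    exact ⟨u ^^^ v, Nat.xor_lt_two_pow (n := 10) hu hv, (B.Pv_mul hu hv).symm⟩
  inv_mem' := by
    rintro _ ⟨u, hu, rfl⟩
    exact ⟨u, hu, eq_inv_of_mul_eq_one_left (by rw [B.Pv_mul hu hu, Nat.xor_self, B.Pv_zero])⟩

theorem Pv_mem {v : ℕ} (hv : v < 1024) : B.Pv v ∈ B.A0 := ⟨v, hv, rfl⟩

theorem z_mem_A0 : z ∈ B.A0 := ⟨1, by norm_num, B.Pv_one⟩

theorem lW_mem {n : ℕ} (hn : n < 64) : B.lW n ∈ B.A0 := ⟨2 * n, by omega, B.Pv_low hn⟩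

theorem bU_mem {k : ℕ} (hk : k < 8) : B.bU k ∈ B.A0 := ⟨128 * k, by omega, B.Pv_high hk⟩

theorem card_A0 : Nat.card ↥B.A0 = 2 ^ 10 := by
  rw [← Nat.card_fin (2 ^ 10)]
  refine (Nat.card_eq_of_bijective (fun v : Fin (2 ^ 10) => (⟨B.Pv v, B.Pv_mem v.2⟩ : ↥B.A0)) ⟨?_, ?_⟩).symm
  · exact fun u v e => Fin.ext (B.Pv_inj u.2 v.2 (congrArg Subtype.val e))
  · rintro ⟨_, v, hv, rfl⟩
    exact ⟨⟨v, hv⟩, rfl⟩

theorem A0_comm : ∀ a ∈ B.A0, ∀ b ∈ B.A0, a * b = b * a := by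
  rintro _ ⟨u, hu, rfl⟩ _ ⟨v, hv, rfl⟩
  rw [B.Pv_mul hu hv, B.Pv_mul hv hu, Nat.xor_comm]

theorem A0_sq : ∀ a ∈ B.A0, a * a = 1 := by
  rintro _ ⟨u, hu, rfl⟩
  rw [B.Pv_mul hu hu, Nat.xor_self, B.Pv_zero]

/-- Preimages of the singular space. -/
theorem core_mem_A0 {m : G} (hm : m ∈ twoCoreOfCentralizer z) {v : ℕ} (hv : inW v = true)
    (e : S.rep m = B.F.Φ v) : m ∈ B.A0 := by
  rw [← inW_iff.1 hv] at e
  rcases B.F.toCoord.lh_cases hm e with rfl | rfl
  · exact B.lW_mem (cw_lt v)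
  · exact mul_mem (B.lW_mem (cw_lt v)) B.z_mem_A0

/-- An element of the core commuting with the singular space is in the group. -/
theorem core_centralizing {m : G} (hm : m ∈ twoCoreOfCentralizer z) (h : ∀ i < 6, m * B.lW (2 ^ i) = B.lW (2 ^ i) * m) :
    m ∈ B.A0 := by
  obtain ⟨v, hv, erep⟩ := B.F.surj (S.rep m)
  refine B.core_mem_A0 hm (inW_of_perp hv fun i hi => ?_) erep.symm
  have hp : (2 : ℕ) ^ i < 64 := Nat.pow_lt_pow_right (by norm_num) hi
  obtain ⟨l1, l2⟩ := B.lW_spec hp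
  have := B.F.toCoord.core_comm hm l1 hv (wc_spec hp).1 erep.symm l2
  rw [h i hi] at this
  cases hb : bv v (wc (2 ^ i))
  · rfl
  · rw [hb] at this; exact absurd (left_eq_mul.1 this) S.ext.ne

/-- Elements above the eight matrices commuting with the singular space. -/
theorem mem_A0_of_rep {g : G} {k : ℕ} (hk : k < 8) (hr : B.F.toCoord.Rep g (tbEl (ux k)))
    (h : ∀ i < 6, g * B.lW (2 ^ i) = B.lW (2 ^ i) * g) : g ∈ B.A0 := by
  obtain ⟨hb, hbr, -⟩ := B.bU_spec hk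
  have hm : (B.bU k)⁻¹ * g ∈ B.A0 := B.core_centralizing (B.F.toCoord.eq_of_rep hbr hr) fun i hi => by
    have hp : (2 : ℕ) ^ i < 64 := Nat.pow_lt_pow_right (by norm_num) hi
    exact (((show Commute (B.bU k) (B.lW (2 ^ i)) from B.bU_lW hk hp).inv_left).mul_left (h i hi)).eq
  rw [show g = B.bU k * ((B.bU k)⁻¹ * g) by rw [mul_inv_cancel_left]]
  exact mul_mem (B.bU_mem hk) hm

theorem A0_elem : IsElementaryAbelian 2 B.A0 :=
  ⟨⟨⟨fun a b => Subtype.ext (B.A0_comm _ a.2 _ b.2)⟩⟩, fun a ha => by rw [pow_two]; exact B.A0_sq a ha⟩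

/-- An element commuting with the singular space fixes it. -/
theorem act_fix {g : G} (hgz : g * z = z * g) (h : ∀ n < 64, g * B.lW n = B.lW n * g) {n : ℕ} (hn : n < 64) :
    S.act g (B.F.Φ (wc n)) = B.F.Φ (wc n) := by
  obtain ⟨h1, h2⟩ := B.lW_spec hn
  rw [← h2, S.act_rep g hgz _ h1, h n hn, mul_inv_cancel_right]

theorem p_act_ne {n : ℕ} (hn : n < 64) (h0 : n ≠ 0) : S.act S.p (B.F.Φ (wc n)) ≠ B.F.Φ (wc n) := fun h => by
  have h0' := S.p_fpf h
  rw [← B.F.toCoord.zero'] at h0'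
  refine h0 ?_
  rw [← (wc_spec hn).2.1, B.F.toCoord.inj _ (wc_spec hn).1 0 (by norm_num) h0']
  rfl

theorem p_invariant {n : ℕ} (hn : n < 64) : ∃ m < 64, S.act S.p (B.F.Φ (wc n)) = B.F.Φ (wc m) := by
  obtain ⟨M, hM, hM'⟩ : ∃ M ∈ [mI, mT, mT2], B.F.toCoord.Rep S.p M := by
    rcases B.toFrame.p_rep_cases with h | h
    exacts [⟨_, by simp, h⟩, ⟨_, by simp, h⟩]
  exact ⟨_, cw_lt (app M (wc n)), by rw [inW_iff.1 ((wc_spec hn).2.2.2.1 M hM), hM'.eq _ (wc_spec hn).1]⟩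

/-- Nothing outer fixes the singular space. -/
theorem inner_of_fix {g : G} (hgz : g * z = z * g) (hg : ∀ n < 64, S.act g (B.F.Φ (wc n)) = B.F.Φ (wc n)) :
    g ∈ innerH z P := by
  refine (S.inner_cases hgz).resolve_right fun hout => ?_
  have hoz := S.oz
  have hiz : g * S.o⁻¹ * z = z * (g * S.o⁻¹) :=
    ((show Commute g z from hgz).mul_left (show Commute S.o z from hoz).inv_left).eq
  have e1 : S.act g * S.act S.p = S.act S.p * S.act S.p * S.act g := by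
    have h1 := S.act_inner hout
    have e : S.o * S.p = S.p * S.p * S.o := by rw [← S.op, inv_mul_cancel_right]
    have hopp : S.act S.o * S.act S.p = S.act S.p * S.act S.p * S.act S.o := by
      rw [← S.act_mul _ _ hoz S.pz, e, S.act_mul _ _ S.pp_z hoz, S.act_mul _ _ S.pz S.pz]
    rw [show S.act g = S.act (g * S.o⁻¹) * S.act S.o by rw [← S.act_mul _ _ hiz hoz, inv_mul_cancel_right],
      mul_assoc, hopp]
    simp only [← mul_assoc]
    rw [h1, mul_assoc (S.act S.p), h1, ← mul_assoc]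
  obtain ⟨k, hk, ek⟩ := B.p_invariant (n := 1) (by norm_num)
  have h := LinearMap.congr_fun e1 (B.F.Φ (wc 1))
  simp only [Module.End.mul_apply] at h
  rw [hg 1 (by norm_num), ek, hg k hk] at h
  have h0 := S.p_fpf h.symm
  rw [← ek] at h0
  have h1 := LinearMap.congr_fun S.act_p_pow (B.F.Φ (wc 1))
  simp only [Module.End.mul_apply, Module.End.one_apply, h0, map_zero] at h1
  exact B.p_act_ne (n := 1) (by norm_num) one_ne_zero (h0.trans h1)

/-- It is its own centraliser. -/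
theorem centralizer_A0 : Subgroup.centralizer (B.A0 : Set G) = B.A0 := by
  refine le_antisymm (fun g hgC => ?_) fun a ha => Subgroup.mem_centralizer_iff.2 fun b hb => B.A0_comm b hb a ha
  have hcomm : ∀ a ∈ B.A0, g * a = a * g := fun a ha => (Subgroup.mem_centralizer_iff.1 hgC a ha).symm
  have hgz := hcomm z B.z_mem_A0
  have hfix : ∀ n < 64, S.act g (B.F.Φ (wc n)) = B.F.Φ (wc n) := fun n hn =>
    B.act_fix hgz (fun m hm => hcomm _ (B.lW_mem hm)) hn
  obtain ⟨c, hc, m, hm, rfl⟩ := S.mem_inner.1 (B.inner_of_fix hgz hfix)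
  have hcz := S.commz hc
  have hmz := S.ext.central m hm
  have hact : S.act (c * m) = S.act c := by rw [S.act_mul _ _ hcz hmz, S.act_eq_one hmz hm, mul_one]
  rw [hact] at hfix
  have hψ : ∀ k < 8, S.ψ c * wordπ (uw k) = wordπ (uw k) * S.ψ c := fun k hk => by
    obtain ⟨hb, -, hbψ⟩ := B.bU_spec hk
    have hbz := S.commz hb
    have e : S.act c * S.act (B.bU k) = S.act (B.bU k) * S.act c := by
      have h1 := congrArg S.act (hcomm _ (B.bU_mem hk))
      rwa [S.act_mul _ _ hgz hbz, S.act_mul _ _ hbz hgz, hact] at h1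
    have h2 := S.ψ_eq_of_act (mul_mem hc hb) (mul_mem hb hc) (by
      rw [S.act_mul _ _ hcz hbz, S.act_mul _ _ hbz hcz, e])
    rwa [S.ψ_mul _ hc _ hb, S.ψ_mul _ hb _ hc, hbψ] at h2
  obtain ⟨k, hk, ek⟩ := uw_centralizer (S.ψ_mem c hc) hψ
  obtain ⟨hb, hbr, hbψ⟩ := B.bU_spec hk
  have hd : c * (B.bU k)⁻¹ ∈ CP z P := mul_mem hc (inv_mem hb)
  have hdψ : S.ψ (c * (B.bU k)⁻¹) = 1 := by
    rw [S.ψ_mul _ hc _ (inv_mem hb), S.ψ_inv hb, ek, hbψ, mul_inv_cancel]
  have hdfix : ∀ n < 64, S.act (c * (B.bU k)⁻¹) (B.F.Φ (wc n)) = B.F.Φ (wc n) := fun n hn => by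
    have hbi : S.act (B.bU k)⁻¹ (B.F.Φ (wc n)) = B.F.Φ (wc n) := B.act_fix (S.commz (inv_mem hb)) (fun m hm =>
      B.A0_comm _ (inv_mem (B.bU_mem hk)) _ (B.lW_mem hm)) hn
    rw [S.act_mul _ _ hcz (S.commz (inv_mem hb)), Module.End.mul_apply, hbi, hfix n hn]
  have hone : S.act (c * (B.bU k)⁻¹) = 1 := by
    rcases S.act_scalar hd hdψ with e | e | e
    · exact e
    all_goals exfalso; refine B.p_act_ne (n := 1) (by norm_num) one_ne_zero ?_
              have h := hdfix 1 (by norm_num); rw [e] at h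
    · exact h
    · have h' := congrArg (S.act S.p) h
      have h3 := LinearMap.congr_fun S.act_p_pow (B.F.Φ (wc 1))
      simp only [Module.End.mul_apply, Module.End.one_apply] at h' h3
      exact h'.symm.trans h3
  have hcA : c ∈ B.A0 := by
    rcases S.act_ker_CP hd hone with e | e
    · rw [mul_inv_eq_one.1 e]; exact B.bU_mem hk
    · rw [mul_inv_eq_iff_eq_mul.1 e]; exact mul_mem B.z_mem_A0 (B.bU_mem hk)
  refine mul_mem hcA (B.core_centralizing hm fun i hi => ?_)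
  have hl : B.lW (2 ^ i) ∈ B.A0 := B.lW_mem (Nat.pow_lt_pow_right (by norm_num) hi)
  have := (show Commute c (B.lW (2 ^ i)) from B.A0_comm c hcA _ hl).inv_left.mul_left (hcomm _ hl)
  rwa [inv_mul_cancel_left] at this

end Pen

end Cfsg.Agent.Spor.JFour
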