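import Cfsg.Agent.Lib.Spor.JFourType.Penta.Defs
import Cfsg.Agent.Lib.Spor.JFourType.OrbitExcl
import Cfsg.Agent.Lib.Spor.JFourType.Mathieu.Sylow

/-!
Every inner involution of the Sylow group of matrices has exactly one lift conjugate to the central involution; the
action of the elements normalising the three-group on these lifts and on the canonical preimages.
-/

set_option autoImplicit false
set_option maxRecDepth 100000
set_option linter.style.haveILetI false

open Cfsg Cfsg.Agent.Spor.Golay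
open Cfsg.Agent.Spor.Cos.J4Sub (app mm app_mm app_xor)

namespace Cfsg.Agent.Spor.JFour

variable {G : Type*} [Group G] {z : G} {P : Subgroup G}

namespace Setting

variable (S : Setting z P)

/-- An element of the centraliser normalising the three-group. -/
def NC (g : G) : Prop := g * z = z * g ∧ (g * S.p * g⁻¹ = S.p ∨ g * S.p * g⁻¹ = S.p * S.p)

include S

theorem nc_CP {g : G} (h : g ∈ CP z P) : S.NC g :=
  ⟨S.commz h, Or.inl (by rw [(S.mem_iff.1 h).2, mul_inv_cancel_right])⟩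

theorem p_four : S.p * S.p * (S.p * S.p) = S.p := by
  rw [show S.p * S.p * (S.p * S.p) = S.p * S.p * S.p * S.p by group, S.p_pow, one_mul]

theorem nc_mul {g h : G} (hg : S.NC g) (hh : S.NC h) : S.NC (g * h) := by
  refine ⟨((show Commute g z from hg.1).mul_left (show Commute h z from hh.1)).eq, ?_⟩
  rw [show g * h * S.p * (g * h)⁻¹ = g * (h * S.p * h⁻¹) * g⁻¹ by group]
  have e : g * (S.p * S.p) * g⁻¹ = (g * S.p * g⁻¹) * (g * S.p * g⁻¹) := by group
  rcases hh.2 with h1 | h1 <;> rw [h1]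
  · exact hg.2
  · rw [e]
    rcases hg.2 with h2 | h2 <;> rw [h2]
    · exact Or.inr rfl
    · exact Or.inl S.p_four

theorem nc_inv {g : G} (hg : S.NC g) : S.NC g⁻¹ := by
  refine ⟨conj_inv_comm hg.1, ?_⟩
  rcases hg.2 with h | h
  · exact Or.inl (by conv_lhs => rw [← h]
                     group)
  · refine Or.inr ?_
    have h1 : g * (S.p * S.p) * g⁻¹ = S.p := by
      rw [show g * (S.p * S.p) * g⁻¹ = (g * S.p * g⁻¹) * (g * S.p * g⁻¹) by group, h, S.p_four]
    conv_lhs => rw [← h1]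
    group

theorem nc_mem {g c : G} (hg : S.NC g) (hc : c ∈ CP z P) : g * c * g⁻¹ ∈ CP z P := by
  obtain ⟨h1, h2⟩ := S.mem_iff.1 hc
  refine S.mem_iff.2 ⟨(((show Commute g z from hg.1).mul_left (show Commute c z from h1)).mul_left
    (show Commute g z from hg.1).inv_left).eq, ?_⟩
  have hc2 : Commute c S.p := h2
  have key : ∀ u, Commute c u → Commute (g * c * g⁻¹) (g * u * g⁻¹) := fun u hu => hu.map (MulAut.conj g).toMonoidHom
  rcases hg.2 with h | h
  · have := key _ hc2; rw [h] at this; exact this.eq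
  · have := key _ (hc2.mul_right hc2)
    rw [show g * (S.p * S.p) * g⁻¹ = (g * S.p * g⁻¹) * (g * S.p * g⁻¹) by group, h, S.p_four] at this
    exact this.eq

variable [Finite G]

/-- Elements of the centraliser of the three-group in the core. -/
theorem CP_core {c : G} (hc : c ∈ CP z P) (hE : c ∈ twoCoreOfCentralizer z) : c = 1 ∨ c = z :=
  S.fix c hE (S.mem_iff.1 hc).2.symm

end Setting

namespace Coord

variable {S : Setting z P} (C : Coord S) [Finite G]

/-- The translates of a vector under the scalar are orthogonal to those of another. -/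
def Flat (m k : ℕ) : Prop :=
  ∀ M ∈ [mI, mT, mT2], ∀ N ∈ [mI, mT, mT2], bv (app M m) (app N k) = false

theorem lh_mul_flat {m k : ℕ} (hm : m < 4096) (hk : k < 4096) (h : Flat m k) :
    C.lh m * C.lh k = C.lh (m ^^^ k) := by
  obtain ⟨a1, a2, a3⟩ := C.lh_spec m
  obtain ⟨b1, b2, b3⟩ := C.lh_spec k
  obtain ⟨M, hM⟩ := C.exists_rep S.pz
  have hM' : M ∈ [mI, mT, mT2] := by
    obtain ⟨i, hi, rfl⟩ := C.scalar_rep S.p_mem S.ψ_p hM
    interval_cases i <;> simp [mTp, mT2]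
  refine C.lh_unique (mul_mem a1 b1) (by rw [S.rep_mul _ a1 _ b1, a2, b2, C.add]) ?_
  rw [C.orb_mul_gen a1 b1 hm hk a2 b2 hM, a3, b3, one_mul, one_mul]
  have hI : app mI m = m := app_mI hm
  have hI' : app mI k = k := app_mI hk
  have hc : ∀ a b, bv a b = bv b a := bv_comm
  have q : ∀ N ∈ [mI, mT, mT2], ∀ N' ∈ [mI, mT, mT2], bv (app N' k) (app N m) = false := fun N hN N' hN' => by
    rw [hc]; exact h N hN N' hN'
  have hMM : mm M M ∈ [mI, mT, mT2] := by
    have ok : ∀ N ∈ [mI, mT, mT2], mm N N ∈ [mI, mT, mT2] := by decide +kernel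
    exact ok M hM'
  have q1 := q M hM' mI (by simp)
  have q2 := q _ hMM M hM'
  have q3 := q _ hMM mI (by simp)
  rw [hI'] at q1 q3
  rw [app_mm] at q2 q3
  rw [q1, q2, q3]
  rfl

/-- Equivariance of the canonical preimages of isotropic vectors. -/
theorem lh_conj_nc {g : G} {M : List ℕ} (hg : S.NC g) (hM : C.Rep g M) {n : ℕ} (hn : n < 4096) (h : Flat n n) :
    g * C.lh n * g⁻¹ = C.lh (app M n) := by
  obtain ⟨h1, h2, h3⟩ := C.lh_spec n
  refine C.lh_unique (S.ext.norm g hM.hz _ h1) (by rw [← S.act_rep g hM.hz _ h1, h2, hM.eq n hn]) ?_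
  obtain ⟨Mp, hMp⟩ := C.exists_rep S.pz
  have hMp' : Mp ∈ [mI, mT, mT2] := by
    obtain ⟨i, hi, rfl⟩ := C.scalar_rep S.p_mem S.ψ_p hMp
    interval_cases i <;> simp [mTp, mT2]
  have hMM : mm Mp Mp ∈ [mI, mT, mT2] := by
    have ok : ∀ N ∈ [mI, mT, mT2], mm N N ∈ [mI, mT, mT2] := by decide +kernel
    exact ok Mp hMp'
  have hm1 := S.ext.norm _ S.pz _ h1
  have hm2 := S.ext.norm _ S.pp_z _ h1
  have r1 : S.rep (S.p * C.lh n * S.p⁻¹) = C.Φ (app Mp n) := by rw [← S.act_rep _ S.pz _ h1, h2, hMp.eq n hn]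
  have r2 : S.rep (S.p * S.p * C.lh n * (S.p * S.p)⁻¹) = C.Φ (app Mp (app Mp n)) := by
    rw [← S.act_rep _ S.pp_z _ h1, h2, S.act_mul _ _ S.pz S.pz, Module.End.mul_apply, hMp.eq n hn,
      hMp.eq _ (app_lt_of_ok hMp.ok _)]
  have hc : S.p * C.lh n * S.p⁻¹ * (S.p * S.p * C.lh n * (S.p * S.p)⁻¹) =
      S.p * S.p * C.lh n * (S.p * S.p)⁻¹ * (S.p * C.lh n * S.p⁻¹) := by
    have e := C.core_comm hm1 hm2 (app_lt_of_ok hMp.ok _) (app_lt_of_ok hMp.ok _) r1 r2
    rw [← app_mm, h Mp hMp' _ hMM] at e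
    simpa [zp] using e
  rcases hg.2 with hp | hp
  · have hpp : g * (S.p * S.p) * g⁻¹ = S.p * S.p := by
      rw [show g * (S.p * S.p) * g⁻¹ = (g * S.p * g⁻¹) * (g * S.p * g⁻¹) by group, hp]
    rw [Setting.orb] at h3 ⊢
    calc g * C.lh n * g⁻¹ * (S.p * (g * C.lh n * g⁻¹) * S.p⁻¹) * (S.p * S.p * (g * C.lh n * g⁻¹) * (S.p * S.p)⁻¹)
        = g * C.lh n * g⁻¹ * ((g * S.p * g⁻¹) * (g * C.lh n * g⁻¹) * (g * S.p * g⁻¹)⁻¹) *
            ((g * (S.p * S.p) * g⁻¹) * (g * C.lh n * g⁻¹) * (g * (S.p * S.p) * g⁻¹)⁻¹) := by rw [hp, hpp]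
      _ = g * (C.lh n * (S.p * C.lh n * S.p⁻¹) * (S.p * S.p * C.lh n * (S.p * S.p)⁻¹)) * g⁻¹ := by group
      _ = 1 := by rw [h3, mul_one, mul_inv_cancel]
  · have hpp : g * (S.p * S.p) * g⁻¹ = S.p := by
      rw [show g * (S.p * S.p) * g⁻¹ = (g * S.p * g⁻¹) * (g * S.p * g⁻¹) by group, hp, S.p_four]
    rw [Setting.orb] at h3 ⊢
    calc g * C.lh n * g⁻¹ * (S.p * (g * C.lh n * g⁻¹) * S.p⁻¹) * (S.p * S.p * (g * C.lh n * g⁻¹) * (S.p * S.p)⁻¹)
        = g * C.lh n * g⁻¹ * ((g * (S.p * S.p) * g⁻¹) * (g * C.lh n * g⁻¹) * (g * (S.p * S.p) * g⁻¹)⁻¹) *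
            ((g * S.p * g⁻¹) * (g * C.lh n * g⁻¹) * (g * S.p * g⁻¹)⁻¹) := by rw [hpp, hp]
      _ = g * (C.lh n * ((S.p * S.p * C.lh n * (S.p * S.p)⁻¹) * (S.p * C.lh n * S.p⁻¹))) * g⁻¹ := by group
      _ = g * (C.lh n * (S.p * C.lh n * S.p⁻¹) * (S.p * S.p * C.lh n * (S.p * S.p)⁻¹)) * g⁻¹ := by rw [← hc]; group
      _ = 1 := by rw [h3, mul_one, mul_inv_cancel]

/-- Elements of the centraliser of the three-group with the same matrix. -/
theorem CP_rep_eq {c d : G} {M : List ℕ} (hc : c ∈ CP z P) (hd : d ∈ CP z P) (hM : C.Rep c M) (hN : C.Rep d M) :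
    d = c ∨ d = c * z := by
  rcases S.CP_core (mul_mem (inv_mem hc) hd) (C.eq_of_rep hM hN) with e | e
  · exact Or.inl (inv_mul_eq_one.1 e).symm
  · exact Or.inr (inv_mul_eq_iff_eq_mul.1 e)

end Coord

/-- The lift conjugate to the central involution. -/
structure IsIota {S : Setting z P} (C : Coord S) (e : ℕ) (c : G) : Prop where
  mem : c ∈ CP z P
  rep : C.Rep c (tbEl e)
  sq : c * c = 1
  conj : ∃ k : G, k * z * k⁻¹ = c
  other : ∀ k : G, k * z * k⁻¹ ≠ c * z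

/-- Coordinates, the frame and the lifts conjugate to the central involution. -/
structure Pen (S : Setting z P) extends Frame S where
  /-- the lifts -/
  ι : ℕ → G
  ι_spec : ∀ e, Penta.invI e = true → IsIota F.toCoord e (ι e)
  /-- conjugates in the core -/
  w17 : ∃ k : G, k * z * k⁻¹ = F.toCoord.lh 17
  w4 : ∀ k : G, k * z * k⁻¹ ≠ F.toCoord.lh 4 ∧ k * z * k⁻¹ ≠ F.toCoord.lh 4 * z

namespace Penta

theorem mask_vals : Mathieu.tMask.testBit 34 = false ∧ Mathieu.tMask.testBit 8 = true ∧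
    Mathieu.tMask.testBit 9 = true ∧ Mathieu.tMask.testBit 128 = true ∧ Mathieu.tMask.testBit 129 = false := by
  decide +kernel

theorem conj_perm_check : ((List.range 256).all fun e => !(invI e) ||
    tbConj.any fun p => (p.1 == e) && (p.2.all fun i => decide (i < 9)) &&
      (mm (evM (asg mS mW mQ) p.2) (mA 0) == mm (tbEl e) (evM (asg mS mW mQ) p.2))) = true := by decide +kernel

end Penta

namespace Full

variable {S : Setting z P} (F : Full S)

/-- The lifts of the nine permutations. -/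
noncomputable def lt9 (k : ℕ) : G :=
  if k = 6 then F.s else if k = 7 then F.w else if k = 8 then F.q else F.toCoord.lift k

/-- The lift of a word. -/
noncomputable def lw (w : List ℕ) : G := (w.map F.lt9).prod

theorem lw_spec {w : List ℕ} (hw : ∀ k ∈ w, k < 9) :
    F.lw w ∈ CP z P ∧ S.ψ (F.lw w) = wordπ w ∧ F.toCoord.Rep (F.lw w) (evM (asg mS mW mQ) w) := by
  refine F.toCoord.rep_word F.lt9 _ 9 (fun k hk => ?_) w hw
  interval_cases k
  all_goals first
    | exact ⟨F.s_mem, F.s_ψ, F.rs⟩ | exact ⟨F.w_mem, F.w_ψ, F.rw'⟩ | exact ⟨F.q_mem, F.q_ψ, F.rq⟩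
    | exact F.toCoord.lift_spec (k := 0) (by norm_num) | exact F.toCoord.lift_spec (k := 1) (by norm_num)
    | exact F.toCoord.lift_spec (k := 2) (by norm_num) | exact F.toCoord.lift_spec (k := 3) (by norm_num)
    | exact F.toCoord.lift_spec (k := 4) (by norm_num) | exact F.toCoord.lift_spec (k := 5) (by norm_num)

theorem nc_o : S.NC F.o := ⟨F.o_norm.hz, Or.inr F.o_p⟩

end Full

theorem Frame.exists_pen {S : Setting z P} (Fr : Frame S) [Finite G] [IsSimpleGroup G] (hG : ¬ IsMulCommutative G) :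
    Nonempty (Pen S) := by
  classical
  have hO := fun {v} (hv : v < 2048) => Fr.inO_iff hG hv
  obtain ⟨m34, m8, m9, m128, m129⟩ := Penta.mask_vals
  have hb : Fr.X.b 1 ∈ CP z P := Fr.X.mem 1 (by norm_num)
  have hbz : Fr.Av 129 = Fr.X.b 1 * z := by
    rw [show (129 : ℕ) = 128 * 1 ^^^ 1 by rfl, ← Fr.Av_mul (by norm_num) (by norm_num),
      Fr.Av_high (by norm_num), Fr.Av_one]
  have hb0 : Fr.Av 128 = Fr.X.b 1 := Fr.Av_high (k := 1) (by norm_num)
  obtain ⟨k1, hk1⟩ := (hO (v := 129) (by norm_num)).2 ⟨by norm_num, m129⟩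
  rw [hbz] at hk1
  have hbr : Fr.F.toCoord.Rep (Fr.X.b 1) (mA 0) := by
    have h := Fr.rep_b 1 (by norm_num)
    rwa [show akM.getD 1 [] = mA 0 by decide +kernel] at h
  have key : ∀ e, ∃ c, Penta.invI e = true → IsIota Fr.F.toCoord e c := by
    intro e
    by_cases he : Penta.invI e = true
    swap
    · exact ⟨1, fun h => absurd h he⟩
    have he256 : e < 256 := by
      simp only [Penta.invI, Bool.and_eq_true, decide_eq_true_eq] at he; exact he.1.1.1
    have h := List.all_eq_true.1 Penta.conj_perm_check e (List.mem_range.2 he256)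
    simp only [he, Bool.not_true, Bool.false_or, List.any_eq_true, Bool.and_eq_true, beq_iff_eq,
      List.all_eq_true, decide_eq_true_eq] at h
    obtain ⟨p, -, ⟨-, hp⟩, heq⟩ := h
    obtain ⟨hd, -, hdr⟩ := Fr.F.lw_spec hp
    set d := Fr.F.lw p.2
    refine ⟨d * (Fr.X.b 1 * z) * d⁻¹, fun _ => ⟨mul_mem (mul_mem hd (mul_mem hb S.z_mem)) (inv_mem hd), ?_, ?_,
      ⟨d * k1, by rw [← hk1]; group⟩, fun k hk => ?_⟩⟩
    · obtain ⟨N, hN⟩ := Fr.F.toCoord.exists_rep (g := d * (Fr.X.b 1 * z) * d⁻¹)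
        (S.commz (mul_mem (mul_mem hd (mul_mem hb S.z_mem)) (inv_mem hd)))
      obtain ⟨g, hg⟩ := Fr.F.tb_exists he256
      have h1 := Fr.F.toCoord.rep_mul hN hdr
      have hm : mm (mA 0) mI = mA 0 := by decide +kernel
      have h2 := Fr.F.toCoord.rep_mul hdr (Fr.F.toCoord.rep_mul hbr (Fr.F.toCoord.rep_E S.ext.mem))
      rw [inv_mul_cancel_right] at h1
      rw [hm, heq] at h2
      have h3 := Fr.F.toCoord.rep_unique h1 h2
      have hinv : ∃ Ni, Fr.F.toCoord.Rep d⁻¹ Ni := Fr.F.toCoord.exists_rep (S.commz (inv_mem hd))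
      obtain ⟨Ni, hNi⟩ := hinv
      have h4 := Fr.F.toCoord.rep_mul (Fr.F.toCoord.rep_mul hg hdr) hNi
      rw [mul_inv_cancel_right] at h4
      have h5 := Fr.F.toCoord.rep_mul (Fr.F.toCoord.rep_mul hN hdr) hNi
      rw [mul_inv_cancel_right] at h5
      have e5 := Fr.F.toCoord.rep_unique hN h5
      rw [h3, ← Fr.F.toCoord.rep_unique hg h4] at e5
      exact e5 ▸ hN
    · rw [show d * (Fr.X.b 1 * z) * d⁻¹ * (d * (Fr.X.b 1 * z) * d⁻¹) = d * (Fr.X.b 1 * (z * Fr.X.b 1) * z) * d⁻¹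
        by group, ← S.commz hb, show Fr.X.b 1 * (Fr.X.b 1 * z) * z = Fr.X.b 1 * Fr.X.b 1 * (z * z) by group, S.zz,
        Fr.X.mul 1 (by norm_num) 1 (by norm_num), Nat.xor_self, Fr.X.b_zero]
      group
    · obtain ⟨-, hbad⟩ := (hO (v := 128) (by norm_num)).1 ⟨d⁻¹ * k, by
        rw [show d⁻¹ * k * z * (d⁻¹ * k)⁻¹ = d⁻¹ * (k * z * k⁻¹) * d by group, hk, hb0,
          show d⁻¹ * (d * (Fr.X.b 1 * z) * d⁻¹ * z) * d = Fr.X.b 1 * z * (d⁻¹ * z * d) by group,
          show d⁻¹ * z * d = z by rw [mul_assoc, ← S.commz hd, inv_mul_cancel_left], mul_assoc, S.zz, mul_one]⟩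
      rw [m128] at hbad
      exact Bool.noConfusion hbad
  choose ι hι using key
  refine ⟨⟨Fr, ι, hι, ?_, fun k => ⟨fun e => ?_, fun e => ?_⟩⟩⟩
  · obtain ⟨k, hk⟩ := (hO (v := 34) (by norm_num)).2 ⟨by norm_num, m34⟩
    exact ⟨k, hk.trans (Fr.Av_low (n := 17) (by norm_num))⟩
  · have := ((hO (v := 8) (by norm_num)).1 ⟨k, e.trans (Fr.Av_low (n := 4) (by norm_num)).symm⟩).2
    rw [m8] at this
    exact Bool.noConfusion this
  · have := ((hO (v := 9) (by norm_num)).1 ⟨k, e.trans (by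
      rw [show (9 : ℕ) = 2 * 4 ^^^ 1 by rfl, ← Fr.Av_mul (by norm_num) (by norm_num), Fr.Av_low (by norm_num),
        Fr.Av_one])⟩).2
    rw [m9] at this
    exact Bool.noConfusion this

theorem Pen.ι_unique {S : Setting z P} (B : Pen S) [Finite G] {e : ℕ} (he : Penta.invI e = true) {c : G}
    (hc : c ∈ CP z P) (hr : B.F.toCoord.Rep c (tbEl e)) (hk : ∃ k : G, k * z * k⁻¹ = c) : c = B.ι e := by
  obtain ⟨hm, hrep, -, -, hother⟩ := B.ι_spec e he
  rcases B.F.toCoord.CP_rep_eq hm hc hrep hr with h | h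
  · exact h
  · obtain ⟨k, hk⟩ := hk
    exact absurd (hk.trans h) (hother k)

/-- The lifts are permuted by the elements normalising the three-group. -/
theorem Pen.ι_conj {S : Setting z P} (B : Pen S) [Finite G] {g : G} {M : List ℕ} (hg : S.NC g)
    (hM : B.F.toCoord.Rep g M) {e e' : ℕ} (he : Penta.invI e = true) (he' : Penta.invI e' = true)
    (h : mm M (tbEl e) = mm (tbEl e') M) : g * B.ι e * g⁻¹ = B.ι e' := by
  obtain ⟨hm, hrep, -, ⟨k, hk⟩, -⟩ := B.ι_spec e he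
  refine B.ι_unique he' (S.nc_mem hg hm) ?_ ⟨g * k, by rw [← hk]; group⟩
  obtain ⟨N, hN⟩ := B.F.toCoord.exists_rep (g := g * B.ι e * g⁻¹) (S.commz (S.nc_mem hg hm))
  obtain ⟨Ni, hNi⟩ := B.F.toCoord.exists_rep (g := g⁻¹) (conj_inv_comm hg.1)
  have h4 := B.F.toCoord.rep_mul (B.F.toCoord.rep_mul hM hrep) hNi
  have h5 := B.F.toCoord.rep_mul (B.F.toCoord.rep_mul (B.ι_spec e' he').rep hM) hNi
  rw [mul_inv_cancel_right] at h5
  have e5 := B.F.toCoord.rep_unique h5 (B.ι_spec e' he').rep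
  rw [h] at h4
  rw [e5] at h4
  exact h4

end Cfsg.Agent.Spor.JFour
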