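import Cfsg.Agent.Lib.Spor.JFourType.Penta.Plucker

/-!
The normaliser of the elementary abelian group induces the whole linear group of a five-dimensional space, with the
group itself as kernel.
-/

set_option autoImplicit false
set_option maxRecDepth 100000
set_option linter.style.haveILetI false

open Cfsg
open Cfsg.Agent.Spor.Cos.J4Sub (app mm app_mm app_xor app_zero)

namespace Cfsg.Agent.Spor.JFour

namespace Penta

/-- The images of the products of basis vectors. -/
def gCols (g : ℕ → ℕ) : List ℕ := prs.map fun p => w5 (g (2 ^ p.1)) (g (2 ^ p.2))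

/-- The vector with given coordinates. -/
def toV (a : ℕ) : Fin 5 → ZMod 2 := fun i => if a.testBit i then 1 else 0

/-- The number of a vector. -/
def frV (x : Fin 5 → ZMod 2) : ℕ :=
  (if x 0 = 1 then 1 else 0) + (if x 1 = 1 then 2 else 0) + (if x 2 = 1 then 4 else 0) + (if x 3 = 1 then 8 else 0) +
    (if x 4 = 1 then 16 else 0)

theorem toV_zero : toV 0 = 0 := by funext i; simp [toV]

theorem frV_lt (x : Fin 5 → ZMod 2) : frV x < 32 := by unfold frV; split_ifs <;> norm_num

theorem toV_frV : ∀ x : Fin 5 → ZMod 2, toV (frV x) = x := by decide +kernel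

theorem frV_toV : ∀ a < 32, frV (toV a) = a := by decide +kernel

theorem frV_add : ∀ x y : Fin 5 → ZMod 2, frV (x + y) = frV x ^^^ frV y := by decide +kernel

theorem cols_spec {t : ℕ} (ht : t < 10) : (prs.getD t (0, 0)).1 < 5 ∧ (prs.getD t (0, 0)).2 < 5 ∧
    app wCols (2 ^ t) = w5 (2 ^ (prs.getD t (0, 0)).1) (2 ^ (prs.getD t (0, 0)).2) ∧
    wInv.getD t 0 < 1024 ∧ app wCols (wInv.getD t 0) = 2 ^ t := by
  have h := List.all_eq_true.1 cols_check.1 t (List.mem_range.2 ht)
  simp only [Bool.and_eq_true, beq_iff_eq, decide_eq_true_eq] at h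
  obtain ⟨⟨⟨⟨h1, h2⟩, h3⟩, h4⟩, h5⟩ := h
  exact ⟨h2, h3, by rw [app_two_pow (by rw [cols_check.2.1]; exact ht)]; exact h1, h4, h5⟩

end Penta

namespace Pen

variable {G : Type*} [Group G] {z : G} {P : Subgroup G} {S : Setting z P} (B : Pen S) [Finite G]
open Penta

/-- A permutation of the five-dimensional space induced by an element. -/
structure Ind (n : G) (g : ℕ → ℕ) : Prop where
  lt : ∀ a < 32, g a < 32
  add : ∀ a < 32, ∀ c < 32, g (a ^^^ c) = g a ^^^ g c
  conj : ∀ a < 32, ∀ c < 32, n * B.Pv (w5 a c) * n⁻¹ = B.Pv (w5 (g a) (g c))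

theorem exists_ind {n : G} (hn : n ∈ Subgroup.normalizer (B.A0 : Set G)) : ∃ g, B.Ind n g := by
  classical
  have hσ : ∀ v, ∃ u, v < 1024 → u < 1024 ∧ B.Pv u = n * B.Pv v * n⁻¹ := fun v => by
    by_cases hv : v < 1024
    · obtain ⟨u, hu, e⟩ := (Subgroup.mem_normalizer_iff.1 hn _).1 (B.Pv_mem hv)
      exact ⟨u, fun _ => ⟨hu, e⟩⟩
    · exact ⟨0, fun h => absurd h hv⟩
  choose σ hσ using hσ
  have σadd : ∀ {u v}, u < 1024 → v < 1024 → σ (u ^^^ v) = σ u ^^^ σ v := fun {u v} hu hv => by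
    refine B.Pv_inj (hσ _ (Nat.xor_lt_two_pow (n := 10) hu hv)).1
      (Nat.xor_lt_two_pow (n := 10) (hσ u hu).1 (hσ v hv).1) ?_
    rw [(hσ _ (Nat.xor_lt_two_pow (n := 10) hu hv)).2, ← B.Pv_mul (hσ u hu).1 (hσ v hv).1, (hσ u hu).2, (hσ v hv).2,
      ← B.Pv_mul hu hv]
    group
  have σinj : ∀ {u v}, u < 1024 → v < 1024 → σ u = σ v → u = v := fun {u v} hu hv e => by
    refine B.Pv_inj hu hv ?_
    have h := congrArg B.Pv e
    rw [(hσ u hu).2, (hσ v hv).2] at h
    exact mul_left_cancel (mul_right_cancel h)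
  have σzero : σ 0 = 0 := B.Pv_inj (hσ 0 (by norm_num)).1 (by norm_num) (by
    rw [(hσ 0 (by norm_num)).2, B.Pv_zero]; group)
  have σO : ∀ {v}, v < 1024 → oMask.testBit v = true → oMask.testBit (σ v) = true := fun {v} hv h => by
    rw [← B.inO_iff (hσ v hv).1, ← B.inO_conj (hσ v hv).2.symm, B.inO_iff hv]; exact h
  -- the images of stars
  have hstar : ∀ a, ∃ b, a < 32 → a ≠ 0 → (0 < b ∧ b < 32) ∧ ∀ c < 32, (starM b).testBit (σ (w5 a c)) = true := by
    intro a
    by_cases ha : a < 32 ∧ a ≠ 0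
    swap
    · exact ⟨0, fun h1 h2 => absurd ⟨h1, h2⟩ ha⟩
    obtain ⟨ha, ha0⟩ := ha
    set T := (Finset.range 32).image fun c => σ (w5 a c) with hT
    have hc : T.card = 16 := by
      rw [hT, show (fun c => σ (w5 a c)) = σ ∘ w5 a from rfl, ← Finset.image_image,
        Finset.card_image_of_injOn, image_card a ha ha0]
      intro u hu v hv e
      obtain ⟨c, hc, rfl⟩ := Finset.mem_image.1 hu
      obtain ⟨d, hd, rfl⟩ := Finset.mem_image.1 hv
      exact σinj (w5_spec ha (Finset.mem_range.1 hc)).1 (w5_spec ha (Finset.mem_range.1 hd)).1 e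
    obtain ⟨b, hb0, hb, h⟩ := star_of_sub hc
      (fun u hu v hv => by
        obtain ⟨c, hc, rfl⟩ := Finset.mem_image.1 hu
        obtain ⟨d, hd, rfl⟩ := Finset.mem_image.1 hv
        have hc' := Finset.mem_range.1 hc
        have hd' := Finset.mem_range.1 hd
        exact Finset.mem_image.2 ⟨c ^^^ d, Finset.mem_range.2 (Nat.xor_lt_two_pow (n := 5) hc' hd'), by
          rw [w5_xor, σadd (w5_spec ha hc').1 (w5_spec ha hd').1]⟩)
      (fun v hv => by
        obtain ⟨c, hc, rfl⟩ := Finset.mem_image.1 hv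
        have hc' := Finset.mem_range.1 hc
        by_cases h1 : c = 0 ∨ c = a
        · left
          rcases h1 with rfl | rfl
          · rw [show w5 a 0 = 0 from app_zero _, σzero]
          · rw [w5_self hc', σzero]
        · push Not at h1
          exact Or.inr (σO (w5_spec ha hc').1 ((w5_spec ha hc').2.2.2 ha0 h1.1 (Ne.symm h1.2)).1))
    exact ⟨b, fun _ _ => ⟨⟨hb0, hb⟩, fun c hc => h _ (Finset.mem_image.2 ⟨c, Finset.mem_range.2 hc, rfl⟩)⟩⟩
  choose b hb using hstar
  -- distinct vectors have distinct images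
  have binj : ∀ {a c}, a < 32 → a ≠ 0 → c < 32 → c ≠ 0 → b a = b c → a = c := by
    intro a c ha ha0 hc hc0 e
    have himg : ∀ x < 32, x ≠ 0 → b x = b a →
        ((Finset.range 32).image (w5 x)).image σ = (Finset.range 32).image (w5 (b a)) := by
      intro x hx hx0 ex
      obtain ⟨⟨hp, hlt⟩, hmem⟩ := hb x hx hx0
      rw [ex] at hp hlt hmem
      refine Finset.eq_of_subset_of_card_le (fun v hv => ?_) ?_
      · obtain ⟨u, hu, rfl⟩ := Finset.mem_image.1 hv
        obtain ⟨d, hd, rfl⟩ := Finset.mem_image.1 hu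
        obtain ⟨d', hd', e'⟩ := star_mem hlt (Nat.pos_iff_ne_zero.1 hp) (hmem d (Finset.mem_range.1 hd))
        exact Finset.mem_image.2 ⟨d', Finset.mem_range.2 hd', e'⟩
      · rw [image_card _ hlt (Nat.pos_iff_ne_zero.1 hp), Finset.card_image_of_injOn, image_card x hx hx0]
        intro u hu v hv euv
        obtain ⟨c1, hc1, rfl⟩ := Finset.mem_image.1 hu
        obtain ⟨c2, hc2, rfl⟩ := Finset.mem_image.1 hv
        exact σinj (w5_spec hx (Finset.mem_range.1 hc1)).1 (w5_spec hx (Finset.mem_range.1 hc2)).1 euv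
    have h2 := (himg a ha ha0 rfl).trans (himg c hc hc0 e.symm).symm
    have h3 : (Finset.range 32).image (w5 a) = (Finset.range 32).image (w5 c) := by
      have low : ∀ x < 32, ∀ v ∈ (Finset.range 32).image (w5 x), v < 1024 := fun x hx v hv => by
        obtain ⟨d, hd, rfl⟩ := Finset.mem_image.1 hv
        exact (w5_spec hx (Finset.mem_range.1 hd)).1
      ext v
      constructor <;> intro hv
      · obtain ⟨u, hu, euv⟩ := Finset.mem_image.1 (h2 ▸ Finset.mem_image_of_mem σ hv)
        rwa [← σinj (low c hc u hu) (low a ha v hv) euv]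
      · obtain ⟨u, hu, euv⟩ := Finset.mem_image.1 (h2.symm ▸ Finset.mem_image_of_mem σ hv)
        rwa [← σinj (low a ha u hu) (low c hc v hv) euv]
    have hinj : ∀ p < 32, ∀ q < 32, starM p = starM q → p = q := by decide +kernel
    refine hinj a ha c hc (Nat.eq_of_testBit_eq fun v => ?_)
    rw [Bool.eq_iff_iff]
    constructor <;> intro h
    · obtain ⟨d, hd, rfl⟩ := star_mem ha ha0 h
      obtain ⟨d', hd', e'⟩ := Finset.mem_image.1 (h3 ▸ Finset.mem_image_of_mem (w5 a) (Finset.mem_range.2 hd))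
      rw [← e']; exact (w5_spec hc (Finset.mem_range.1 hd')).2.2.1
    · obtain ⟨d, hd, rfl⟩ := star_mem hc hc0 h
      obtain ⟨d', hd', e'⟩ := Finset.mem_image.1 (h3.symm ▸ Finset.mem_image_of_mem (w5 c) (Finset.mem_range.2 hd))
      rw [← e']; exact (w5_spec ha (Finset.mem_range.1 hd')).2.2.1
  -- three collinear vectors
  have hline : ∀ {a c}, a < 32 → a ≠ 0 → c < 32 → c ≠ 0 → a ≠ c →
      σ (w5 a c) = w5 (b a) (b c) ∧ b (a ^^^ c) = b a ^^^ b c := by
    intro a c ha ha0 hc hc0 hac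
    obtain ⟨⟨pa, la⟩, ma⟩ := hb a ha ha0
    obtain ⟨⟨pc, lc⟩, mc⟩ := hb c hc hc0
    have hx : a ^^^ c < 32 := Nat.xor_lt_two_pow (n := 5) ha hc
    have hx0 : a ^^^ c ≠ 0 := fun e => hac (by
      have := congrArg (· ^^^ c) e
      simpa [Nat.xor_assoc] using this)
    obtain ⟨⟨px, lx⟩, mx⟩ := hb _ hx hx0
    have hne : b a ≠ b c := fun e => hac (binj ha ha0 hc hc0 e)
    have h1 := ma c hc
    have h2 : (starM (b c)).testBit (σ (w5 a c)) = true := by rw [(w5_spec ha hc).2.1]; exact mc a ha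
    have h3 : (starM (b (a ^^^ c))).testBit (σ (w5 a c)) = true := by
      have := mx a ha
      rwa [(w5_spec hx ha).2.1, w5_xor, w5_self ha, Nat.zero_xor] at this
    have hm := List.all_eq_true.1 (List.all_eq_true.1 meet_check _ (List.mem_range.2 la)) _ (List.mem_range.2 lc)
    simp only [Bool.or_eq_true, beq_iff_eq, Nat.pos_iff_ne_zero.1 pa, Nat.pos_iff_ne_zero.1 pc, hne, false_or,
      Bool.and_eq_true, List.all_eq_true, List.mem_range, Bool.not_eq_true'] at hm
    have hs0 : σ (w5 a c) ≠ 0 := fun e => ((w5_spec ha hc).2.2.2 ha0 hc0 hac).2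
      (σinj (w5_spec ha hc).1 (by norm_num) (e.trans σzero.symm))
    have heq : σ (w5 a c) = w5 (b a) (b c) := by
      have h12 : (starM (b a) &&& starM (b c)).testBit (σ (w5 a c)) = true := by
        rw [Nat.testBit_and, h1, h2]; rfl
      rw [hm.1, Nat.testBit_or, Bool.or_eq_true, Nat.testBit_two_pow, decide_eq_true_eq,
        show (1 : ℕ) = 2 ^ 0 from rfl, Nat.testBit_two_pow, decide_eq_true_eq] at h12
      exact (h12.resolve_left (Ne.symm hs0)).symm
    refine ⟨heq, ?_⟩
    have h4 := hm.2 _ lx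
    rw [← heq, h3] at h4
    simp only [Bool.true_eq_false, or_false, Nat.pos_iff_ne_zero.1 px, false_or] at h4
    rcases h4 with (h | h) | h
    · have e' := binj hx hx0 ha ha0 h
      have : c = 0 := by
        have := congrArg (a ^^^ ·) e'
        simpa [← Nat.xor_assoc] using this
      exact absurd this hc0
    · have e' := binj hx hx0 hc hc0 h
      have : a = 0 := by
        have := congrArg (· ^^^ c) e'
        simpa [Nat.xor_assoc] using this
      exact absurd this ha0
    · exact h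
  refine ⟨fun a => if a = 0 then 0 else b a, ⟨fun a ha => ?_, fun a ha c hc => ?_, fun a ha c hc => ?_⟩⟩
  · show (if a = 0 then 0 else b a) < 32
    split_ifs with h
    · norm_num
    · exact (hb a ha h).1.2
  · show (if a ^^^ c = 0 then 0 else b (a ^^^ c)) = (if a = 0 then 0 else b a) ^^^ (if c = 0 then 0 else b c)
    by_cases h0 : a = 0
    · subst h0; simp
    by_cases h1 : c = 0
    · subst h1; simp
    by_cases h2 : a = c
    · subst h2; simp
    have hx0 : a ^^^ c ≠ 0 := fun e => h2 (by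
      have := congrArg (· ^^^ c) e
      simpa [Nat.xor_assoc] using this)
    rw [if_neg hx0, if_neg h0, if_neg h1, (hline ha h0 hc h1 h2).2]
  · rw [← (hσ _ (w5_spec ha hc).1).2]
    congr 1
    show σ (w5 a c) = w5 (if a = 0 then 0 else b a) (if c = 0 then 0 else b c)
    have hz : ∀ x < 32, w5 0 x = 0 := fun x hx => by rw [(w5_spec (a := 0) (by norm_num) hx).2.1]; exact app_zero _
    by_cases h0 : a = 0
    · subst h0
      rw [if_pos rfl, hz c hc, σzero, hz]
      split_ifs with h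
      · norm_num
      · exact (hb c hc h).1.2
    by_cases h1 : c = 0
    · subst h1
      rw [if_pos rfl, show w5 a 0 = 0 from app_zero _, σzero, show w5 _ 0 = 0 from app_zero _]
    by_cases h2 : a = c
    · subst h2
      rw [w5_self ha, σzero, if_neg h0, w5_self (hb a ha h0).1.2]
    rw [if_neg h0, if_neg h1, (hline ha h0 hc h1 h2).1]

theorem Ind.zero {n : G} {g : ℕ → ℕ} (h : B.Ind n g) : g 0 = 0 := by
  have := h.add 0 (by norm_num) 0 (by norm_num)
  simpa using this

theorem Ind.ne_zero {n : G} {g : ℕ → ℕ} (h : B.Ind n g) {a : ℕ} (ha : a < 32) (h0 : a ≠ 0) : g a ≠ 0 := fun e => by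
  obtain ⟨c, hc, hc0, hca⟩ : ∃ c < 32, c ≠ 0 ∧ a ≠ c := by
    by_cases h1 : a = 1
    · exact ⟨2, by norm_num, by norm_num, by omega⟩
    · exact ⟨1, by norm_num, by norm_num, h1⟩
  obtain ⟨hlt, -, -, hne⟩ := w5_spec ha hc
  have := h.conj a ha c hc
  rw [e, (w5_spec (a := 0) (by norm_num) (h.lt c hc)).2.1, show w5 (g c) 0 = 0 from app_zero _, B.Pv_zero,
    mul_inv_eq_one, mul_eq_left, ← B.Pv_zero] at this
  exact (hne h0 hc0 hca).2 (B.Pv_inj hlt (by norm_num) this)

theorem Ind.inj {n : G} {g : ℕ → ℕ} (h : B.Ind n g) {a c : ℕ} (ha : a < 32) (hc : c < 32) (e : g a = g c) :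
    a = c := by
  by_contra hne
  refine h.ne_zero B (Nat.xor_lt_two_pow (n := 5) ha hc) (fun h0 => hne ?_) (by rw [h.add a ha c hc, e, Nat.xor_self])
  have := congrArg (· ^^^ c) h0
  simpa [Nat.xor_assoc] using this

theorem Ind.surj {n : G} {g : ℕ → ℕ} (h : B.Ind n g) {d : ℕ} (hd : d < 32) : ∃ c < 32, g c = d := by
  obtain ⟨c, e⟩ := Finite.injective_iff_surjective.1
    (fun (u v : Fin 32) (e : (⟨g u, h.lt u u.2⟩ : Fin 32) = ⟨g v, h.lt v v.2⟩) =>
      Fin.ext (h.inj B u.2 v.2 (congrArg Fin.val e))) ⟨d, hd⟩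
  exact ⟨c, c.2, congrArg Fin.val e⟩

theorem Ind.unique {n : G} {g g' : ℕ → ℕ} (h : B.Ind n g) (h' : B.Ind n g') {a : ℕ} (ha : a < 32) : g a = g' a := by
  by_cases h0 : a = 0
  · rw [h0, h.zero B, h'.zero B]
  have key : ∀ {g g' : ℕ → ℕ}, B.Ind n g → B.Ind n g' → ∀ v, (starM (g a)).testBit v = true →
      (starM (g' a)).testBit v = true := by
    intro g g' h h' v hv
    obtain ⟨d, hd, rfl⟩ := star_mem (h.lt a ha) (h.ne_zero B ha h0) hv
    obtain ⟨c, hc, rfl⟩ := h.surj B hd
    have := (h.conj a ha c hc).symm.trans (h'.conj a ha c hc)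
    rw [B.Pv_inj (w5_spec (h.lt a ha) (h.lt c hc)).1 (w5_spec (h'.lt a ha) (h'.lt c hc)).1 this]
    exact (w5_spec (h'.lt a ha) (h'.lt c hc)).2.2.1
  have hinj : ∀ p < 32, ∀ q < 32, starM p = starM q → p = q := by decide +kernel
  refine hinj _ (h.lt a ha) _ (h'.lt a ha) (Nat.eq_of_testBit_eq fun v => ?_)
  rw [Bool.eq_iff_iff]
  exact ⟨key h h' v, key h' h v⟩

theorem Ind.mul {m n : G} {g h : ℕ → ℕ} (hm : B.Ind m g) (hn : B.Ind n h) : B.Ind (m * n) fun a => g (h a) where
  lt a ha := hm.lt _ (hn.lt a ha)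
  add a ha c hc := by rw [hn.add a ha c hc, hm.add _ (hn.lt a ha) _ (hn.lt c hc)]
  conj a ha c hc := by
    rw [show m * n * B.Pv (w5 a c) * (m * n)⁻¹ = m * (n * B.Pv (w5 a c) * n⁻¹) * m⁻¹ by group, hn.conj a ha c hc,
      hm.conj _ (hn.lt a ha) _ (hn.lt c hc)]

theorem ind_one : B.Ind 1 id :=
  ⟨fun _ h => h, fun _ _ _ _ => rfl, fun _ _ _ _ => by simp⟩

/-- The element acts on all coordinates by the induced map. -/
theorem Ind.conj_Pv {n : G} {g : ℕ → ℕ} (h : B.Ind n g) {v : ℕ} (hv : v < 1024) :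
    n * B.Pv v * n⁻¹ = B.Pv (app (mm (gCols g) wInv) v) ∧ app (mm (gCols g) wInv) v < 1024 := by
  have hp : ∀ i : ℕ, i < 5 → (2 : ℕ) ^ i < 32 := fun i hi => Nat.pow_lt_pow_right (by norm_num) hi
  have key : ∀ x < 2 ^ 10, n * B.Pv (app wCols x) * n⁻¹ = B.Pv (app (gCols g) x) ∧ app (gCols g) x < 1024 ∧
      app wCols x < 1024 := by
    refine xor_induction (p := fun x => n * B.Pv (app wCols x) * n⁻¹ = B.Pv (app (gCols g) x) ∧
      app (gCols g) x < 1024 ∧ app wCols x < 1024) ?_ 10 fun t ht m _ ih => ?_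
    · rw [app_zero, app_zero, B.Pv_zero]
      exact ⟨by group, by norm_num, by norm_num⟩
    · obtain ⟨h1, h2, h3, -, -⟩ := cols_spec ht
      have hg : app (gCols g) (2 ^ t) =
          w5 (g (2 ^ (prs.getD t (0, 0)).1)) (g (2 ^ (prs.getD t (0, 0)).2)) := by
        have hl : prs.length = 10 := rfl
        rw [app_two_pow (by rw [gCols, List.length_map, hl]; exact ht), gCols,
          List.getD_eq_getElem _ _ (by rw [List.length_map, hl]; exact ht), List.getElem_map,
          List.getD_eq_getElem _ _ (by rw [hl]; exact ht)]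
      obtain ⟨ih1, ih2, ih3⟩ := ih
      have l1 := (w5_spec (hp _ h1) (hp _ h2)).1
      have l2 := (w5_spec (h.lt _ (hp _ h1)) (h.lt _ (hp _ h2))).1
      rw [app_xor, app_xor, h3, hg]
      refine ⟨?_, Nat.xor_lt_two_pow (n := 10) l2 ih2, Nat.xor_lt_two_pow (n := 10) l1 ih3⟩
      rw [← B.Pv_mul l1 ih3, ← B.Pv_mul l2 ih2, ← h.conj _ (hp _ h1) _ (hp _ h2), ← ih1]
      group
  have hinv : ∀ x < 2 ^ 10, app wInv x < 1024 ∧ app wCols (app wInv x) = x := by
    refine xor_induction (p := fun x => app wInv x < 1024 ∧ app wCols (app wInv x) = x) ?_ 10 fun t ht m _ ih => ?_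
    · exact ⟨by rw [app_zero]; norm_num, by rw [app_zero, app_zero]⟩
    · obtain ⟨-, -, -, h4, h5⟩ := cols_spec ht
      have e : app wInv (2 ^ t) = wInv.getD t 0 :=
        app_two_pow (show t < wInv.length by rw [show wInv.length = 10 from rfl]; exact ht)
      rw [app_xor, app_xor, e, h5, ih.2]
      exact ⟨Nat.xor_lt_two_pow (n := 10) h4 ih.1, rfl⟩
  obtain ⟨h1, h2⟩ := hinv v hv
  obtain ⟨k1, k2, -⟩ := key _ h1
  rw [h2] at k1
  rw [app_mm]
  exact ⟨k1, k2⟩

/-- The induced map. -/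
noncomputable def π5 (n : ↥(Subgroup.normalizer (B.A0 : Set G))) : ℕ → ℕ := Classical.choose (B.exists_ind n.2)

theorem π5_spec (n : ↥(Subgroup.normalizer (B.A0 : Set G))) : B.Ind (n : G) (B.π5 n) :=
  Classical.choose_spec (B.exists_ind n.2)

/-- The induced linear map. -/
noncomputable def lin5 (n : ↥(Subgroup.normalizer (B.A0 : Set G))) : Module.End (ZMod 2) (Fin 5 → ZMod 2) :=
  AddMonoidHom.toZModLinearMap 2
    { toFun := fun x => toV (B.π5 n (frV x))
      map_zero' := by
        rw [show frV 0 = 0 from rfl, (B.π5_spec n).zero B]; exact toV_zero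
      map_add' := fun x y => by
        have h := B.π5_spec n
        rw [frV_add, h.add _ (frV_lt x) _ (frV_lt y)]
        have e : ∀ a < 32, ∀ c < 32, toV (a ^^^ c) = toV a + toV c := by decide +kernel
        exact e _ (h.lt _ (frV_lt x)) _ (h.lt _ (frV_lt y)) }

theorem lin5_apply (n : ↥(Subgroup.normalizer (B.A0 : Set G))) (x : Fin 5 → ZMod 2) :
    B.lin5 n x = toV (B.π5 n (frV x)) := rfl

/-- The representation of the normaliser. -/
noncomputable def endHom : ↥(Subgroup.normalizer (B.A0 : Set G)) →* Module.End (ZMod 2) (Fin 5 → ZMod 2) where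
  toFun := B.lin5
  map_one' := LinearMap.ext fun x => by
    rw [lin5_apply, (B.π5_spec 1).unique B (by simpa using B.ind_one) (frV_lt x)]
    exact toV_frV x
  map_mul' m n := LinearMap.ext fun x => by
    rw [Module.End.mul_apply, lin5_apply, lin5_apply, lin5_apply,
      frV_toV _ ((B.π5_spec n).lt _ (frV_lt x)),
      (B.π5_spec (m * n)).unique B (by simpa using (B.π5_spec m).mul B (B.π5_spec n)) (frV_lt x)]

/-- The homomorphism to the linear group. -/
noncomputable def gl5 : ↥(Subgroup.normalizer (B.A0 : Set G)) →* GL (Fin 5) (ZMod 2) :=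
  ((LinearMap.toMatrixAlgEquiv' (R := ZMod 2) (n := Fin 5)).toAlgHom.toRingHom.toMonoidHom.comp B.endHom).toHomUnits

theorem gl5_eq_iff {m n : ↥(Subgroup.normalizer (B.A0 : Set G))} :
    B.gl5 m = B.gl5 n ↔ ∀ a < 32, B.π5 m a = B.π5 n a := by
  rw [Units.ext_iff]
  show LinearMap.toMatrixAlgEquiv' (B.lin5 m) = LinearMap.toMatrixAlgEquiv' (B.lin5 n) ↔ _
  rw [(LinearMap.toMatrixAlgEquiv' (R := ZMod 2) (n := Fin 5)).injective.eq_iff]
  constructor
  · intro h a ha
    have := congrArg frV (LinearMap.congr_fun h (toV a))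
    rwa [lin5_apply, lin5_apply, frV_toV a ha, frV_toV _ ((B.π5_spec m).lt a ha),
      frV_toV _ ((B.π5_spec n).lt a ha)] at this
  · intro h
    refine LinearMap.ext fun x => ?_
    rw [lin5_apply, lin5_apply, h _ (frV_lt x)]

theorem gl5_eq_one {n : ↥(Subgroup.normalizer (B.A0 : Set G))} : B.gl5 n = 1 ↔ (n : G) ∈ B.A0 := by
  rw [← map_one B.gl5, B.gl5_eq_iff]
  constructor
  · intro h
    refine B.centralizer_A0.le (Subgroup.mem_centralizer_iff.2 ?_)
    rintro _ ⟨v, hv, rfl⟩
    have hn := ((B.π5_spec n).conj_Pv B hv).1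
    have h1 := ((B.π5_spec 1).conj_Pv B hv).1
    have e : gCols (B.π5 n) = gCols (B.π5 1) := by
      refine List.map_congr_left fun p hp => ?_
      have hp5 : ∀ p ∈ prs, p.1 < 5 ∧ p.2 < 5 := by decide
      rw [h _ (Nat.pow_lt_pow_right (by norm_num) (hp5 p hp).1), h _ (Nat.pow_lt_pow_right (by norm_num) (hp5 p hp).2)]
    rw [e, ← h1] at hn
    simp only [OneMemClass.coe_one, one_mul, inv_one, mul_one] at hn
    exact (mul_inv_eq_iff_eq_mul.1 hn).symm
  · intro h a ha
    refine (B.π5_spec n).unique B (g' := B.π5 1) ?_ ha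
    refine ⟨(B.π5_spec 1).lt, (B.π5_spec 1).add, fun a ha c hc => ?_⟩
    rw [← (B.π5_spec 1).conj a ha c hc]
    simp only [OneMemClass.coe_one, one_mul, inv_one, mul_one]
    rw [B.A0_comm _ h _ (B.Pv_mem (w5_spec ha hc).1), mul_inv_cancel_right]

theorem card_gl5' : Nat.card (GL (Fin 5) (ZMod 2)) = 9999360 := by
  haveI : Fact (Nat.Prime 2) := ⟨Nat.prime_two⟩
  rw [Matrix.card_GL_field, ZMod.card, Fin.prod_univ_five]
  norm_num

theorem card_ker_gl5 : Nat.card ↥B.gl5.ker = 2 ^ 10 := by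
  rw [← B.card_A0]
  refine Nat.card_congr ⟨fun x => ⟨(x.1 : G), B.gl5_eq_one.1 x.2⟩,
    fun x => ⟨⟨x.1, Subgroup.le_normalizer x.2⟩, B.gl5_eq_one.2 x.2⟩, fun x => rfl, fun x => rfl⟩

theorem gl5_surjective : Function.Surjective B.gl5 := by
  rw [← MonoidHom.range_eq_top]
  refine Subgroup.eq_top_of_card_eq _ ?_
  have h := Subgroup.card_eq_card_quotient_mul_card_subgroup B.gl5.ker
  rw [B.card_normalizer_A0, B.card_ker_gl5, Nat.card_congr (QuotientGroup.quotientKerEquivRange B.gl5).toEquiv] at h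
  rw [card_gl5']
  omega

/-- Every linear map is induced. -/
theorem exists_of_list {M : List ℕ} (hlt : ∀ a < 32, app M a < 32) (hinj : ∀ a < 32, app M a = 0 → a = 0) :
    ∃ n ∈ Subgroup.normalizer (B.A0 : Set G), B.Ind n (app M) := by
  let L : Module.End (ZMod 2) (Fin 5 → ZMod 2) := AddMonoidHom.toZModLinearMap 2
    { toFun := fun x => toV (app M (frV x))
      map_zero' := by rw [show frV 0 = 0 from rfl, app_zero]; exact toV_zero
      map_add' := fun x y => by
        rw [frV_add, app_xor]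
        have e : ∀ a < 32, ∀ c < 32, toV (a ^^^ c) = toV a + toV c := by decide +kernel
        exact e _ (hlt _ (frV_lt x)) _ (hlt _ (frV_lt y)) }
  have hL : ∀ x, L x = toV (app M (frV x)) := fun x => rfl
  have hker : Function.Injective L := by
    rw [injective_iff_map_eq_zero]
    intro x hx
    rw [hL] at hx
    have h := congrArg frV hx
    rw [frV_toV _ (hlt _ (frV_lt x))] at h
    rw [← toV_frV x, hinj _ (frV_lt x) (by rw [h]; rfl)]
    exact toV_zero
  have hu : IsUnit L := by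
    rw [Module.End.isUnit_iff]
    exact ⟨hker, Finite.injective_iff_surjective.1 hker⟩
  obtain ⟨n, hn⟩ := B.gl5_surjective (hu.map (LinearMap.toMatrixAlgEquiv' (R := ZMod 2) (n := Fin 5))).unit
  refine ⟨n, n.2, ?_⟩
  have hπ : ∀ a < 32, B.π5 n a = app M a := fun a ha => by
    have h1 : LinearMap.toMatrixAlgEquiv' (B.lin5 n) = LinearMap.toMatrixAlgEquiv' L := congrArg Units.val hn
    have h2 := congrArg frV (LinearMap.congr_fun
      ((LinearMap.toMatrixAlgEquiv' (R := ZMod 2) (n := Fin 5)).injective h1) (toV a))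
    rwa [lin5_apply, hL, frV_toV a ha, frV_toV _ ((B.π5_spec n).lt a ha), frV_toV _ (hlt a ha)] at h2
  refine ⟨hlt, fun a _ c _ => app_xor _ _ _, fun a ha c hc => ?_⟩
  rw [← hπ a ha, ← hπ c hc]
  exact (B.π5_spec n).conj a ha c hc

end Pen

end Cfsg.Agent.Spor.JFour
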