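import Cfsg.Agent.Lib.Spor.JFourType.Penta.Linear
import Cfsg.Agent.Lib.Spor.JFourType.Penta.OrbData

/-!
Two orbits on the involutions of the elementary abelian group, of lengths 155 and 868; irreducibility.
-/

set_option autoImplicit false
set_option maxRecDepth 100000
set_option linter.style.haveILetI false

open Cfsg
open Cfsg.Agent.Spor.Cos.J4Sub (app mm app_mm app_xor app_zero)

namespace Cfsg.Agent.Spor.JFour

namespace Penta

/-- The packed parent of a point. -/
def nCode (v : ℕ) : ℕ := (nPar.getD (v / 32) []).getD (v % 32) 0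

/-- The root of a point. -/
def nRoot : ℕ → ℕ → ℕ
  | 0, v => v
  | f + 1, v => if nCode v % 3 == 2 then v else nRoot f (nCode v / 3)

theorem sMat_check : ((List.range 2).all fun i => ((List.range 32).all fun a =>
      decide (app (sGen.getD i []) a < 32) && ((a == 0) || app (sGen.getD i []) a != 0)) &&
    (mm (gCols (app (sGen.getD i []))) wInv == sMat.getD i [])) = true := by decide +kernel

theorem nPar_check : ((List.range 1024).all fun v => (v == 0) || oMask.testBit v || ((nCode v % 3 == 2) && (v == 2)) ||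
    (decide (nCode v % 3 < 2) && decide (nCode v / 3 < 1024) && (nCode v / 3 != 0) &&
      !(oMask.testBit (nCode v / 3)) && (app (sMat.getD (nCode v % 3) []) (nCode v / 3) == v) &&
      (nRoot 29 v == 2))) = true := by decide +kernel

theorem count_check : ((Finset.range 1024).filter fun v => oMask.testBit v = true).card = 155 ∧
    ((Finset.range 1024).filter fun v => v ≠ 0 ∧ oMask.testBit v = false).card = 868 ∧
    oMask.testBit 1 = true ∧ oMask.testBit 2 = false ∧ oMask.testBit 3 = false := by decide +kernel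

end Penta

namespace Pen

variable {G : Type*} [Group G] {z : G} {P : Subgroup G} {S : Setting z P} (B : Pen S) [Finite G]
open Penta

theorem exists_smat {i : ℕ} (hi : i < 2) : ∃ n ∈ Subgroup.normalizer (B.A0 : Set G), ∀ v < 1024,
    n * B.Pv v * n⁻¹ = B.Pv (app (sMat.getD i []) v) := by
  have h := List.all_eq_true.1 sMat_check i (List.mem_range.2 hi)
  simp only [Bool.and_eq_true, List.all_eq_true, List.mem_range, decide_eq_true_eq, Bool.or_eq_true, beq_iff_eq,
    bne_iff_ne] at h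
  obtain ⟨n, hn, hI⟩ := B.exists_of_list (M := sGen.getD i []) (fun a ha => (h.1 a ha).1)
    (fun a ha e => (h.1 a ha).2.resolve_right fun hne => hne e)
  exact ⟨n, hn, fun v hv => by rw [(hI.conj_Pv B hv).1, h.2]⟩

/-- The conjugates of the involution form one orbit. -/
theorem orbit_O {v : ℕ} (hv : v < 1024) (h : oMask.testBit v = true) :
    ∃ n ∈ Subgroup.normalizer (B.A0 : Set G), n * z * n⁻¹ = B.Pv v := by
  obtain ⟨g, hg⟩ := (B.inO_iff hv).2 h
  obtain ⟨n, hn, e⟩ := B.conj_in_normalizer (g := g) (hg ▸ B.Pv_mem hv)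
  exact ⟨n, hn, e.trans hg⟩

/-- The others form one orbit. -/
theorem orbit_N : ∀ (f v : ℕ), v < 1024 → v ≠ 0 → oMask.testBit v = false → nRoot f v = 2 →
    ∃ n ∈ Subgroup.normalizer (B.A0 : Set G), n * B.Pv 2 * n⁻¹ = B.Pv v
  | 0, v, _, _, _, h => ⟨1, one_mem _, by rw [show v = 2 from h, one_mul, inv_one, mul_one]⟩
  | f + 1, v, hv, h0, hO, h => by
    by_cases h2 : nCode v % 3 = 2
    · rw [nRoot, if_pos (by simpa using h2)] at h
      exact ⟨1, one_mem _, by rw [h, one_mul, inv_one, mul_one]⟩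
    rw [nRoot, if_neg (by simpa using h2)] at h
    have hc := List.all_eq_true.1 nPar_check v (List.mem_range.2 hv)
    simp only [Bool.or_eq_true, beq_iff_eq, h0, hO, h2, false_and, Bool.false_eq_true, false_or,
      Bool.and_eq_true, decide_eq_true_eq, bne_iff_ne, Bool.not_eq_true'] at hc
    obtain ⟨⟨⟨⟨⟨hi, hp⟩, hp0⟩, hpO⟩, himg⟩, -⟩ := hc
    obtain ⟨m, hm, em⟩ := orbit_N f _ hp hp0 hpO h
    obtain ⟨n, hn, en⟩ := B.exists_smat hi
    refine ⟨n * m, mul_mem hn hm, ?_⟩
    rw [show n * m * B.Pv 2 * (n * m)⁻¹ = n * (m * B.Pv 2 * m⁻¹) * n⁻¹ by group, em, en _ hp, himg]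

theorem orbit_N' {v : ℕ} (hv : v < 1024) (h0 : v ≠ 0) (hO : oMask.testBit v = false) :
    ∃ n ∈ Subgroup.normalizer (B.A0 : Set G), n * B.Pv 2 * n⁻¹ = B.Pv v := by
  have hc := List.all_eq_true.1 nPar_check v (List.mem_range.2 hv)
  simp only [Bool.or_eq_true, beq_iff_eq, h0, hO, Bool.false_eq_true, false_or, Bool.and_eq_true,
    decide_eq_true_eq] at hc
  rcases hc with ⟨-, rfl⟩ | ⟨-, h⟩
  · exact ⟨1, one_mem _, by group⟩
  · exact B.orbit_N 29 v hv h0 hO h

/-- The lengths of the orbits. -/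
theorem card_orbits :
    Set.ncard {v : G | ∃ n ∈ Subgroup.normalizer (B.A0 : Set G), n * z * n⁻¹ = v} = 155 ∧
    Set.ncard {v : G | ∃ n ∈ Subgroup.normalizer (B.A0 : Set G), n * B.Pv 2 * n⁻¹ = v} = 868 := by
  obtain ⟨c1, c2, hO1, hO2, -⟩ := count_check
  have key : ∀ {n : G}, n ∈ Subgroup.normalizer (B.A0 : Set G) → ∀ {u}, u < 1024 → ∃ v < 1024,
      B.Pv v = n * B.Pv u * n⁻¹ ∧ (oMask.testBit u = oMask.testBit v) := by
    intro n hn u hu
    obtain ⟨v, hv, e⟩ := (Subgroup.mem_normalizer_iff.1 hn _).1 (B.Pv_mem hu)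
    refine ⟨v, hv, e, ?_⟩
    rw [Bool.eq_iff_iff, ← B.inO_iff hu, ← B.inO_iff hv]
    exact B.inO_conj e.symm
  constructor
  · have e : {v : G | ∃ n ∈ Subgroup.normalizer (B.A0 : Set G), n * z * n⁻¹ = v} =
        B.Pv '' ↑((Finset.range 1024).filter fun v => oMask.testBit v = true) := by
      ext x
      constructor
      · rintro ⟨n, hn, rfl⟩
        obtain ⟨v, hv, e, hb⟩ := key hn (u := 1) (by norm_num)
        exact ⟨v, Finset.mem_coe.2 (Finset.mem_filter.2 ⟨Finset.mem_range.2 hv, hb ▸ hO1⟩), by rw [e, B.Pv_one]⟩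
      · rintro ⟨v, hv, rfl⟩
        obtain ⟨hv, hb⟩ := Finset.mem_filter.1 (Finset.mem_coe.1 hv)
        exact B.orbit_O (Finset.mem_range.1 hv) hb
    rw [e, Set.ncard_image_of_injOn, Set.ncard_coe_finset, c1]
    intro u hu v hv h
    exact B.Pv_inj (Finset.mem_range.1 (Finset.mem_filter.1 hu).1) (Finset.mem_range.1 (Finset.mem_filter.1 hv).1) h
  · have e : {v : G | ∃ n ∈ Subgroup.normalizer (B.A0 : Set G), n * B.Pv 2 * n⁻¹ = v} =
        B.Pv '' ↑((Finset.range 1024).filter fun v => v ≠ 0 ∧ oMask.testBit v = false) := by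
      ext x
      constructor
      · rintro ⟨n, hn, rfl⟩
        obtain ⟨v, hv, e, hb⟩ := key hn (u := 2) (by norm_num)
        refine ⟨v, Finset.mem_coe.2 (Finset.mem_filter.2 ⟨Finset.mem_range.2 hv, fun h0 => ?_, hb ▸ hO2⟩), e⟩
        rw [h0, B.Pv_zero] at e
        have h1 : B.Pv 2 = B.Pv 0 := by
          rw [B.Pv_zero]
          have h' := congrArg (fun y => n⁻¹ * y * n) e
          simp only [mul_one, inv_mul_cancel] at h'
          rw [show B.Pv 2 = n⁻¹ * (n * B.Pv 2 * n⁻¹) * n by group, ← h']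
        exact absurd (B.Pv_inj (by norm_num) (by norm_num) h1) (by norm_num)
      · rintro ⟨v, hv, rfl⟩
        obtain ⟨hv, h0, hb⟩ := Finset.mem_filter.1 (Finset.mem_coe.1 hv)
        exact B.orbit_N' (Finset.mem_range.1 hv) h0 hb
    rw [e, Set.ncard_image_of_injOn, Set.ncard_coe_finset, c2]
    intro u hu v hv h
    exact B.Pv_inj (Finset.mem_range.1 (Finset.mem_filter.1 hu).1) (Finset.mem_range.1 (Finset.mem_filter.1 hv).1) h

/-- The group has no proper invariant subgroup. -/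
theorem irreducible (W : Subgroup G) (hW : W ≤ B.A0)
    (hN : Subgroup.normalizer (B.A0 : Set G) ≤ Subgroup.normalizer (W : Set G)) : W = ⊥ ∨ W = B.A0 := by
  refine (em (W = ⊥)).imp_right fun hne => le_antisymm hW ?_
  have conjW : ∀ {n}, n ∈ Subgroup.normalizer (B.A0 : Set G) → ∀ {x}, x ∈ W → n * x * n⁻¹ ∈ W :=
    fun hn _ hx => (Subgroup.mem_normalizer_iff.1 (hN hn) _).1 hx
  obtain ⟨x, hx, hx1⟩ : ∃ x ∈ W, x ≠ 1 := by
    by_contra h
    push Not at h
    exact hne ((Subgroup.eq_bot_iff_forall _).2 h)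
  obtain ⟨v, hv, rfl⟩ := hW hx
  have v0 : v ≠ 0 := fun e => hx1 (by rw [e, B.Pv_zero])
  obtain ⟨-, -, hO1, hO2, hO3⟩ := count_check
  have hz : z ∈ W := by
    cases hb : oMask.testBit v
    · obtain ⟨n, hn, en⟩ := B.orbit_N' hv v0 hb
      have h2 : B.Pv 2 ∈ W := by
        have := conjW (inv_mem hn) hx
        rwa [← en, show n⁻¹ * (n * B.Pv 2 * n⁻¹) * n⁻¹⁻¹ = B.Pv 2 by group] at this
      obtain ⟨m, hm, em⟩ := B.orbit_N' (v := 3) (by norm_num) (by norm_num) hO3
      have h3 : B.Pv 3 ∈ W := em ▸ conjW hm h2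
      have := mul_mem h2 h3
      rwa [B.Pv_mul (by norm_num) (by norm_num), show (2 : ℕ) ^^^ 3 = 1 by rfl, B.Pv_one] at this
    · obtain ⟨n, hn, en⟩ := B.orbit_O hv hb
      have := conjW (inv_mem hn) hx
      rwa [← en, show n⁻¹ * (n * z * n⁻¹) * n⁻¹⁻¹ = z by group] at this
  have hall : ∀ u < 1024, oMask.testBit u = true → B.Pv u ∈ W := fun u hu h => by
    obtain ⟨n, hn, en⟩ := B.orbit_O hu h
    exact en ▸ conjW hn hz
  have hbasis : ∀ x < 2 ^ 10, B.Pv (app wCols x) ∈ W ∧ app wCols x < 1024 := by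
    refine xor_induction (p := fun x => B.Pv (app wCols x) ∈ W ∧ app wCols x < 1024) ?_ 10 fun t ht m _ ih => ?_
    · rw [app_zero, B.Pv_zero]; exact ⟨one_mem _, by norm_num⟩
    · obtain ⟨h1, h2, h3, -, -⟩ := cols_spec ht
      have hc : ∀ t < 10, app wCols (2 ^ t) < 1024 ∧ oMask.testBit (app wCols (2 ^ t)) = true := by decide +kernel
      obtain ⟨c1, c2⟩ := hc t ht
      rw [app_xor]
      exact ⟨by rw [← B.Pv_mul c1 ih.2]; exact mul_mem (hall _ c1 c2) ih.1, Nat.xor_lt_two_pow (n := 10) c1 ih.2⟩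
  rintro _ ⟨u, hu, rfl⟩
  suffices h : ∀ x < 2 ^ 10, app wInv x < 1024 ∧ app wCols (app wInv x) = x by
    obtain ⟨h1, h2⟩ := h u hu
    exact h2 ▸ (hbasis _ h1).1
  refine xor_induction (p := fun x => app wInv x < 1024 ∧ app wCols (app wInv x) = x) ?_ 10 fun t ht m _ ih => ?_
  · exact ⟨by rw [app_zero]; norm_num, by rw [app_zero, app_zero]⟩
  · obtain ⟨-, -, -, h4, h5⟩ := cols_spec ht
    have e : app wInv (2 ^ t) = wInv.getD t 0 :=
      app_two_pow (show t < wInv.length by rw [show wInv.length = 10 from rfl]; exact ht)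
    rw [app_xor, app_xor, e, h5, ih.2]
    exact ⟨Nat.xor_lt_two_pow (n := 10) h4 ih.1, rfl⟩

end Pen

end Cfsg.Agent.Spor.JFour
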