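import Cfsg.Agent.Lib.Spor.JFourType.Penta.PlData
import Cfsg.Agent.Lib.Spor.JFourType.Penta.Fusion

/-!
The conjugates of the involution as decomposable vectors of an alternating square: the stars are the four-dimensional
subspaces inside, and two stars meet in one line.
-/

set_option autoImplicit false
set_option maxRecDepth 100000

open Cfsg.Agent.Spor.Cos.J4Sub (app mm app_mm app_xor app_zero)

namespace Cfsg.Agent.Spor.JFour.Penta

/-- The product of two vectors. -/
def w5 (a b : ℕ) : ℕ := app (wM.getD a []) b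

/-- The multiples of a vector. -/
def starM (a : ℕ) : ℕ := stM.getD a 0

theorem w5_check : ((List.range 32).all fun a => (List.range 32).all fun b =>
    decide (w5 a b < 1024) && (w5 a b == w5 b a) && (starM a).testBit (w5 a b) &&
    ((a == 0) || (b == 0) || (a == b) || (oMask.testBit (w5 a b) && (w5 a b != 0)))) = true ∧
    ((List.range 32).all fun a => w5 a a == 0) = true ∧
    ((List.range 32).all fun a => (a == 0) ||
      (((Finset.range 1024).filter fun v => (starM a).testBit v = true).card == 16)) = true := by decide +kernel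

theorem meet_check : ((List.range 32).all fun p => (List.range 32).all fun q => (p == 0) || (q == 0) || (p == q) ||
    ((starM p &&& starM q == 1 ||| 2 ^ w5 p q) &&
      ((List.range 32).all fun r => (r == 0) || (r == p) || (r == q) || (r == p ^^^ q) ||
        !((starM r).testBit (w5 p q))))) = true := by decide +kernel

theorem cols_check : ((List.range 10).all fun t => (wCols.getD t 0 == w5 (2 ^ (prs.getD t (0, 0)).1) (2 ^ (prs.getD t (0, 0)).2)) &&
      decide ((prs.getD t (0, 0)).1 < 5) && decide ((prs.getD t (0, 0)).2 < 5) &&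
      decide (wInv.getD t 0 < 1024) && (app wCols (wInv.getD t 0) == 2 ^ t)) = true ∧
    wCols.length = 10 ∧ elMask oL = oMask := by decide +kernel

/-- The check for one line. -/
def lineOK (u v : ℕ) : Bool :=
  let com := (oL.filter fun w => oMask.testBit (w ^^^ u)).filter fun w =>
    oMask.testBit (w ^^^ v) && oMask.testBit (w ^^^ (u ^^^ v))
  (List.range 32).any fun b => (b != 0) && (starM b).testBit u && (starM b).testBit v &&
    decide ((com.filter fun w => !((starM b).testBit w)).length < 12) &&
    (com.filter fun w => !((starM b).testBit w)).all fun c =>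
      (com.filter fun w => (starM b).testBit w).all fun d => !(oMask.testBit (c ^^^ d))

/-- The check for the lines through one point. -/
def lineRow (u : ℕ) : Bool :=
  oL.all fun v => !(oMask.testBit (u ^^^ v) && decide (u < v) && decide (v < u ^^^ v)) || lineOK u v

theorem line_check0 : ((oL.take 20).all lineRow) = true := by decide +kernel

theorem line_check1 : (((oL.drop 20).take 30).all lineRow) = true := by decide +kernel

theorem line_check2 : (((oL.drop 50).take 50).all lineRow) = true := by decide +kernel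

theorem line_check3 : ((oL.drop 100).all lineRow) = true := by decide +kernel

theorem line_check : (oL.all lineRow) = true := by
  have e : oL = oL.take 20 ++ ((oL.drop 20).take 30 ++ ((oL.drop 50).take 50 ++ oL.drop 100)) := by decide +kernel
  rw [e, List.all_append, List.all_append, List.all_append, line_check0, line_check1, line_check2, line_check3]
  rfl

theorem mem_oL {v : ℕ} : v ∈ oL ↔ oMask.testBit v = true := by rw [← cols_check.2.2, testBit_elMask]

theorem zero_notMem_O : oMask.testBit 0 = false := by decide +kernel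

theorem star_bound : ∀ b < 32, starM b < 2 ^ 1024 := by decide +kernel

theorem image_card : ∀ b < 32, b ≠ 0 → ((Finset.range 32).image (w5 b)).card = 16 := by decide +kernel

theorem w5_spec {a b : ℕ} (ha : a < 32) (hb : b < 32) : w5 a b < 1024 ∧ w5 a b = w5 b a ∧
    (starM a).testBit (w5 a b) = true ∧
    (a ≠ 0 → b ≠ 0 → a ≠ b → oMask.testBit (w5 a b) = true ∧ w5 a b ≠ 0) := by
  have h := List.all_eq_true.1 (List.all_eq_true.1 w5_check.1 a (List.mem_range.2 ha)) b (List.mem_range.2 hb)
  simp only [Bool.and_eq_true, decide_eq_true_eq, beq_iff_eq, Bool.or_eq_true, bne_iff_ne] at h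
  exact ⟨h.1.1.1, h.1.1.2, h.1.2, fun x y w => h.2.resolve_left (by simp [x, y, w])⟩

theorem w5_self {a : ℕ} (ha : a < 32) : w5 a a = 0 :=
  beq_iff_eq.1 (List.all_eq_true.1 w5_check.2.1 a (List.mem_range.2 ha))

theorem w5_xor (a b c : ℕ) : w5 a (b ^^^ c) = w5 a b ^^^ w5 a c := app_xor _ _ _

theorem star_lt {b : ℕ} (hb : b < 32) {x : ℕ} (hx : (starM b).testBit x = true) : x < 1024 := by
  by_contra hlt
  rw [Nat.testBit_lt_two_pow (lt_of_lt_of_le (star_bound b hb) (Nat.pow_le_pow_right (by norm_num) (by omega)))] at hx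
  exact Bool.noConfusion hx

/-- The elements of a starM. -/
theorem star_mem {b : ℕ} (hb : b < 32) (hb0 : b ≠ 0) {x : ℕ} (hx : (starM b).testBit x = true) :
    ∃ c < 32, w5 b c = x := by
  have hsub : (Finset.range 32).image (w5 b) ⊆
      (Finset.range 1024).filter fun v => (starM b).testBit v = true := fun v hv => by
    obtain ⟨c, hc, rfl⟩ := Finset.mem_image.1 hv
    have h1 := w5_spec hb (Finset.mem_range.1 hc)
    exact Finset.mem_filter.2 ⟨Finset.mem_range.2 h1.1, h1.2.2.1⟩
  have hs16 := List.all_eq_true.1 w5_check.2.2 b (List.mem_range.2 hb)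
  simp only [Bool.or_eq_true, beq_iff_eq, hb0, false_or] at hs16
  have heq := Finset.eq_of_subset_of_card_le hsub (by rw [image_card b hb hb0, hs16])
  have : x ∈ (Finset.range 32).image (w5 b) :=
    heq ▸ Finset.mem_filter.2 ⟨Finset.mem_range.2 (star_lt hb hx), hx⟩
  obtain ⟨c, hc, e⟩ := Finset.mem_image.1 this
  exact ⟨c, Finset.mem_range.1 hc, e⟩

/-- A four-dimensional subspace inside the conjugates is a starM. -/
theorem star_of_sub {T : Finset ℕ} (hcard : T.card = 16) (hx : ∀ v ∈ T, ∀ w ∈ T, v ^^^ w ∈ T)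
    (hO : ∀ v ∈ T, v = 0 ∨ oMask.testBit v = true) :
    ∃ b, 0 < b ∧ b < 32 ∧ ∀ v ∈ T, (starM b).testBit v = true := by
  classical
  have hne : ∀ {v w}, v ∈ T → w ∈ T → v ≠ w → oMask.testBit (v ^^^ w) = true := by
    intro v w hv hw h
    refine (hO _ (hx v hv w hw)).resolve_left fun e => h ?_
    have := congrArg (· ^^^ w) e
    simpa [Nat.xor_assoc] using this
  have hO' : ∀ {v}, v ∈ T → v ≠ 0 → oMask.testBit v = true := fun hv h => (hO _ hv).resolve_left h
  -- a line in increasing order
  obtain ⟨u, v, hu, hv, hu0, huv, hvw⟩ : ∃ u v, u ∈ T ∧ v ∈ T ∧ u ≠ 0 ∧ u < v ∧ v < u ^^^ v := by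
    have h1 : (T.erase 0).Nonempty := Finset.card_pos.1 (by
      have := Finset.pred_card_le_card_erase (s := T) (a := 0); omega)
    set u := (T.erase 0).min' h1
    have hu := Finset.min'_mem _ h1
    obtain ⟨hu0, huT⟩ := Finset.mem_erase.1 hu
    obtain ⟨w, hw, hw'⟩ := Finset.exists_mem_notMem_of_card_lt_card (s := {0, u}) (t := T) (by
      have : ({0, u} : Finset ℕ).card ≤ 2 := Finset.card_le_two
      omega)
    simp only [Finset.mem_insert, Finset.mem_singleton, not_or] at hw'
    have hx0 : u ^^^ w ≠ 0 := fun e => hw'.2 (by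
      have := congrArg (u ^^^ ·) e
      simpa [← Nat.xor_assoc] using this)
    have hxu : u ^^^ w ≠ u := fun e => hw'.1 (by
      have := congrArg (u ^^^ ·) e
      simpa [← Nat.xor_assoc] using this)
    have huw : u < w := lt_of_le_of_ne (Finset.min'_le _ _ (Finset.mem_erase.2 ⟨hw'.1, hw⟩)) (Ne.symm hw'.2)
    have hux : u < u ^^^ w :=
      lt_of_le_of_ne (Finset.min'_le _ _ (Finset.mem_erase.2 ⟨hx0, hx _ huT _ hw⟩)) (Ne.symm hxu)
    rcases lt_trichotomy w (u ^^^ w) with h | h | h
    · exact ⟨u, w, huT, hw, hu0, huw, h⟩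
    · exact absurd (by have := congrArg (· ^^^ w) h; simpa [Nat.xor_assoc] using this.symm) hu0
    · refine ⟨u, u ^^^ w, huT, hx _ huT _ hw, hu0, hux, ?_⟩
      rwa [← Nat.xor_assoc, Nat.xor_self, Nat.zero_xor]
  have hv0 : v ≠ 0 := by omega
  have h := List.all_eq_true.1 (List.all_eq_true.1 line_check u (mem_oL.2 (hO' hu hu0))) v (mem_oL.2 (hO' hv hv0))
  simp only [hne hu hv huv.ne, huv, hvw, decide_true, Bool.and_self, Bool.not_true, Bool.false_or, lineOK,
    List.any_eq_true, List.mem_range, Bool.and_eq_true, bne_iff_ne, decide_eq_true_eq, List.all_eq_true,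
    List.mem_filter, Bool.not_eq_true'] at h
  obtain ⟨b, hb, ⟨⟨⟨hb0, hbu⟩, hbv⟩, hlen⟩, hout⟩ := h
  refine ⟨b, Nat.pos_of_ne_zero hb0, hb, ?_⟩
  have hb16 : (starM b).testBit 0 = true ∧ (starM b).testBit (u ^^^ v) = true := by
    refine ⟨by have := (w5_spec hb (b := 0) (by norm_num)).2.2.1; rwa [show w5 b 0 = 0 from app_zero _] at this, ?_⟩
    obtain ⟨c, hc, rfl⟩ := star_mem hb hb0 hbu
    obtain ⟨d, hd, rfl⟩ := star_mem hb hb0 hbv
    rw [← w5_xor]
    exact (w5_spec hb (Nat.xor_lt_two_pow (n := 5) hc hd)).2.2.1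
  set com := (oL.filter fun w => oMask.testBit (w ^^^ u)).filter fun w =>
    oMask.testBit (w ^^^ v) && oMask.testBit (w ^^^ (u ^^^ v)) with hcom
  have hTcom : ∀ w ∈ T, (starM b).testBit w = false → w ∈ com := by
    intro w hw hws
    have n0 : w ≠ 0 := fun e => by rw [e, hb16.1] at hws; exact Bool.noConfusion hws
    have n1 : w ≠ u := fun e => by rw [e, hbu] at hws; exact Bool.noConfusion hws
    have n2 : w ≠ v := fun e => by rw [e, hbv] at hws; exact Bool.noConfusion hws
    have n3 : w ≠ u ^^^ v := fun e => by rw [e, hb16.2] at hws; exact Bool.noConfusion hws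
    simp only [hcom, List.mem_filter, Bool.and_eq_true]
    exact ⟨⟨mem_oL.2 (hO' hw n0), hne hw hu n1⟩, hne hw hv n2, hne hw (hx _ hu _ hv) n3⟩
  by_contra hnot
  push Not at hnot
  obtain ⟨c, hc, hcs⟩ := hnot
  simp only [ne_eq, Bool.not_eq_true] at hcs
  have hsub : T ⊆ {0, u, v, u ^^^ v} ∪ (com.filter fun w => !((starM b).testBit w)).toFinset := by
    intro w hw
    by_cases hws : (starM b).testBit w = true
    · by_contra hwn
      simp only [Finset.mem_union, Finset.mem_insert, Finset.mem_singleton, not_or] at hwn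
      obtain ⟨⟨n0, n1, n2, n3⟩, -⟩ := hwn
      have hwc : w ∈ com := by
        simp only [hcom, List.mem_filter, Bool.and_eq_true]
        exact ⟨⟨mem_oL.2 (hO' hw n0), hne hw hu n1⟩, hne hw hv n2, hne hw (hx _ hu _ hv) n3⟩
      have hcom' := hTcom c hc hcs
      simp only [hcom, List.mem_filter, Bool.and_eq_true] at hcom' hwc
      have hf := hout c ⟨hcom', hcs⟩ w ⟨hwc, hws⟩
      have hcw : c ≠ w := fun e => by rw [e, hws] at hcs; exact Bool.noConfusion hcs
      rw [hne hc hw hcw] at hf
      exact Bool.noConfusion hf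
    · simp only [Bool.not_eq_true] at hws
      exact Finset.mem_union_right _ (List.mem_toFinset.2 (List.mem_filter.2 ⟨hTcom w hw hws, by rw [hws]; rfl⟩))
  have h1 := Finset.card_le_card hsub
  have h2 := Finset.card_union_le {0, u, v, u ^^^ v} (com.filter fun w => !((starM b).testBit w)).toFinset
  have h3 : ({0, u, v, u ^^^ v} : Finset ℕ).card ≤ 4 := by
    refine le_trans (Finset.card_insert_le _ _) ?_
    refine Nat.succ_le_succ (le_trans (Finset.card_insert_le _ _) (Nat.succ_le_succ Finset.card_le_two))
  have h4 := List.toFinset_card_le (com.filter fun w => !((starM b).testBit w))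
  omega

end Cfsg.Agent.Spor.JFour.Penta
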