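import Cfsg.Agent.Lib.Spor.JFourType.Penta.Act
import Cfsg.Agent.Lib.Spor.JFourType.NormA

/-!
The singular space has 330 images under the centraliser of the involution, so the normaliser of the elementary
abelian group in that centraliser has order 2²⁰·63.
-/

set_option autoImplicit false
set_option maxRecDepth 100000
set_option linter.style.haveILetI false

open Cfsg Cfsg.Agent.Spor.Golay
open Cfsg.Agent.Spor.Cos.J4Sub (app mm app_mm app_xor app_zero)

namespace Cfsg.Agent.Spor.JFour

namespace Penta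

/-- The matrices of the eleven letters. -/
def m11l : ℕ → List ℕ
  | 9 => mO
  | 10 => mT
  | n => asg mS mW mQ n

/-- A basis in the orbit. -/
def orbB (j : ℕ) : List ℕ := (wOrb.getD (j / 20) []).getD (j % 20) []

/-- The packed leading bits. -/
def orbP (j : ℕ) : ℕ := (wOrbPiv.getD (j / 20) []).getD (j % 20) 0

/-- The coordinates of a vector in a member of the orbit. -/
def orbC (j v : ℕ) : ℕ :=
  let p := orbP j
  [p % 16, p / 16 % 16, p / 256 % 16, p / 4096 % 16, p / 65536 % 16, p / 1048576].foldr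
    (fun c acc => bn (v.testBit c) + 2 * acc) 0

/-- The image of a member of the orbit under a letter. -/
def orbN (j l : ℕ) : ℕ := (wOrbNext.getD (j / 20) []).getD (j % 20) 0 / 2 ^ (9 * l) % 512

/-- One member of the orbit. -/
def span (j : ℕ) : Finset ℕ := (Finset.range 64).image (app (orbB j))

theorem base_check : ((List.range 6).all fun i => app (orbB 0) (orbC 0 (wc (2 ^ i))) == wc (2 ^ i)) = true ∧
    wOrbPar.length = 330 ∧ wOrbKey.length = 330 := by decide +kernel

/-- The check for one letter. -/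
def nextOK (l : ℕ) : Bool := (List.range 330).all fun j =>
    decide (orbN j l < 330) && let j' := orbN j l
      let R := orbB j'
      (orbB j).all fun b =>
        let v := app (m11l l) b
        app R (orbC j' v) == v

theorem next_check0 : ([0, 1, 2, 3].all nextOK) = true := by decide +kernel

theorem next_check1 : ([4, 5, 6, 7].all nextOK) = true := by decide +kernel

theorem next_check2 : ([8, 9, 10].all nextOK) = true := by decide +kernel

theorem next_check {l : ℕ} (hl : l < 11) : nextOK l = true := by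
  rcases Nat.lt_or_ge l 4 with h | h
  · exact List.all_eq_true.1 next_check0 l (by interval_cases l <;> simp)
  rcases Nat.lt_or_ge l 8 with h' | h'
  · exact List.all_eq_true.1 next_check1 l (by interval_cases l <;> simp)
  · exact List.all_eq_true.1 next_check2 l (by interval_cases l <;> simp)

theorem par_check : ((List.range 330).all fun j => (j == 0) ||
    let p := wOrbPar.getD j 0
    decide (p / 16 < j) && decide (p % 16 < 11) && (orbN (p / 16) (p % 16) == j)) = true := by decide +kernel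

theorem key_check : ((List.range 330).all fun j => (orbB j).length == 6 &&
    (((List.range 64).map fun k => app (orbB j) k ^ 7).sum == wOrbKey.getD j 0)) = true := by decide +kernel

theorem key_nodup : wOrbKey.Nodup := by decide +kernel

theorem orbC_lt (j v : ℕ) : orbC j v < 64 := by
  have hb : ∀ b, bn b < 2 := fun b => by unfold bn; split_ifs <;> norm_num
  have key : ∀ (L : List ℕ), L.foldr (fun c acc => bn (v.testBit c) + 2 * acc) 0 < 2 ^ L.length := fun L => by
    induction L with
    | nil => simp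
    | cons c L ih =>
      rw [List.foldr_cons, List.length_cons, pow_succ]
      have := hb (v.testBit c)
      omega
  exact key _

end Penta

namespace Pen

variable {G : Type*} [Group G] {z : G} {P : Subgroup G} {S : Setting z P} (B : Pen S) [Finite G]
open Penta

/-- The image of the singular space under a matrix. -/
def wImg (M : List ℕ) : Finset ℕ := (Finset.range 64).image fun n => app M (wc n)

/-- An element carries the space to a member of the orbit. -/
def To (g : G) (j : ℕ) : Prop := ∃ M, B.F.toCoord.Rep g M ∧ wImg M = span j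

/-- An element respects the orbit. -/
def Resp (g : G) : Prop :=
  g * z = z * g ∧ ∀ k, ∀ j < 330, B.To k j → ∃ j' < 330, B.To (g * k) j'

theorem wImg_card {g : G} {M : List ℕ} (hM : B.F.toCoord.Rep g M) : (wImg M).card = 64 := by
  rw [wImg, Finset.card_image_of_injOn (fun a ha b hb e => ?_), Finset.card_range]
  have ha' : a < 64 := Finset.mem_range.1 ha
  have hb' : b < 64 := Finset.mem_range.1 hb
  have e2 : S.act g (B.F.Φ (wc a)) = S.act g (B.F.Φ (wc b)) := by
    rw [hM.eq _ (wc_spec ha').1, hM.eq _ (wc_spec hb').1]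
    exact congrArg B.F.Φ e
  have e3 := congrArg (S.act g⁻¹) e2
  rw [← Module.End.mul_apply, ← Module.End.mul_apply, S.act_inv_mul hM.hz, Module.End.one_apply,
    Module.End.one_apply] at e3
  have e4 := congrArg cw (B.F.inj _ (wc_spec ha').1 _ (wc_spec hb').1 e3)
  rwa [(wc_spec ha').2.1, (wc_spec hb').2.1] at e4

theorem To.eq {g : G} {j : ℕ} (h : B.To g j) {M : List ℕ} (hM : B.F.toCoord.Rep g M) : wImg M = span j := by
  obtain ⟨N, hN, e⟩ := h
  rwa [B.F.toCoord.rep_unique hM hN]

theorem to_one : B.To 1 0 := by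
  refine ⟨mI, B.F.toCoord.rep_one, Finset.eq_of_subset_of_card_le (fun v hv => ?_) ?_⟩
  · obtain ⟨n, hn, rfl⟩ := Finset.mem_image.1 hv
    rw [app_mI (wc_spec (Finset.mem_range.1 hn)).1]
    have hn' := Finset.mem_range.1 hn
    revert hn'
    clear hv hn
    suffices h : ∀ n < 2 ^ 6, wc n ∈ span 0 from fun hn' => h n hn'
    refine xor_induction (p := fun n => wc n ∈ span 0) ?_ 6 fun i hi m _ ih => ?_
    · exact Finset.mem_image.2 ⟨0, by simp, by rw [app_zero]; rfl⟩
    · obtain ⟨k, hk, ek⟩ := Finset.mem_image.1 ih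
      have hb := beq_iff_eq.1 (List.all_eq_true.1 base_check.1 i (List.mem_range.2 hi))
      exact Finset.mem_image.2 ⟨orbC 0 (wc (2 ^ i)) ^^^ k, Finset.mem_range.2 (Nat.xor_lt_two_pow (n := 6)
        (orbC_lt _ _) (Finset.mem_range.1 hk)), by rw [app_xor, hb, ek, wc_xor]⟩
  · rw [B.wImg_card B.F.toCoord.rep_one]
    exact le_trans Finset.card_image_le (by rw [Finset.card_range])

/-- The eleven letters. -/
noncomputable def l11 (l : ℕ) : G := if l = 9 then B.F.o else if l = 10 then B.F.R.t else B.F.lt9 l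

theorem l11_spec {l : ℕ} (hl : l < 11) : B.F.toCoord.Rep (B.l11 l) (m11l l) := by
  by_cases h9 : l = 9
  · subst h9; exact B.F.ro
  by_cases h10 : l = 10
  · subst h10; exact B.F.toCoord.rep_t
  have hl9 : l < 9 := by omega
  obtain ⟨-, -, h⟩ := B.F.lw_spec (w := [l]) (by simpa using hl9)
  rw [l11, if_neg h9, if_neg h10]
  have e : B.F.lw [l] = B.F.lt9 l := by simp [Full.lw]
  have e2 : evM (asg mS mW mQ) [l] = m11l l := by interval_cases l <;> decide +kernel
  rwa [e, e2] at h

/-- A letter carries a member of the orbit to the tabled one. -/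
theorem to_step {k : G} {j l : ℕ} (hj : j < 330) (hl : l < 11) (hk : B.To k j) :
    orbN j l < 330 ∧ B.To (B.l11 l * k) (orbN j l) := by
  obtain ⟨M, hM, e⟩ := hk
  have hr := B.l11_spec hl
  have hc := List.all_eq_true.1 (next_check hl) j (List.mem_range.2 hj)
  simp only [Bool.and_eq_true, decide_eq_true_eq, List.all_eq_true, beq_iff_eq] at hc
  obtain ⟨hlt, hcol⟩ := hc
  have hlen : (orbB j).length = 6 := by
    have := List.all_eq_true.1 key_check j (List.mem_range.2 hj)
    simp only [Bool.and_eq_true, beq_iff_eq] at this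
    exact this.1
  have hmem : ∀ m < 2 ^ 6, app (m11l l) (app (orbB j) m) ∈ span (orbN j l) := by
    refine xor_induction (p := fun m => app (m11l l) (app (orbB j) m) ∈ span (orbN j l)) ?_ 6 fun i hi m _ ih => ?_
    · exact Finset.mem_image.2 ⟨0, by simp, by rw [app_zero, app_zero, app_zero]⟩
    · obtain ⟨c, hc', ec⟩ := Finset.mem_image.1 ih
      have hb : app (orbB j) (2 ^ i) ∈ orbB j := by
        rw [app_two_pow (by omega), List.getD_eq_getElem _ _ (by omega)]
        exact List.getElem_mem _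
      have h2 := hcol _ hb
      have h1 := orbC_lt (orbN j l) (app (m11l l) (app (orbB j) (2 ^ i)))
      exact Finset.mem_image.2 ⟨orbC (orbN j l) (app (m11l l) (app (orbB j) (2 ^ i))) ^^^ c, Finset.mem_range.2
        (Nat.xor_lt_two_pow (n := 6) h1 (Finset.mem_range.1 hc')), by rw [app_xor, h2, ec, app_xor, app_xor]⟩
  refine ⟨hlt, mm (m11l l) M, B.F.toCoord.rep_mul hr hM, Finset.eq_of_subset_of_card_le (fun v hv => ?_) ?_⟩
  · obtain ⟨n, hn, rfl⟩ := Finset.mem_image.1 hv
    rw [app_mm]
    have : app M (wc n) ∈ span j := e ▸ Finset.mem_image.2 ⟨n, hn, rfl⟩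
    obtain ⟨m, hm, em⟩ := Finset.mem_image.1 this
    rw [← em]
    exact hmem m (Finset.mem_range.1 hm)
  · rw [B.wImg_card (B.F.toCoord.rep_mul hr hM)]
    exact le_trans Finset.card_image_le (by rw [Finset.card_range])

theorem to_core {k m : G} {j : ℕ} (hm : m ∈ twoCoreOfCentralizer z) (hk : B.To k j) : B.To (m * k) j := by
  obtain ⟨M, hM, e⟩ := hk
  refine ⟨mm mI M, B.F.toCoord.rep_mul (B.F.toCoord.rep_E hm) hM, ?_⟩
  rw [← e]
  refine Finset.image_congr fun n _ => ?_
  show app (mm mI M) (wc n) = app M (wc n)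
  rw [app_mm, app_mI (app_lt_of_ok hM.ok _)]

/-- The elements respecting the orbit. -/
def respGroup : Subgroup G where
  carrier := {g | g * z = z * g ∧ ∀ n : ℕ, B.Resp (g ^ n)}
  one_mem' := ⟨by rw [one_mul, mul_one], fun n => by
    rw [one_pow]; exact ⟨by rw [one_mul, mul_one], fun k j hj h => ⟨j, hj, by rwa [one_mul]⟩⟩⟩
  mul_mem' := by
    rintro a b ⟨ha, ha'⟩ ⟨hb, hb'⟩
    refine ⟨((show Commute a z from ha).mul_left hb).eq, fun n => ?_⟩
    induction n with
    | zero => rw [pow_zero]; exact ⟨by rw [one_mul, mul_one], fun k j hj h => ⟨j, hj, by rwa [one_mul]⟩⟩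
    | succ n ih =>
      refine ⟨(((show Commute a z from ha).mul_left hb).pow_left _).eq, fun k j hj h => ?_⟩
      obtain ⟨j1, hj1, h1⟩ := (hb' 1).2 k j hj h
      obtain ⟨j2, hj2, h2⟩ := (ha' 1).2 _ j1 hj1 h1
      obtain ⟨j3, hj3, h3⟩ := ih.2 _ j2 hj2 h2
      exact ⟨j3, hj3, by rwa [pow_one, pow_one, ← mul_assoc, ← mul_assoc, mul_assoc _ a b, ← pow_succ] at h3⟩
  inv_mem' := by
    rintro a ⟨ha, ha'⟩
    refine ⟨conj_inv_comm ha, fun n => ?_⟩
    have : a⁻¹ ^ n = a ^ ((orderOf a - 1) * n) := by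
      rw [pow_mul]
      congr 1
      refine inv_eq_of_mul_eq_one_right ?_
      rw [← pow_succ', Nat.sub_add_cancel (orderOf_pos a), pow_orderOf_eq_one]
    rw [this]
    exact ha' _

theorem mem_respGroup {g : G} (hz : g * z = z * g) (h : ∀ k, ∀ j < 330, B.To k j → ∃ j' < 330, B.To (g * k) j') :
    g ∈ B.respGroup := ⟨hz, fun n => by
  induction n with
  | zero => rw [pow_zero]; exact ⟨by rw [one_mul, mul_one], fun k j hj h => ⟨j, hj, by rwa [one_mul]⟩⟩
  | succ n ih =>
    refine ⟨((show Commute g z from hz).pow_left _).eq, fun k j hj hk => ?_⟩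
    obtain ⟨j1, hj1, h1⟩ := h k j hj hk
    obtain ⟨j2, hj2, h2⟩ := ih.2 _ j1 hj1 h1
    exact ⟨j2, hj2, by rwa [← mul_assoc, ← pow_succ] at h2⟩⟩

theorem o_not_inner' : B.F.o ∉ innerH z P := fun hin => by
  have := S.act_inner hin
  have e : B.F.o * S.p = S.p * S.p * B.F.o := by rw [← B.F.o_p, inv_mul_cancel_right]
  rw [← S.act_mul _ _ B.F.o_norm.hz S.pz, e, S.act_mul _ _ S.pp_z B.F.o_norm.hz, S.act_mul _ _ S.pz S.pz,
    mul_assoc] at this
  have h2 := congrArg (fun x => x * S.act B.F.o⁻¹) this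
  simp only [mul_assoc, S.act_mul_inv B.F.o_norm.hz, mul_one] at h2
  have h3 := congrArg (fun x => S.act S.p⁻¹ * x) h2
  simp only [← mul_assoc, S.act_inv_mul S.pz, one_mul] at h3
  exact S.act_p_ne h3

theorem H_le_respGroup : Subgroup.centralizer ({z} : Set G) ≤ B.respGroup := by
  classical
  have hlet : ∀ l < 11, B.l11 l ∈ B.respGroup := fun l hl =>
    B.mem_respGroup (B.l11_spec hl).hz fun k j hj hk => ⟨_, B.to_step hj hl hk⟩
  have hE : twoCoreOfCentralizer z ≤ B.respGroup := fun m hm =>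
    B.mem_respGroup (S.ext.central m hm) fun k j hj hk => ⟨j, hj, B.to_core hm hk⟩
  set K := B.respGroup ⊓ CP z P with hK
  let L : Subgroup (Equiv.Perm GolayPt) :=
    { carrier := {σ | ∃ c ∈ K, S.ψ c = σ}
      one_mem' := ⟨1, one_mem K, S.ψ_one⟩
      mul_mem' := by
        rintro _ _ ⟨c, hc, rfl⟩ ⟨d, hd, rfl⟩
        exact ⟨c * d, mul_mem hc hd, S.ψ_mul _ hc.2 _ hd.2⟩
      inv_mem' := by
        rintro _ ⟨c, hc, rfl⟩
        exact ⟨c⁻¹, inv_mem hc, S.ψ_inv hc.2⟩ }
  have hgen : Subgroup.closure {h | ∃ k < 9, permOf (pk k) = h} ≤ L := by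
    rw [Subgroup.closure_le]
    rintro _ ⟨k, hk, rfl⟩
    obtain ⟨h1, h2, -⟩ := B.F.lw_spec (w := [k]) (by simpa using hk)
    have e : B.F.lw [k] = B.l11 k := by
      rw [l11, if_neg (by omega), if_neg (by omega)]; simp [Full.lw]
    rw [e] at h1 h2
    exact ⟨B.l11 k, ⟨hlet k (by omega), h1⟩, by rw [h2, wordπ_single]⟩
  have hp : S.p ∈ B.respGroup := by
    have ht : B.F.R.t ∈ B.respGroup := hlet 10 (by norm_num)
    rcases B.F.R.t_p with e | e
    · rwa [e] at ht
    · have e' : S.p = B.F.R.t * B.F.R.t := by rw [e, S.p_four]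
      rw [e']; exact mul_mem ht ht
  have hCP : CP z P ≤ B.respGroup := fun c hc => by
    obtain ⟨d, hd, e⟩ := hgen (exists_word (S.ψ_mem c hc))
    obtain ⟨i, j, hij⟩ := S.ψ_ker _ (mul_mem hc (inv_mem hd.2))
      (by rw [S.ψ_mul _ hc _ (inv_mem hd.2), S.ψ_inv hd.2, e, mul_inv_cancel])
    rw [mul_inv_eq_iff_eq_mul] at hij
    rw [hij]
    exact mul_mem (mul_mem (pow_mem (hE S.ext.mem) _) (pow_mem hp _)) hd.1
  have hle : innerH z P ≤ B.respGroup := sup_le hCP hE
  set K' := B.respGroup ⊓ Subgroup.centralizer ({z} : Set G) with hK'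
  suffices h : K' = Subgroup.centralizer ({z} : Set G) from h ▸ inf_le_left
  refine Subgroup.eq_of_le_of_card_ge inf_le_right ?_
  have hin : innerH z P ≤ K' := le_inf hle S.inner_le
  have h1 := Subgroup.card_dvd_of_le hin
  have h2 := Subgroup.card_dvd_of_le (inf_le_right : K' ≤ Subgroup.centralizer ({z} : Set G))
  rw [S.card_inner] at h1
  rw [S.card_H] at h2 ⊢
  obtain ⟨a, ha⟩ := h1
  obtain ⟨b, hb⟩ := h2
  have hne : Nat.card ↥K' ≠ 2 ^ 12 * (6 * 443520) := fun e => by
    have := Subgroup.eq_of_le_of_card_ge hin (by rw [e, S.card_inner])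
    refine B.o_not_inner' (this ▸ Subgroup.mem_inf.2 ⟨hlet 9 (by norm_num), ?_⟩)
    exact Subgroup.mem_centralizer_singleton_iff.2 B.F.o_norm.hz
  rw [ha] at hb hne
  have hab : a * b = 2 := by
    have : 2 ^ 12 * (6 * 443520) * (a * b) = 2 ^ 12 * (6 * 443520) * 2 := by rw [← mul_assoc, ← hb]; norm_num
    exact Nat.eq_of_mul_eq_mul_left (by norm_num) this
  have : a = 2 := by
    have : a ∣ 2 := ⟨b, hab.symm⟩
    rcases (Nat.dvd_prime Nat.prime_two).1 this with h | h
    · exact absurd (by rw [h, mul_one]) hne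
    · exact h
  rw [ha, this]
  norm_num

theorem exists_to {g : G} (hg : g * z = z * g) : ∃ j < 330, B.To g j := by
  obtain ⟨-, h⟩ := B.H_le_respGroup (Subgroup.mem_centralizer_singleton_iff.2 hg)
  obtain ⟨j, hj, h'⟩ := (h 1).2 1 0 (by norm_num) B.to_one
  exact ⟨j, hj, by rwa [pow_one, mul_one] at h'⟩

theorem exists_rep_to : ∀ j < 330, ∃ g, g * z = z * g ∧ B.To g j := fun j => by
  induction j using Nat.strong_induction_on with
  | _ j ih =>
    intro hj
    by_cases h0 : j = 0
    · exact ⟨1, by rw [one_mul, mul_one], h0 ▸ B.to_one⟩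
    have hc := List.all_eq_true.1 par_check j (List.mem_range.2 hj)
    simp only [Bool.or_eq_true, beq_iff_eq, h0, false_or, Bool.and_eq_true, decide_eq_true_eq] at hc
    obtain ⟨⟨h1, h2⟩, h3⟩ := hc
    obtain ⟨k, hk, hk'⟩ := ih _ h1 (by omega)
    refine ⟨B.l11 (wOrbPar.getD j 0 % 16) * k, ((show Commute _ z from (B.l11_spec h2).hz).mul_left hk).eq, ?_⟩
    have := (B.to_step (by omega) h2 hk').2
    rwa [h3] at this

theorem span_inj {i j : ℕ} (hi : i < 330) (hj : j < 330) {g : G} (hgi : B.To g i) (hgj : span i = span j) :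
    i = j := by
  have hsum : ∀ {t}, t < 330 → (span t).card = 64 → wOrbKey.getD t 0 = ∑ v ∈ span t, v ^ 7 := by
    intro t ht hcard
    have h := List.all_eq_true.1 key_check t (List.mem_range.2 ht)
    simp only [Bool.and_eq_true, beq_iff_eq] at h
    rw [← h.2, span, Finset.sum_image (Finset.card_image_iff.1 (by rw [Finset.card_range]; exact hcard)),
      ← List.sum_toFinset _ List.nodup_range, List.toFinset_range]
  obtain ⟨M, hM, e⟩ := hgi
  have hci : (span i).card = 64 := by rw [← e]; exact B.wImg_card hM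
  have h1 := hsum hi hci
  have h2 := hsum hj (hgj ▸ hci)
  rw [← hgj, ← h1] at h2
  have li : i < wOrbKey.length := by rw [base_check.2.2]; exact hi
  have lj : j < wOrbKey.length := by rw [base_check.2.2]; exact hj
  rw [List.getD_eq_getElem _ _ li, List.getD_eq_getElem _ _ lj] at h2
  exact ((List.Nodup.getElem_inj_iff key_nodup).1 h2).symm

/-- Elements of the normaliser in the centraliser stabilise the singular space. -/
theorem wImg_of_normalizer {n : G} (hn : n ∈ Subgroup.normalizer (B.A0 : Set G)) (hnz : n * z = z * n) {M : List ℕ}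
    (hM : B.F.toCoord.Rep n M) : wImg M = wImg mI := by
  refine Finset.eq_of_subset_of_card_le (fun v hv => ?_) (by rw [B.wImg_card hM, B.wImg_card B.F.toCoord.rep_one])
  obtain ⟨j, hj, rfl⟩ := Finset.mem_image.1 hv
  have hj' := Finset.mem_range.1 hj
  obtain ⟨hE, hr⟩ := B.lW_spec hj'
  obtain ⟨e, m, hm, hx⟩ := B.A0_core ((Subgroup.mem_normalizer_iff.1 hn _).1 (B.lW_mem hj')) (S.ext.norm n hnz _ hE)
  have := congrArg S.rep hx
  rw [← S.act_rep n hnz _ hE, hr, hM.eq _ (wc_spec hj').1, S.rep_mul _ (S.zp_mem_E e) _ (B.lW_spec hm).1,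
    (S.rep_zero _ (S.zp_mem_E e)).2 (by cases e <;> simp [zp]), zero_add, (B.lW_spec hm).2] at this
  refine Finset.mem_image.2 ⟨m, Finset.mem_range.2 hm, ?_⟩
  rw [app_mI (wc_spec hm).1]
  exact (B.F.inj _ (app_lt_of_ok hM.ok _) _ (wc_spec hm).1 this).symm

/-- The order of the normaliser in the centraliser. -/
theorem card_normalizer_H :
    Nat.card ↥(Subgroup.normalizer (B.A0 : Set G) ⊓ Subgroup.centralizer ({z} : Set G)) = 2 ^ 20 * 63 := by
  classical
  set H := Subgroup.centralizer ({z} : Set G) with hH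
  set N := Subgroup.normalizer (B.A0 : Set G) with hN
  have hz : ∀ h : ↥H, (h : G) * z = z * (h : G) := fun h => Subgroup.mem_centralizer_singleton_iff.1 h.2
  -- equal images are equal cosets
  have key : ∀ {g h : G}, g * z = z * g → h * z = z * h → ∀ {i j}, i < 330 → j < 330 → B.To g i → B.To h j →
      (i = j ↔ g⁻¹ * h ∈ N) := by
    intro g h hg hh i j hi hj ⟨M, hM, eM⟩ ⟨M', hM', eM'⟩
    have hgh : g⁻¹ * h * z = z * (g⁻¹ * h) :=
      ((show Commute g z from hg).inv_left.mul_left (show Commute h z from hh)).eq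
    obtain ⟨K, hK⟩ := B.F.toCoord.exists_rep hgh
    have hMK : M' = mm M K := B.F.toCoord.rep_unique hM' (by simpa using B.F.toCoord.rep_mul hM hK)
    constructor
    · intro hij
      refine B.mem_normalizer_of_keeps hgh fun t ht => ?_
      have hp : (2 : ℕ) ^ t < 64 := Nat.pow_lt_pow_right (by norm_num) ht
      have hmem : app M' (wc (2 ^ t)) ∈ wImg M := by
        rw [eM, hij, ← eM']
        exact Finset.mem_image.2 ⟨2 ^ t, Finset.mem_range.2 hp, rfl⟩
      obtain ⟨n, hn, en⟩ := Finset.mem_image.1 hmem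
      have hn' := Finset.mem_range.1 hn
      refine ⟨wc n, inW_iff.2 (by rw [(wc_spec hn').2.1]), ?_⟩
      have e1 : S.act g (S.act (g⁻¹ * h) (B.F.Φ (wc (2 ^ t)))) = S.act g (B.F.Φ (wc n)) := by
        rw [← Module.End.mul_apply, ← S.act_mul _ _ hg hgh, mul_inv_cancel_left, hM'.eq _ (wc_spec hp).1,
          hM.eq _ (wc_spec hn').1, en]
      have e2 := congrArg (S.act g⁻¹) e1
      have inv : ∀ x, S.act g⁻¹ (S.act g x) = x := fun x => by
        rw [← Module.End.mul_apply, S.act_inv_mul hg, Module.End.one_apply]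
      rwa [inv, inv] at e2
    · intro hmem
      refine B.span_inj hi hj ⟨M, hM, eM⟩ ?_
      rw [← eM, ← eM', hMK]
      have hK' := B.wImg_of_normalizer hmem hgh hK
      ext v
      constructor
      · intro hv
        obtain ⟨n, hn, rfl⟩ := Finset.mem_image.1 hv
        have : wc n ∈ wImg K := by
          rw [hK']
          exact Finset.mem_image.2 ⟨n, hn, app_mI (wc_spec (Finset.mem_range.1 hn)).1⟩
        obtain ⟨m, hm, em⟩ := Finset.mem_image.1 this
        exact Finset.mem_image.2 ⟨m, hm, by rw [app_mm, em]⟩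
      · intro hv
        obtain ⟨m, hm, rfl⟩ := Finset.mem_image.1 hv
        have : app K (wc m) ∈ wImg mI := hK' ▸ Finset.mem_image.2 ⟨m, hm, rfl⟩
        obtain ⟨n, hn, en⟩ := Finset.mem_image.1 this
        rw [app_mI (wc_spec (Finset.mem_range.1 hn)).1] at en
        exact Finset.mem_image.2 ⟨n, hn, by rw [app_mm, en]⟩
  choose f hf hf' using fun h : ↥H => B.exists_to (hz h)
  have hidx : (N.subgroupOf H).index = 330 := by
    rw [Subgroup.index, ← Nat.card_fin 330]
    refine Nat.card_eq_of_bijective (fun q : ↥H ⧸ N.subgroupOf H => (⟨f q.out, hf _⟩ : Fin 330)) ⟨?_, ?_⟩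
    · intro p q e
      rw [← QuotientGroup.out_eq' p, ← QuotientGroup.out_eq' q, QuotientGroup.eq, Subgroup.mem_subgroupOf]
      exact (key (hz _) (hz _) (hf _) (hf _) (hf' _) (hf' _)).1 (congrArg Fin.val e)
    · rintro ⟨j, hj⟩
      obtain ⟨g, hg, hgj⟩ := B.exists_rep_to j hj
      set x : ↥H := ⟨g, Subgroup.mem_centralizer_singleton_iff.2 hg⟩
      refine ⟨QuotientGroup.mk x, Fin.ext ?_⟩
      refine (key (hz _) hg (hf _) hj (hf' _) hgj).2 ?_
      have := QuotientGroup.eq.1 (QuotientGroup.out_eq' (QuotientGroup.mk (s := N.subgroupOf H) x))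
      exact this
  have h2 := Subgroup.relIndex_mul_relIndex ⊥ (N ⊓ H) H bot_le inf_le_right
  rw [Subgroup.relIndex_bot_left, Subgroup.relIndex_bot_left, Subgroup.inf_relIndex_right, Subgroup.relIndex, hidx,
    S.card_H] at h2
  omega

end Pen

end Cfsg.Agent.Spor.JFour
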