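import Cfsg.Agent.Lib.Spor.JFourType.Penta.Orbits

/-!
From the standard group to all self-centralising elementary abelian subgroups of order 2¹⁰.
-/

set_option autoImplicit false
set_option linter.style.haveILetI false

open Cfsg

namespace Cfsg.Agent.Spor.JFour

variable {G : Type*} [Group G]

theorem exists_pen_of [Finite G] [IsSimpleGroup G] (hG : ¬ IsMulCommutative G) (hJ : Cfsg.IsOfJankoFourType G) :
    ∃ (z : G) (P : Subgroup G) (S : Setting z P), Nonempty (Pen S) := by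
  obtain ⟨z, P, h⟩ := hJ
  obtain ⟨S⟩ := exists_setting h
  obtain ⟨Fr⟩ := exists_frameA S
  exact ⟨z, P, S, Fr.exists_pen hG⟩

theorem SelfTen.of {A : Subgroup G} (hA : IsElementaryAbelian 2 A) (hcard : Nat.card ↥A = 2 ^ 10)
    (hself : Subgroup.centralizer (A : Set G) = A) : SelfTen A :=
  ⟨fun a ha b hb => congrArg Subtype.val (hA.1.is_comm.comm ⟨a, ha⟩ ⟨b, hb⟩),
    fun a ha => by rw [← pow_two]; exact hA.2 a ha, hcard, hself.le⟩

theorem mem_normalizer_map {A : Subgroup G} {g n : G} (hn : n ∈ Subgroup.normalizer (A : Set G)) :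
    g * n * g⁻¹ ∈ Subgroup.normalizer (A.map (MulAut.conj g).toMonoidHom : Set G) := by
  rw [← MulAut.conj_apply]
  refine Subgroup.mem_normalizer_iff.2 fun x => ⟨?_, fun hx => ?_⟩
  · rintro ⟨a, ha, rfl⟩
    exact ⟨n * a * n⁻¹, (Subgroup.mem_normalizer_iff.1 hn a).1 ha, by simp [mul_assoc]⟩
  · obtain ⟨a, ha, e⟩ := hx
    refine ⟨n⁻¹ * a * n, (Subgroup.mem_normalizer_iff''.1 hn a).1 ha, ?_⟩
    simp only [MulEquiv.coe_toMonoidHom, MulAut.conj_apply] at e ⊢
    calc g * (n⁻¹ * a * n) * g⁻¹ = (g * n * g⁻¹)⁻¹ * (g * a * g⁻¹) * (g * n * g⁻¹) := by group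
      _ = x := by rw [e]; group

theorem map_conj_inv {A A' : Subgroup G} {g : G} (h : A.map (MulAut.conj g).toMonoidHom = A') :
    A'.map (MulAut.conj g⁻¹).toMonoidHom = A := by
  rw [← h, map_conj_conj, inv_mul_cancel]
  ext x
  simp

/-- Orbits of normalisers transported by conjugation. -/
theorem orbit_map {A A' : Subgroup G} {g : G} (h : A.map (MulAut.conj g).toMonoidHom = A') (a : G) :
    {v : G | ∃ n ∈ Subgroup.normalizer (A : Set G), n * a * n⁻¹ = v} = (fun x => g⁻¹ * x * g) ''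
      {v : G | ∃ n ∈ Subgroup.normalizer (A' : Set G), n * (g * a * g⁻¹) * n⁻¹ = v} := by
  ext v
  constructor
  · rintro ⟨n, hn, rfl⟩
    exact ⟨_, ⟨g * n * g⁻¹, h ▸ mem_normalizer_map hn, rfl⟩, by group⟩
  · rintro ⟨_, ⟨n, hn, rfl⟩, rfl⟩
    refine ⟨g⁻¹ * n * g, ?_, by group⟩
    have := mem_normalizer_map (g := g⁻¹) hn
    rw [map_conj_inv h, inv_inv] at this
    exact this

theorem ncard_orbit_map {A A' : Subgroup G} {g : G} (h : A.map (MulAut.conj g).toMonoidHom = A') (a : G) :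
    Set.ncard {v : G | ∃ n ∈ Subgroup.normalizer (A : Set G), n * a * n⁻¹ = v} =
      Set.ncard {v : G | ∃ n ∈ Subgroup.normalizer (A' : Set G), n * (g * a * g⁻¹) * n⁻¹ = v} := by
  rw [orbit_map h, Set.ncard_image_of_injective]
  intro x y e
  exact mul_left_cancel (mul_right_cancel e)

end Cfsg.Agent.Spor.JFour
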