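import Cfsg.Agent.Lib.Spor.JFourType.Penta.Group
import Cfsg.Agent.Lib.Spor.JFourType.Penta.Fix
import Cfsg.Agent.Lib.Spor.JFourType.SylowG

/-!
A self-centralising elementary abelian subgroup of order 2¹⁰ is conjugate to the given one; the centraliser of the
singular space in the centraliser of the involution is the given group.
-/

set_option autoImplicit false
set_option maxRecDepth 100000
set_option linter.style.haveILetI false

open Cfsg Cfsg.Agent.Spor.Golay
open scoped Pointwise
open Cfsg.Agent.Spor.Cos.J4Sub (app mm app_mm app_xor app_zero)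

namespace Cfsg.Agent.Spor.JFour

namespace Penta

theorem u_check : ((List.range 8).all fun k => decide (uIdx2.getD k 0 < 256) &&
      (mm (mA 0) (tbEl (uIdx2.getD k 0)) == mm (tbEl (ux k)) (mA 0))) = true ∧
    tbEl 1 = mA 0 ∧ bm 1 16 ≠ bm 16 1 ∧
    ((List.range 16).all fun k => (List.range 12).all fun i =>
      decide (app (akM.getD k []) (2 ^ i) ^^^ 2 ^ i < 64)) = true := by decide +kernel

theorem half_check : ((List.range 64).all fun h => (h == 0) ||
    (((List.range 64).filter fun w => !(bv (64 * h) w)).length == 32)) = true := by decide +kernel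

theorem low_bv {a b : ℕ} (ha : a < 64) (hb : b < 64) : bv a b = false := by
  rw [bv, qv_low _ (Nat.xor_lt_two_pow (n := 6) ha hb), qv_low a ha, qv_low b hb]
  rfl

theorem split_six (v : ℕ) : 64 * (v / 64) ^^^ v % 64 = v := by
  refine Nat.eq_of_testBit_eq fun i => ?_
  rw [Nat.testBit_xor, show (64 : ℕ) = 2 ^ 6 from rfl, Nat.testBit_two_pow_mul, Nat.testBit_mod_two_pow,
    Nat.testBit_div_two_pow]
  by_cases h : i < 6
  · simp [h, Nat.not_le.2 h]
  · simp [h, Nat.le_of_not_lt h, Nat.sub_add_cancel (Nat.le_of_not_lt h)]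

theorem akM_low {k : ℕ} (hk : k < 16) : ∀ v < 4096, app (akM.getD k []) v ^^^ v < 64 := by
  refine xor_induction (p := fun v => app (akM.getD k []) v ^^^ v < 64) (by rw [app_zero]; norm_num) 12
    fun i hi m _ ih => ?_
  have h := List.all_eq_true.1 (List.all_eq_true.1 u_check.2.2.2 k (List.mem_range.2 hk)) i (List.mem_range.2 hi)
  rw [app_xor, Nat.xor_assoc, Nat.xor_left_comm (app (akM.getD k []) m), ← Nat.xor_assoc]
  exact Nat.xor_lt_two_pow (n := 6) (of_decide_eq_true h) ih

end Penta

namespace Pen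

variable {G : Type*} [Group G] {z : G} {P : Subgroup G} {S : Setting z P} (B : Pen S) [Finite G]
open Penta

/-- Hypotheses on a subgroup of the Sylow subgroup. -/
structure Cand (A : Subgroup G) : Prop where
  le : A ≤ B.F.T
  comm : ∀ a ∈ A, ∀ b ∈ A, a * b = b * a
  sq : ∀ a ∈ A, a * a = 1
  card : Nat.card ↥A = 2 ^ 10
  self : Subgroup.centralizer (A : Set G) ≤ A

theorem Cand.elem {A : Subgroup G} (h : B.Cand A) : ElemSet (B.F.img A) :=
  B.F.img_elem (fun g hg => by rw [h.sq g hg]; exact one_mem _)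
    fun g hg k hk => by rw [h.comm g hg k hk, inv_mul_cancel]; exact one_mem _

theorem Cand.z_mem {A : Subgroup G} (h : B.Cand A) : z ∈ A :=
  h.self (Subgroup.mem_centralizer_iff.2 fun a ha => Subgroup.mem_centralizer_singleton_iff.1 (B.F.T_le (h.le ha)))

theorem Cand.not_le_frame {A : Subgroup G} (h : B.Cand A) : ¬ A ≤ B.toFrame.A := fun hle => by
  have h1 : B.toFrame.A ≤ A := fun x hx =>
    h.self (Subgroup.mem_centralizer_iff.2 fun a ha => B.toFrame.A_comm a (hle ha) x hx)
  have h2 := Nat.card_le_card_of_injective _ (Subgroup.inclusion_injective h1)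
  rw [h.card, B.toFrame.card_A] at h2
  norm_num at h2

/-- All vectors of a space of 64 come from the part in the core. -/
theorem full_of_fixed {A : Subgroup G} (h : B.Cand A) (h128 : 2 ^ 7 ≤ Nat.card ↥(A ⊓ twoCoreOfCentralizer z))
    {g : List ℕ} (hg : ∀ a ∈ g, a ∈ B.F.img A) (f : ℕ → ℕ) (hf : ∀ v ∈ fixedBy g, ∃ n < 64, f n = v) :
    ∀ n < 64, ∃ x ∈ A ⊓ twoCoreOfCentralizer z, S.rep x = B.F.Φ (f n) := by
  classical
  set X := A ⊓ twoCoreOfCentralizer z with hX
  set R := Set.range fun w : ↥X => S.rep w with hR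
  set T := (fun n => B.F.Φ (f n)) '' (Finset.range 64 : Set ℕ) with hT
  have hsub : R ⊆ T := by
    rintro _ ⟨w, rfl⟩
    obtain ⟨v, hv, e⟩ := (B.F.card_fixed_le h.comm hg).2 w w.2
    obtain ⟨n, hn, rfl⟩ := hf v hv
    exact ⟨n, Finset.mem_coe.2 (Finset.mem_range.2 hn), e.symm⟩
  have hT64 : T.ncard ≤ 64 := by
    refine le_trans (Set.ncard_image_le (Finset.finite_toSet _)) ?_
    rw [Set.ncard_coe_finset, Finset.card_range]
  have hR64 : 64 ≤ R.ncard := by
    have := S.card_le_two_mul X inf_le_right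
    rw [Nat.card_coe_set_eq] at this
    change _ ≤ 2 * R.ncard at this
    omega
  have heq : R = T := Set.eq_of_subset_of_ncard_le hsub (le_trans hT64 hR64) ((Finset.finite_toSet _).image _)
  intro n hn
  have : B.F.Φ (f n) ∈ R := heq ▸ ⟨n, Finset.mem_coe.2 (Finset.mem_range.2 hn), rfl⟩
  obtain ⟨w, hw⟩ := this
  exact ⟨w, w.2, hw⟩

/-- With the first eight indices it is the given group. -/
theorem eq_of_ux {A : Subgroup G} (h : B.Cand A) (h128 : 2 ^ 7 ≤ Nat.card ↥(A ⊓ twoCoreOfCentralizer z))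
    (himg : ∀ k < 8, ux k ∈ B.F.img A) (hlt : (B.F.img A).card ≤ 8) : A = B.A0 := by
  classical
  have hfix : ∀ n < 64, B.lW n ∈ A := by
    have hf := B.full_of_fixed h h128 (g := [128, 80, 6]) (fun a ha => by
      simp only [List.mem_cons, List.not_mem_nil, or_false] at ha
      rcases ha with rfl | rfl | rfl
      · exact himg 1 (by norm_num)
      · exact himg 2 (by norm_num)
      · exact himg 4 (by norm_num)) wc (fun v hv => ⟨cw v, cw_lt v, inW_iff.1 (uFix v hv)⟩)
    intro n hn
    obtain ⟨x, hx, e⟩ := hf n hn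
    rcases B.F.toCoord.lh_cases hx.2 e with e' | e'
    · show B.F.toCoord.lh (wc n) ∈ A
      rw [← e']; exact hx.1
    · have := A.mul_mem hx.1 h.z_mem
      rw [e', mul_assoc, S.zz, mul_one] at this
      exact this
  have himg' : (Finset.range 8).image ux = B.F.img A := by
    refine Finset.eq_of_subset_of_card_le (fun e he => ?_) ?_
    · obtain ⟨k, hk, rfl⟩ := Finset.mem_image.1 he
      exact himg k (Finset.mem_range.1 hk)
    · rw [Finset.card_image_of_injOn (fun a ha b hb e => ((ux_spec (Finset.mem_range.1 hb)).2.2 a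
        (Finset.mem_range.1 ha)).2 e), Finset.card_range]
      exact hlt
  refine Subgroup.eq_of_le_of_card_ge (fun g hg => ?_) (by rw [h.card, B.card_A0])
  obtain ⟨e, he, hr⟩ := h.le hg
  have hem : e ∈ B.F.img A := B.F.mem_img.2 ⟨he, g, hg, hr⟩
  rw [← himg'] at hem
  obtain ⟨k, hk, rfl⟩ := Finset.mem_image.1 hem
  exact B.mem_A0_of_rep (Finset.mem_range.1 hk) hr fun i hi =>
    h.comm g hg _ (hfix _ (Nat.pow_lt_pow_right (by norm_num) hi))

/-- The involution in the first place of the Sylow group. -/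
theorem a0_T : B.F.a 0 ∈ B.F.T :=
  ⟨1, by norm_num, by rw [u_check.2.1]; exact B.F.toCoord.rep_a (by norm_num)⟩

theorem cand_conj {A : Subgroup G} (h : B.Cand A) :
    B.Cand (A.map (MulAut.conj (B.F.a 0)).toMonoidHom) where
  le := by
    rintro _ ⟨x, hx, rfl⟩
    exact mul_mem (mul_mem B.a0_T (h.le hx)) (inv_mem B.a0_T)
  comm := by
    rintro _ ⟨a, ha, rfl⟩ _ ⟨b, hb, rfl⟩
    rw [← map_mul, ← map_mul, h.comm a ha b hb]
  sq := by
    rintro _ ⟨a, ha, rfl⟩
    rw [← map_mul, h.sq a ha, map_one]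
  card := by rw [Subgroup.card_map_of_injective (MulAut.conj _).injective, h.card]
  self := fun x hx => by
    refine ⟨(B.F.a 0)⁻¹ * x * B.F.a 0, h.self (Subgroup.mem_centralizer_iff.2 fun a ha => ?_), by simp [mul_assoc]⟩
    have e := Subgroup.mem_centralizer_iff.1 hx _ ⟨a, ha, rfl⟩
    have e' := congrArg (fun y => (B.F.a 0)⁻¹ * y * B.F.a 0) e
    simpa [mul_assoc] using e'

/-- The possibilities in the Sylow subgroup. -/
theorem classify {A : Subgroup G} (h : B.Cand A) :
    A = B.A0 ∨ A.map (MulAut.conj (B.F.a 0)).toMonoidHom = B.A0 := by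
  classical
  set E0 := A ⊓ twoCoreOfCentralizer z with hE0
  have hel : ElemSet (B.F.img A) := Cand.elem B h
  have hprod := B.F.card_img h.le
  rw [h.card] at hprod
  change 2 ^ 10 = (B.F.img A).card * Nat.card ↥E0 at hprod
  have h7 : Nat.card ↥E0 ≤ 2 ^ 7 := S.card_comm_le inf_le_right fun a ha b hb => h.comm a ha.1 b hb.1
  have h256 : B.F.img A ⊆ Finset.range 256 := fun e he => Finset.mem_range.2 (B.F.img_lt he)
  have hgen : ∀ k ≤ 5, ∀ V ∈ lvl k, ∀ a ∈ V.1, a ∈ elemsT V.1 := fun k hk V hV a ha => by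
    have hm := List.all_eq_true.1 (List.all_eq_true.1 lvl_masks k (List.mem_range.2 (by omega))) V hV
    simp only [Bool.and_eq_true, List.all_eq_true, decide_eq_true_eq] at hm
    exact mem_elemsT V.1 a hm.2 ha
  have hmask : ∀ k ≤ 5, ∀ V ∈ lvl k, ∀ a, a ∈ elemsT V.1 ↔ V.2.testBit a = true := fun k hk V hV a => by
    have hm := List.all_eq_true.1 (List.all_eq_true.1 lvl_masks k (List.mem_range.2 (by omega))) V hV
    simp only [Bool.and_eq_true, beq_iff_eq] at hm
    rw [← hm.1.1, testBit_maskOf]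
  -- no rank five
  have h32 : (B.F.img A).card < 32 := by
    by_contra hcon
    obtain ⟨V, hV, hsub⟩ := exists_level hel 5 le_rfl (by rw [show (2 : ℕ) ^ 5 = 32 by norm_num]; omega)
    obtain ⟨-, hv⟩ := B.F.card_fixed_le h.comm (g := V.1) fun a ha => hsub a (hgen 5 le_rfl V hV a ha)
    have hf := List.all_eq_true.1 lvl_fix.2.1 V hV
    simp only [List.all_eq_true, Bool.or_eq_true, beq_iff_eq] at hf
    have h4 : Nat.card ↥E0 ≤ 4 := by
      refine le_trans (S.card_le_two_mul _ inf_le_right) (le_trans (Nat.mul_le_mul_left 2 (m := 2) ?_) (le_of_eq rfl))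
      refine le_trans (Nat.card_mono (Set.toFinite ({B.F.Φ 0, B.F.Φ 51} : Set V12)) ?_) ?_
      · rintro _ ⟨w, rfl⟩
        obtain ⟨v, hv', e⟩ := hv w w.2
        show S.rep w ∈ _
        rw [e]
        rcases hf v hv' with rfl | rfl <;> simp
      · rw [Nat.card_coe_set_eq]
        exact le_trans (Set.ncard_insert_le _ _) (by rw [Set.ncard_singleton])
    have hle := Finset.card_le_card h256
    rw [Finset.card_range] at hle
    have hall : B.F.img A = Finset.range 256 := Finset.eq_of_subset_of_card_le h256 (by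
      rw [Finset.card_range]; nlinarith)
    exact u_check.2.2.1 (hel.comm 1 (by rw [hall]; simp) 16 (by rw [hall]; simp))
  obtain ⟨a, -, ea⟩ := (Nat.dvd_prime_pow Nat.prime_two).1 (⟨_, hprod⟩ : (B.F.img A).card ∣ 2 ^ 10)
  have ha : a = 3 ∨ a = 4 := by
    have h1 : 2 ^ a < 2 ^ 5 := by rw [← ea]; exact h32
    have h2 : 2 ^ 3 ≤ 2 ^ a := by
      rw [← ea]
      by_contra hlt
      push Not at hlt
      nlinarith
    have := (Nat.pow_lt_pow_iff_right (by norm_num)).1 h1
    have := (Nat.pow_le_pow_iff_right (by norm_num)).1 h2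
    omega
  rcases ha with rfl | rfl
  · -- rank three
    rw [ea] at hprod
    have h128 : Nat.card ↥E0 = 2 ^ 7 := by norm_num at hprod ⊢; omega
    obtain ⟨V, hV, hsub⟩ := exists_level hel 3 (by norm_num) ea.ge
    have hVg : ∀ b ∈ V.1, b ∈ B.F.img A := fun b hb => hsub b (hgen 3 (by norm_num) V hV b hb)
    have hbit : ∀ b, V.2.testBit b = true → b ∈ B.F.img A := fun b hb =>
      hsub b ((hmask 3 (by norm_num) V hV b).2 hb)
    rcases lvl3_cases hV with ⟨hlt, hcount, hfix⟩ | ⟨-, hm | hm | hm⟩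
    · exfalso
      refine Cand.not_le_frame B h fun g hg => ?_
      obtain ⟨e, he, hr⟩ := h.le hg
      have heq : ((List.range 16).filter fun e => V.2.testBit e).toFinset = B.F.img A := by
        refine Finset.eq_of_subset_of_card_le (fun b hb => ?_) ?_
        · exact hbit b (List.mem_filter.1 (List.mem_toFinset.1 hb)).2
        · rw [List.toFinset_card_of_nodup (List.nodup_range.filter _), hcount, ea]; norm_num
      have he16 : e < 16 := by
        have hem : e ∈ B.F.img A := B.F.mem_img.2 ⟨he, g, hg, hr⟩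
        rw [← heq, List.mem_toFinset] at hem
        exact List.mem_range.1 (List.mem_filter.1 hem).1
      have hf := B.full_of_fixed h h128.ge (g := V.1) hVg id fun v hv => ⟨v, hfix v hv, rfl⟩
      have hb := B.toFrame.rep_bk he16
      have hbA : B.X.b e ∈ B.toFrame.A := ⟨128 * e, by omega, B.toFrame.Av_high he16⟩
      set m := (B.X.b e)⁻¹ * g with hm
      have hmE : m ∈ twoCoreOfCentralizer z := B.F.toCoord.eq_of_rep hb hr
      obtain ⟨v, hv, erep⟩ := B.F.surj (S.rep m)
      rw [show g = B.X.b e * m by rw [hm, mul_inv_cancel_left]]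
      refine mul_mem hbA (B.toFrame.low_mem_A hmE ?_ erep.symm)
      have hq := List.all_eq_true.1 atwo_check.2.1 v (List.mem_range.2 hv)
      simp only [Bool.or_eq_true, decide_eq_true_eq, List.any_eq_true, List.mem_range] at hq
      refine hq.resolve_right ?_
      rintro ⟨j, hj, hbv⟩
      obtain ⟨x, hx, ex⟩ := hf (2 ^ j) (Nat.pow_lt_pow_right (by norm_num) hj)
      have hxA := B.toFrame.low_mem_A hx.2 (Nat.pow_lt_pow_right (by norm_num) hj : 2 ^ j < 64) ex
      have hcm : m * x = x * m := (((show Commute (B.X.b e) x from B.toFrame.A_comm _ hbA _ hxA).inv_left).mul_left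
        (h.comm g hg x hx.1)).eq
      have := B.F.toCoord.core_comm hmE hx.2 hv
        ((Nat.pow_lt_pow_right (by norm_num) hj : 2 ^ j < 64).trans (by norm_num)) erep.symm ex
      rw [hcm, hbv] at this
      exact S.ext.ne (left_eq_mul.1 this)
    · left
      refine B.eq_of_ux h h128.ge (fun k hk => hbit _ ?_) (by rw [ea]; norm_num)
      rw [hm, testBit_maskOf]
      show uIdx.getD k 0 ∈ uIdx
      interval_cases k <;> decide
    · right
      set A' := A.map (MulAut.conj (B.F.a 0)).toMonoidHom with hA'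
      have hc' := B.cand_conj h
      refine B.eq_of_ux hc' ?_ (fun k hk => ?_) ?_
      · rw [← h128]
        refine Nat.card_le_card_of_injective (fun x : ↥E0 => (⟨B.F.a 0 * (x : G) * (B.F.a 0)⁻¹,
          ⟨(x : G), (Subgroup.mem_inf.1 x.2).1, rfl⟩, S.ext.norm _ (S.commz (B.F.a_mem 0 (by norm_num))) _
            (Subgroup.mem_inf.1 x.2).2⟩ : ↥(A' ⊓ twoCoreOfCentralizer z))) fun x y e => Subtype.ext ?_
        have := congrArg Subtype.val e
        exact mul_left_cancel (mul_right_cancel this)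
      · have hu := List.all_eq_true.1 u_check.1 k (List.mem_range.2 hk)
        simp only [Bool.and_eq_true, decide_eq_true_eq, beq_iff_eq] at hu
        obtain ⟨-, x, hx, hr⟩ := B.F.mem_img.1 (hbit (uIdx2.getD k 0) (by
          rw [hm, testBit_maskOf]; interval_cases k <;> decide))
        refine B.F.mem_img.2 ⟨(ux_spec hk).1, _, ⟨x, hx, rfl⟩, ?_⟩
        have ra := B.F.toCoord.rep_a (i := 0) (by norm_num)
        obtain ⟨N, hN⟩ := B.F.toCoord.exists_rep (g := (B.F.a 0)⁻¹) (S.commz (inv_mem (B.F.a_mem 0 (by norm_num))))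
        obtain ⟨g, hg⟩ := B.F.tb_exists (ux_spec hk).1
        have h1 := B.F.toCoord.rep_mul (B.F.toCoord.rep_mul ra hr) hN
        have h2 := B.F.toCoord.rep_mul (B.F.toCoord.rep_mul hg ra) hN
        rw [mul_inv_cancel_right] at h2
        rw [hu.2, ← B.F.toCoord.rep_unique hg h2] at h1
        exact h1
      · have h1 := B.F.card_img hc'.le
        rw [hc'.card] at h1
        have h2 : Nat.card ↥E0 ≤ Nat.card ↥(A' ⊓ twoCoreOfCentralizer z) := by
          refine Nat.card_le_card_of_injective (fun x : ↥E0 => (⟨B.F.a 0 * (x : G) * (B.F.a 0)⁻¹,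
            ⟨(x : G), (Subgroup.mem_inf.1 x.2).1, rfl⟩, S.ext.norm _ (S.commz (B.F.a_mem 0 (by norm_num))) _
              (Subgroup.mem_inf.1 x.2).2⟩ : ↥(A' ⊓ twoCoreOfCentralizer z))) fun x y e => Subtype.ext ?_
          exact mul_left_cancel (mul_right_cancel (congrArg Subtype.val e))
        rw [h128] at h2
        nlinarith
    · exfalso
      have := (B.F.card_fixed_le h.comm hVg).1
      change Nat.card ↥E0 ≤ _ at this
      rw [h128] at this
      omega
  · -- rank four
    exfalso
    rw [ea] at hprod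
    have h64 : Nat.card ↥E0 = 2 ^ 6 := by norm_num at hprod ⊢; omega
    obtain ⟨V, hV, hsub⟩ := exists_level hel 4 (by norm_num) ea.ge
    have hV2 : V.2 = 65535 := by
      refine (lvl4_cases hV).resolve_right fun hlt => ?_
      have := (B.F.card_fixed_le h.comm (g := V.1) fun b hb => hsub b (hgen 4 (by norm_num) V hV b hb)).1
      change Nat.card ↥E0 ≤ _ at this
      rw [h64] at this
      omega
    have hin : ∀ k < 16, k ∈ B.F.img A := fun k hk => hsub k (by
      rw [hmask 4 (by norm_num) V hV k, hV2, ← lvl_fix.2.2, testBit_maskOf]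
      exact List.mem_range.2 hk)
    have himg : ∀ e ∈ B.F.img A, e < 16 := fun e he => by
      have heq : Finset.range 16 = B.F.img A := Finset.eq_of_subset_of_card_le
        (fun k hk => hin k (Finset.mem_range.1 hk)) (by rw [ea, Finset.card_range]; norm_num)
      rw [← heq] at he
      exact Finset.mem_range.1 he
    have hlow : ∀ w ∈ E0, ∃ n < 64, S.rep w = B.F.Φ n := fun w hw => by
      obtain ⟨v, hv, e⟩ := (B.F.card_fixed_le h.comm (g := [1, 2, 4, 8]) fun b hb => hin b (by
        simp only [List.mem_cons, List.not_mem_nil, or_false] at hb; omega)).2 w hw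
      exact ⟨v, of_decide_eq_true (List.all_eq_true.1 atwo_check.2.2 v hv), e⟩
    set D := A ⊓ B.toFrame.A with hD
    have hE0D : E0 ≤ D := fun w hw => by
      obtain ⟨n, hn, e⟩ := hlow w hw
      exact ⟨hw.1, B.toFrame.low_mem_A hw.2 hn e⟩
    -- the low vectors of the core part
    let R : Finset ℕ := (Finset.range 64).filter fun n => B.F.Φ n ∈ Set.range fun w : ↥E0 => S.rep w
    have hR : 32 ≤ R.card := by
      have h1 := S.card_le_two_mul E0 inf_le_right
      have h2 : Nat.card ↥(Set.range fun w : ↥E0 => S.rep w) ≤ R.card := by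
        rw [Nat.card_coe_set_eq, ← Set.ncard_coe_finset]
        refine le_trans (Set.ncard_le_ncard (t := B.F.Φ '' (R : Set ℕ)) ?_ ((Finset.finite_toSet _).image _))
          (Set.ncard_image_le (Finset.finite_toSet _))
        rintro _ ⟨w, rfl⟩
        obtain ⟨n, hn, e⟩ := hlow w w.2
        exact ⟨n, Finset.mem_coe.2 (Finset.mem_filter.2 ⟨Finset.mem_range.2 hn, w, e⟩), e.symm⟩
      rw [h64] at h1
      omega
    -- the vector of an element
    have hvec : ∀ g ∈ A, ∃ e < 16, ∃ v < 4096, (B.X.b e)⁻¹ * g ∈ twoCoreOfCentralizer z ∧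
        S.rep ((B.X.b e)⁻¹ * g) = B.F.Φ v ∧ B.X.b e ∈ B.toFrame.A ∧ B.F.toCoord.Rep (B.X.b e) (akM.getD e []) ∧
        (∀ n ∈ R, bv v n = false) ∧ (v < 64 → g ∈ D) := by
      intro g hg
      obtain ⟨e, he, hr⟩ := h.le hg
      have he16 := himg e (B.F.mem_img.2 ⟨he, g, hg, hr⟩)
      have hb := B.toFrame.rep_bk he16
      have hbA : B.X.b e ∈ B.toFrame.A := ⟨128 * e, by omega, B.toFrame.Av_high he16⟩
      have hmE : (B.X.b e)⁻¹ * g ∈ twoCoreOfCentralizer z := B.F.toCoord.eq_of_rep hb hr
      obtain ⟨v, hv, erep⟩ := B.F.surj (S.rep ((B.X.b e)⁻¹ * g))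
      refine ⟨e, he16, v, hv, hmE, erep.symm, hbA, B.toFrame.rep_b e he16, fun n hn => ?_, fun hv64 => ⟨hg, ?_⟩⟩
      · obtain ⟨hn64, w, ew⟩ := Finset.mem_filter.1 hn
        have hcm : (B.X.b e)⁻¹ * g * w = w * ((B.X.b e)⁻¹ * g) :=
          (((show Commute (B.X.b e) w from B.toFrame.A_comm _ hbA _ (hE0D w.2).2).inv_left).mul_left
            (h.comm g hg w w.2.1)).eq
        have := B.F.toCoord.core_comm hmE w.2.2 hv ((Finset.mem_range.1 hn64).trans (by norm_num)) erep.symm ew
        rw [hcm] at this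
        cases hbn : bv v n
        · rfl
        · rw [hbn] at this; exact absurd (left_eq_mul.1 this) S.ext.ne
      · rw [show g = B.X.b e * ((B.X.b e)⁻¹ * g) by rw [mul_inv_cancel_left]]
        exact mul_mem hbA (B.toFrame.low_mem_A hmE hv64 erep.symm)
    have hker : ∀ v < 4096, 64 ≤ v → (∀ n ∈ R, bv v n = false) →
        R = (Finset.range 64).filter fun w => bv v w = false := fun v hv h64' hv' => by
      refine Finset.eq_of_subset_of_card_le (fun n hn => Finset.mem_filter.2
        ⟨(Finset.mem_filter.1 hn).1, hv' n hn⟩) (le_trans (le_of_eq ?_) hR)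
      have hc := List.all_eq_true.1 half_check (v / 64) (List.mem_range.2 (by omega))
      simp only [Bool.or_eq_true, beq_iff_eq] at hc
      rw [← hc.resolve_left (by omega), ← List.toFinset_card_of_nodup (List.nodup_range.filter _)]
      congr 1
      ext w
      simp only [List.mem_toFinset, List.mem_filter, List.mem_range, Finset.mem_filter, Finset.mem_range,
        Bool.not_eq_true']
      refine and_congr_right fun hw => ?_
      have hv2 : v = 64 * (v / 64) ^^^ v % 64 := (split_six v).symm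
      conv_lhs => rw [hv2, B.F.toCoord.bv_xor (by omega) (by omega) (by omega), low_bv (Nat.mod_lt v (by norm_num)) hw,
        Bool.xor_false]
    obtain ⟨g, hg, hgD⟩ : ∃ g ∈ A, g ∉ D := by
      by_contra hcon
      push Not at hcon
      exact Cand.not_le_frame B h fun x hx => (hcon x hx).2
    obtain ⟨e, he, v, hv, hmE, erep, hbA, hbr, hvR, hvD⟩ := hvec g hg
    have hv64 : 64 ≤ v := Nat.le_of_not_lt fun hlt => hgD (hvD hlt)
    -- two classes
    have hcl : ∀ x ∈ A, x ∉ D → g * x ∈ D := by
      intro x hx hxD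
      obtain ⟨e', he', v', hv', hmE', erep', hbA', hbr', hvR', hvD'⟩ := hvec x hx
      have hv64' : 64 ≤ v' := Nat.le_of_not_lt fun hlt => hxD (hvD' hlt)
      obtain ⟨e'', he'', v'', hv'', hmE'', erep'', hbA'', -, -, hvD''⟩ := hvec (g * x) (mul_mem hg hx)
      refine hvD'' ?_
      set m := (B.X.b e)⁻¹ * g with hm
      set m' := (B.X.b e')⁻¹ * x with hm'
      have heq : e'' = e ^^^ e' := by
        refine B.F.img_eq_of_mem (by omega) ((Nat.xor_lt_two_pow (n := 4) he he').trans (by norm_num))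
          (B.toFrame.rep_bk he'') (B.toFrame.rep_bk (Nat.xor_lt_two_pow (n := 4) he he')) ?_
        rw [← B.X.mul e he e' he', show (B.X.b e'')⁻¹ * (B.X.b e * B.X.b e') =
          ((B.X.b e'')⁻¹ * (g * x)) * ((B.X.b e')⁻¹ * m * B.X.b e' * m')⁻¹ by rw [hm, hm']; group]
        exact mul_mem hmE'' (inv_mem (mul_mem (by
          have := S.ext.norm (B.X.b e')⁻¹ (conj_inv_comm hbr'.hz) m hmE
          rwa [inv_inv] at this) hmE'))
      have hmid : (B.X.b e')⁻¹ * m * B.X.b e' ∈ twoCoreOfCentralizer z := by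
        have := S.ext.norm (B.X.b e')⁻¹ (conj_inv_comm hbr'.hz) m hmE
        rwa [inv_inv] at this
      have hr2 : S.rep ((B.X.b e')⁻¹ * m * B.X.b e') = B.F.Φ (app (akM.getD e' []) v) := by
        have hb2 : B.X.b e' * B.X.b e' = 1 := by
          rw [B.X.mul e' he' e' he', Nat.xor_self, B.X.b_zero]
        have hinv : (B.X.b e')⁻¹ = B.X.b e' := inv_eq_of_mul_eq_one_right hb2
        have := S.act_rep (B.X.b e') hbr'.hz m hmE
        rw [hinv] at this ⊢
        rw [← this, erep, hbr'.eq v hv]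
      have hprod2 : (B.X.b e'')⁻¹ * (g * x) = (B.X.b e')⁻¹ * m * B.X.b e' * m' := by
        rw [heq, ← B.X.mul e he e' he', hm, hm']; group
      have hfin := S.rep_mul _ hmid _ hmE'
      rw [← hprod2, erep'', hr2, erep', ← B.F.add] at hfin
      have hlt2 : app (akM.getD e' []) v ^^^ v' < 4096 :=
        Nat.xor_lt_two_pow (n := 12) (app_lt_of_ok hbr'.ok v) hv'
      rw [B.F.inj _ hv'' _ hlt2 hfin]
      have h1 := akM_low he' v hv
      have h2 : v ^^^ v' < 64 := by
        have hvv : v ^^^ v' < 4096 := Nat.xor_lt_two_pow (n := 12) hv hv'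
        have hq := List.all_eq_true.1 atwo_check.2.1 _ (List.mem_range.2 hvv)
        simp only [Bool.or_eq_true, decide_eq_true_eq, List.any_eq_true, List.mem_range] at hq
        refine hq.resolve_right ?_
        rintro ⟨j, hj, hbv⟩
        have hp : (2 : ℕ) ^ j < 64 := Nat.pow_lt_pow_right (by norm_num) hj
        rw [B.F.toCoord.bv_xor hv hv' (hp.trans (by norm_num))] at hbv
        have k1 := hker v hv hv64 hvR
        have k2 := hker v' hv' hv64' hvR'
        have hiff : bv v (2 ^ j) = false ↔ bv v' (2 ^ j) = false := by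
          have := congrArg (fun s : Finset ℕ => 2 ^ j ∈ s) (k1.symm.trans k2)
          simpa [hp] using this
        cases hb1 : bv v (2 ^ j) <;> cases hb2 : bv v' (2 ^ j) <;> simp_all
      have h3 := Nat.xor_lt_two_pow (n := 6) h1 h2
      rwa [Nat.xor_assoc, ← Nat.xor_assoc v, Nat.xor_self, Nat.zero_xor] at h3
    have hcard : Nat.card ↥A ≤ 2 * Nat.card ↥D := by
      rw [mul_comm, ← Nat.card_fin 2, ← Nat.card_prod]
      refine Nat.card_le_card_of_injective (fun x : ↥A => if hx : (x : G) ∈ D then ((⟨x, hx⟩ : ↥D), (0 : Fin 2))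
        else ((⟨g * x, hcl x x.2 hx⟩ : ↥D), (1 : Fin 2))) fun x y exy => ?_
      simp only at exy
      split_ifs at exy
      · exact Subtype.ext (congrArg (fun u : ↥D × Fin 2 => (u.1 : G)) exy)
      · exact absurd (congrArg Prod.snd exy) (by simp)
      · exact absurd (congrArg Prod.snd exy) (by simp)
      · exact Subtype.ext (mul_left_cancel (congrArg (fun u : ↥D × Fin 2 => (u.1 : G)) exy))
    have hDimg : 8 ≤ (B.F.img D).card := by
      have hp := B.F.card_img (inf_le_left.trans h.le : D ≤ B.F.T)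
      have hle : Nat.card ↥(D ⊓ twoCoreOfCentralizer z) ≤ 2 ^ 6 := by
        rw [← h64]
        exact Nat.card_le_card_of_injective _ (Subgroup.inclusion_injective (inf_le_inf_right _ inf_le_left))
      rw [h.card] at hcard
      nlinarith
    have helD : ElemSet (B.F.img D) := B.F.img_elem (fun x hx => by rw [h.sq x hx.1]; exact one_mem _)
      fun x hx k hk => by rw [h.comm x hx.1 k hk.1, inv_mul_cancel]; exact one_mem _
    obtain ⟨W, hW, hWsub⟩ := exists_level helD 3 (by norm_num) (by norm_num; exact hDimg)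
    have hW16 : ∀ b ∈ elemsT W.1, b < 16 := fun b hb => by
      obtain ⟨hb', x, hx, hr⟩ := B.F.mem_img.1 (hWsub b hb)
      exact himg b (B.F.mem_img.2 ⟨hb', x, hx.1, hr⟩)
    have hWfix : ∀ u ∈ fixedBy W.1, u < 64 := by
      rcases lvl3_cases hW with hc | ⟨hn, -⟩
      · exact hc.2.2
      · exfalso
        refine hn (show W.2 < 2 ^ 16 from Nat.lt_pow_two_of_testBit _ fun j hj => ?_)
        rw [← Bool.not_eq_true]
        intro hb
        have := hW16 j ((hmask 3 (by norm_num) W hW j).2 hb)
        omega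
    refine (Nat.not_lt.2 hv64) (hWfix v (mem_fixedBy hv fun b hb => ?_))
    obtain ⟨hb', x, hx, hr⟩ := B.F.mem_img.1 (hWsub b (hgen 3 (by norm_num) W hW b hb))
    have hcm : x * ((B.X.b e)⁻¹ * g) = ((B.X.b e)⁻¹ * g) * x :=
      ((show Commute x (B.X.b e) from B.toFrame.A_comm x hx.2 _ hbA).inv_right.mul_right (h.comm x hx.1 g hg)).eq
    refine (B.F.inj _ hv _ (app_lt_of_ok hr.ok _) ?_).symm
    rw [← hr.eq v hv, ← erep, S.act_rep x hr.hz _ hmE, hcm, mul_inv_cancel_right]

end Pen

end Cfsg.Agent.Spor.JFour
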